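import Groth.Agent.Divis.AmpleFin
import Groth.Agent.Sga3C.DimTop
import Mathlib.AlgebraicGeometry.Noetherian

/-!
# Sections of a power of an ample module without common zeros

On a Noetherian scheme of dimension `≤ g` with an ample invertible module `L` there are `N ≥ 1` and `g + 1` sections of
`L ^ N` with affine nonvanishing loci covering `X`, all not vanishing at a given point.
-/

set_option autoImplicit false
universe u

open CategoryTheory CategoryTheory.Limits AlgebraicGeometry Opposite TopologicalSpace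

namespace Groth.Agent.Grpsch.GrowthCut

open Groth.Agent.Divis.AmpleFin

variable {X : Scheme.{u}}

/-- generic points of a closed subset of a Noetherian scheme -/
theorem exists_generic [NoetherianSpace X] (Z : Set X) (hZ : IsClosed Z) :
    ∃ E : Set X, E.Finite ∧ E ⊆ Z ∧ ∀ p ∈ Z, ∃ q ∈ E, q ⤳ p := by
  classical
  obtain ⟨S, hSf, hSc, hSi, hS⟩ := NoetherianSpace.exists_finite_set_isClosed_irreducible hZ
  rcases isEmpty_or_nonempty X with hX | hX
  · exact ⟨∅, Set.finite_empty, Set.empty_subset _, fun p => (hX.false p).elim⟩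
  choose! q hq using fun (t : Set X) (ht : t ∈ S) => QuasiSober.sober (hSi t ht) (hSc t ht)
  refine ⟨q '' S, hSf.image q, ?_, ?_⟩
  · rintro _ ⟨t, ht, rfl⟩
    rw [hS]
    exact ⟨t, ht, (hq t ht).mem⟩
  · intro p hp
    rw [hS] at hp
    obtain ⟨t, ht, hpt⟩ := hp
    exact ⟨q t, ⟨t, ht, rfl⟩, (hq t ht).specializes hpt⟩

theorem exists_sections_aux [NoetherianSpace X] {L : X.Modules} (hL : CohB1.IsAmple L) (η : X) (k : ℕ) :
    ∀ Z : Set X, IsClosed Z → (∀ p ∈ Z, Order.height p < k) →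
    ∃ (n : Fin k → ℕ) (t : ∀ i, Coh.structureModule X ⟶ CohB1.tensorPow L (n i + 1)),
      (∀ i, IsAffineOpen (CohB1.genLocus _ (t i))) ∧ (∀ i, η ∈ CohB1.genLocus _ (t i)) ∧
      ∀ p ∈ Z, ∃ i, p ∈ CohB1.genLocus _ (t i) := by
  induction k with
  | zero =>
    intro Z _ hd
    refine ⟨fun i => i.elim0, fun i => i.elim0, fun i => i.elim0, fun i => i.elim0, fun p hp => ?_⟩
    have := hd p hp
    simp at this
  | succ k ih =>
    intro Z hZ hd
    obtain ⟨E, hE, hEZ, hE'⟩ := exists_generic Z hZ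
    obtain ⟨m, t, ht, -, haff⟩ := exists_genLocus_of_finite hL (insert η E) (hE.insert η) ⊤
      (fun _ _ => trivial)
    obtain ⟨n, t', h1, h2, h3⟩ := ih (Z ∩ (CohB1.genLocus _ t : Set X)ᶜ)
      (hZ.inter (CohB1.genLocus _ t).isOpen.isClosed_compl) (by
        rintro p ⟨hpZ, hpt⟩
        obtain ⟨q, hq, hqp⟩ := hE' p hpZ
        have hqt : q ∈ CohB1.genLocus _ t := ht (Set.mem_insert_of_mem _ hq)
        have hle : p ≤ q := hqp
        have hlt : p < q := by
          refine lt_of_le_not_ge hle fun hge => ?_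
          have hpq : p ⤳ q := hge
          exact hpt (hpq.mem_open (CohB1.genLocus _ t).isOpen hqt)
        have hq' : Order.height q < ((k + 1 : ℕ) : ℕ∞) := hd q (hEZ hq)
        have hqtop : Order.height q < ⊤ := lt_of_lt_of_le hq' le_top
        have h4 : Order.height p < Order.height q :=
          Order.height_strictMono hlt (lt_of_le_of_lt (Order.height_mono hle) hqtop)
        have h5 : Order.height q ≤ (k : ℕ∞) := by
          rw [Nat.cast_add, Nat.cast_one] at hq'
          exact ENat.lt_add_one_iff (ENat.natCast_ne_top k) |>.mp hq'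
        exact lt_of_lt_of_le h4 h5)
    refine ⟨Fin.cons m n, Fin.cons t t', ?_, ?_, ?_⟩
    · refine Fin.cases haff fun i => h1 i
    · refine Fin.cases (ht (Set.mem_insert _ _)) fun i => h2 i
    · intro p hp
      by_cases hpt : p ∈ CohB1.genLocus _ t
      · exact ⟨0, hpt⟩
      · obtain ⟨i, hi⟩ := h3 p ⟨hp, hpt⟩
        exact ⟨i.succ, hi⟩

theorem exists_sections [NoetherianSpace X] {L : X.Modules} (hL : CohB1.IsAmple L) (η : X) (g : ℕ)
    (hg : topologicalKrullDim X ≤ g) :
    ∃ (N : ℕ) (t : Fin (g + 1) → (Coh.structureModule X ⟶ CohB1.tensorPow L (N + 1))),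
      (∀ i, IsAffineOpen (CohB1.genLocus _ (t i))) ∧ (∀ i, η ∈ CohB1.genLocus _ (t i)) ∧
      ∀ p, ∃ i, p ∈ CohB1.genLocus _ (t i) := by
  have : CompactSpace X := hL.2.1
  obtain ⟨n, t, h1, h2, h3⟩ := exists_sections_aux hL η (g + 1) Set.univ isClosed_univ (by
    intro p _
    have h4 : ((Order.height p : ℕ∞) : WithBot ℕ∞) ≤ (g : WithBot ℕ∞) := by
      refine le_trans ?_ hg
      rw [Groth.Agent.Sga3C.DimTop.topologicalKrullDim_eq_krullDim]
      exact Order.height_le_krullDim p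
    have h5 : Order.height p ≤ (g : ℕ∞) := by exact_mod_cast h4
    refine lt_of_le_of_lt h5 ?_
    exact_mod_cast Nat.lt_succ_self g)
  have key : ∃ N : ℕ, ∀ i, ∃ m, 0 < m ∧ (n i + 1) * m = N + 1 := by
    refine ⟨∏ i, (n i + 1) - 1, fun i => ?_⟩
    obtain ⟨m, hm⟩ := Finset.dvd_prod_of_mem (fun i => n i + 1) (Finset.mem_univ i)
    have hpos : 0 < ∏ i, (n i + 1) := Finset.prod_pos fun i _ => Nat.succ_pos _
    refine ⟨m, ?_, ?_⟩
    · rcases Nat.eq_zero_or_pos m with rfl | h
      · rw [hm] at hpos; simp at hpos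
      · exact h
    · rw [← hm]
      omega
  obtain ⟨N, hN⟩ := key
  choose m hm0 hm using hN
  have key2 : ∀ i, ∃ t' : Coh.structureModule X ⟶ CohB1.tensorPow L (N + 1),
      CohB1.genLocus _ t' = CohB1.genLocus _ (t i) := by
    intro i
    obtain ⟨t₁, ht₁⟩ := exists_pow hL.1 (t i) (hm0 i)
    obtain ⟨t₂, ht₂⟩ := exists_cast (hm i) t₁
    exact ⟨t₂, ht₂.trans ht₁⟩
  choose t' ht' using key2
  refine ⟨N, t', fun i => ht' i ▸ h1 i, fun i => ht' i ▸ h2 i, fun p => ?_⟩
  obtain ⟨i, hi⟩ := h3 p trivial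
  exact ⟨i, ht' i ▸ hi⟩

end Groth.Agent.Grpsch.GrowthCut
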