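import Groth.Agent.Grpsch.AbEtale

/-!
# Base change of group schemes to the algebraic closure
-/

set_option autoImplicit false

open CategoryTheory Limits MonoidalCategory CartesianMonoidalCategory MonObj AlgebraicGeometry

namespace Groth.Agent.Grpsch.AbBC

open AbRing AbTangent AbStalk AbEtale

universe u

/-- the square expressing `f^*(g)` as a base change of `g`. -/
lemma isPullback_pullback_map {S S' : Scheme.{u}} (f : S' ⟶ S) {A B : Over S} (g : A ⟶ B) :
    IsPullback ((Over.pullback f).map g).left (pullback.fst A.hom f) (pullback.fst B.hom f)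
      g.left := by
  have h1 : IsPullback (pullback.snd B.hom f) (pullback.fst B.hom f) f B.hom :=
    (IsPullback.of_hasPullback B.hom f).flip
  refine IsPullback.of_right ?_ ?_ h1
  · have h2 : ((Over.pullback f).map g).left ≫ pullback.snd B.hom f = pullback.snd A.hom f :=
      Over.w ((Over.pullback f).map g)
    have h3 : g.left ≫ B.hom = A.hom := Over.w g
    rw [h2, h3]
    exact (IsPullback.of_hasPullback A.hom f).flip
  · exact pullback.lift_fst _ _ _

variable {K : Type u} [Field K]

/-- a property descends from the algebraic closure. -/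
lemma of_pullback_map {P : MorphismProperty Scheme.{u}}
    [P.DescendsAlong (@Surjective ⊓ @Flat ⊓ @QuasiCompact)] {L : Type u} [Field L] [Algebra K L]
    {A B : Over (Spec (.of K))} (g : A ⟶ B)
    (h : P ((Over.pullback (Spec.map (CommRingCat.ofHom (algebraMap K L)))).map g).left) :
    P g.left := by
  refine MorphismProperty.of_isPullback_of_descendsAlong (Q := @Surjective ⊓ @Flat ⊓ @QuasiCompact)
    (isPullback_pullback_map (Spec.map (CommRingCat.ofHom (algebraMap K L))) g) ?_ h
  exact ⟨⟨inferInstance, inferInstance⟩, inferInstance⟩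

lemma smooth_hom (A : Over (Spec (.of K))) [hA : GrpObj A] [LocallyOfFiniteType A.hom]
    [GeometricallyReduced A.hom] : Smooth A.hom :=
  @smooth_of_grpObj K _ A.left A.hom _ hA _

section

attribute [local instance] Functor.grpObjObj

lemma map_zpow_one {S S' : Scheme.{u}} (f : S' ⟶ S) (A : Over S) [GrpObj A] (d : ℤ) :
    (Over.pullback f).map (𝟙 A ^ d) = 𝟙 ((Over.pullback f).obj A) ^ d := by
  rw [← CategoryTheory.Functor.map_id]
  exact map_zpow (Functor.homMonoidHom (Over.pullback f) (X := A) (M := A)) (𝟙 A) d

/-- `[d]` is étale on an abelian variety if `d` is invertible in the field. -/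
theorem etale_zpow (A : Over (Spec (.of K))) [GrpObj A] [IsProper A.hom]
    [GeometricallyIntegral A.hom] {d : ℤ} (hd : (d : K) ≠ 0) : Etale (𝟙 A ^ d).left := by
  apply of_pullback_map (P := @Etale) (L := AlgebraicClosure K)
  rw [map_zpow_one]
  have : IsProper ((Over.pullback (Spec.map (CommRingCat.ofHom
      (algebraMap K (AlgebraicClosure K))))).obj A).hom := by
    dsimp; infer_instance
  have : GeometricallyIntegral ((Over.pullback (Spec.map (CommRingCat.ofHom
      (algebraMap K (AlgebraicClosure K))))).obj A).hom := by
    dsimp; infer_instance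
  have : IsCommMonObj ((Over.pullback (Spec.map (CommRingCat.ofHom
      (algebraMap K (AlgebraicClosure K))))).obj A) :=
    isCommMonObj_of_isProper_of_geometricallyIntegral _
  have := smooth_hom ((Over.pullback (Spec.map (CommRingCat.ofHom
      (algebraMap K (AlgebraicClosure K))))).obj A)
  have hd' : (d : AlgebraicClosure K) ≠ 0 := by
    rw [← map_intCast (algebraMap K (AlgebraicClosure K)), Ne, map_eq_zero]
    exact hd
  exact etale_zpow_of_isAlgClosed hd'

end

end Groth.Agent.Grpsch.AbBC
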