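import Mathlib.AlgebraicGeometry.ZariskisMainTheorem
import Mathlib.AlgebraicGeometry.Fiber
import Groth.Prelude.Def_Hens2

set_option autoImplicit false
universe u
open CategoryTheory CategoryTheory.Limits AlgebraicGeometry

namespace Groth.Agent.Grpsch.EtLoc

lemma isIso_iff_bijective {A B : CommRingCat.{u}} (f : A ⟶ B) :
    IsIso f ↔ Function.Bijective f := ConcreteCategory.isIso_iff_bijective f

/-- When the residue field extension of `g` at `p'` is trivial, points of `X ×_S S'` over `p'` are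
determined by their image in `X`. -/
lemma eq_of_fst_eq_of_snd_eq {X S S' : Scheme.{u}} (f : X ⟶ S) (g : S' ⟶ S) (p' : S')
    (hres : Function.Bijective (g.residueFieldMap p')) {x y : ↥(pullback f g)}
    (hx : pullback.snd f g x = p') (hy : pullback.snd f g y = p')
    (h : pullback.fst f g x = pullback.fst f g y) : x = y := by
  have hiso : IsIso (g.residueFieldMap p') := (isIso_iff_bijective _).mpr hres
  have H := isPullback_fiberToSpecResidueField_of_isPullback (IsPullback.of_hasPullback f g) p'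
  have hiso2 : IsIso (Spec.map (g.residueFieldMap p')) := inferInstance
  have hiso3 := H.isIso_fst_of_isIso
  have hx' : x ∈ Set.range ((pullback.snd f g).fiberι p') := by
    rw [Scheme.Hom.range_fiberι]; exact hx
  have hy' : y ∈ Set.range ((pullback.snd f g).fiberι p') := by
    rw [Scheme.Hom.range_fiberι]; exact hy
  obtain ⟨a, rfl⟩ := hx'
  obtain ⟨b, rfl⟩ := hy'
  congr 1
  let m : (pullback.snd f g).fiber p' ⟶ f.fiber (g p') :=
    pullback.map (pullback.snd f g) (S'.fromSpecResidueField p') f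
        (S.fromSpecResidueField (g p')) (pullback.fst f g)
      (Spec.map (Scheme.Hom.residueFieldMap g p')) g pullback.condition.symm (by simp)
  have hm : IsIso m := hiso3
  have hc : (pullback.snd f g).fiberι p' ≫ pullback.fst f g = m ≫ f.fiberι (g p') :=
    (pullback.lift_fst _ _ _).symm
  rw [← Scheme.Hom.comp_apply, ← Scheme.Hom.comp_apply, hc, Scheme.Hom.comp_apply,
    Scheme.Hom.comp_apply] at h
  exact m.homeomorph.injective ((f.fiberι (g p')).isEmbedding.injective h)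

/-- Bijectivity of the residue field extension of `h₁` at `p₃`, from a field-valued point of the
source. -/
lemma residueFieldMap_bijective_of_comp {X Y Z : Scheme.{u}} (f : X ⟶ Y) (g : Y ⟶ Z) (x : X)
    (h : Function.Bijective ((f ≫ g).residueFieldMap x)) :
    Function.Bijective (g.residueFieldMap (f x)) := by
  rw [Scheme.residueFieldMap_comp] at h
  have h2 : Function.Injective (f.residueFieldMap x) :=
    (f.residueFieldMap x).hom.injective
  refine ⟨(g.residueFieldMap (f x)).hom.injective, fun y => ?_⟩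
  obtain ⟨z, hz⟩ := h.2 ((f.residueFieldMap x) y)
  exact ⟨z, h2 hz⟩

set_option backward.isDefEq.respectTransparency false in
lemma residueFieldMap_SpecMap {A B : CommRingCat.{u}} (φ : A ⟶ B) (P : Spec B) :
    (Spec.map φ).residueFieldMap P ≫ (Scheme.Spec.residueFieldIso B P).hom =
    (Scheme.Spec.residueFieldIso A (Spec.map φ P)).hom ≫ CommRingCat.ofHom
      (Ideal.ResidueField.map (Spec.map φ P).asIdeal P.asIdeal φ.hom rfl) := by
  rw [← Iso.inv_comp_eq, ← Category.assoc, ← Iso.eq_comp_inv]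
  apply Spec.map_injective
  have hmono : Mono (Spec.map (CommRingCat.ofHom (algebraMap A (Spec.map φ P).asIdeal.ResidueField))) := by
    have : Spec.map (CommRingCat.ofHom (algebraMap A (Spec.map φ P).asIdeal.ResidueField)) =
      Spec.map (Scheme.Spec.residueFieldIso _ _).hom ≫ (Spec A).fromSpecResidueField (Spec.map φ P) := by
      rw [← Scheme.Spec.map_residueFieldIso_inv_eq_fromSpecResidueField, ← Spec.map_comp_assoc]
      simp
    rw [this]
    infer_instance
  rw [← cancel_mono (Spec.map (CommRingCat.ofHom (algebraMap A (Spec.map φ P).asIdeal.ResidueField)))]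
  simp only [Spec.map_comp, Category.assoc, Scheme.Spec.map_residueFieldIso_inv_eq_fromSpecResidueField]
  refine (Scheme.Hom.SpecMap_residueFieldMap_fromSpecResidueField (Spec.map φ) P).trans ?_
  rw [← Scheme.Spec.map_residueFieldIso_inv_eq_fromSpecResidueField]
  simp only [Category.assoc, ← Spec.map_comp]
  congr 1
  rw [← Category.assoc, ← Category.assoc]
  congr 1
  ext x
  simp [Ideal.ResidueField.map_algebraMap]

lemma residueFieldMap_SpecMap_bijective {A B : CommRingCat.{u}} (φ : A ⟶ B) (P : Spec B)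
    (I : Ideal A) [I.IsPrime] (hI : I = P.asIdeal.comap φ.hom)
    (h : Function.Bijective (Ideal.ResidueField.map I P.asIdeal φ.hom hI)) :
    Function.Bijective ((Spec.map φ).residueFieldMap P) := by
  subst hI
  rw [← isIso_iff_bijective]
  have h1 : IsIso (CommRingCat.ofHom
      (Ideal.ResidueField.map (Spec.map φ P).asIdeal P.asIdeal φ.hom rfl)) :=
    (isIso_iff_bijective _).mpr h
  have h2 : IsIso ((Spec.map φ).residueFieldMap P ≫ (Scheme.Spec.residueFieldIso B P).hom) := by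
    rw [residueFieldMap_SpecMap]; infer_instance
  exact IsIso.of_isIso_comp_right _ (Scheme.Spec.residueFieldIso B P).hom

lemma residueFieldMap_fromSpecResidueField_bijective (X : Scheme.{u}) (x : X)
    (s : Spec (X.residueField x)) :
    Function.Bijective ((X.fromSpecResidueField x).residueFieldMap s) := by
  refine ⟨((X.fromSpecResidueField x).residueFieldMap s).hom.injective, ?_⟩
  have h1 := (X.fromSpecResidueField x).stalkMap_surjective s
  have h2 : Function.Surjective (((X.fromSpecResidueField x).stalkMap s) ≫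
    (Spec (X.residueField x)).residue s).hom := by
    rw [CommRingCat.hom_comp, RingHom.coe_comp]
    exact ((Spec (X.residueField x)).residue_surjective s).comp h1
  rw [← Scheme.residue_residueFieldMap, CommRingCat.hom_comp, RingHom.coe_comp] at h2
  exact Function.Surjective.of_comp h2

/-- A lift of the canonical point to an étale `S'` gives an étale neighbourhood. -/
lemma isEtaleNbhd_of_lift {S S' : Scheme.{u}} (g : S' ⟶ S) [Etale g] (p : S)
    (σ : Spec (S.residueField p) ⟶ S') (hσ : σ ≫ g = S.fromSpecResidueField p)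
    (s : Spec (S.residueField p)) :
    Hens2.IsEtaleNbhd g (σ s) p where
  etale := inferInstance
  base_eq := by
    rw [← Scheme.Hom.comp_apply, hσ]; simp
  residue_bijective := by
    apply residueFieldMap_bijective_of_comp
    rw [hσ]
    exact residueFieldMap_fromSpecResidueField_bijective _ _ _

lemma exists_lift_of_isEtaleNbhd {S S' : Scheme.{u}} {g : S' ⟶ S} {p' : S'} {p : S}
    (h : Hens2.IsEtaleNbhd g p' p) :
    ∃ σ : Spec (S.residueField p) ⟶ S', σ ≫ g = S.fromSpecResidueField p ∧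
      ∀ s, σ s = p' := by
  obtain ⟨h1, rfl, h3⟩ := h
  have : IsIso (g.residueFieldMap p') := (isIso_iff_bijective _).mpr h3
  refine ⟨Spec.map (inv (g.residueFieldMap p')) ≫ S'.fromSpecResidueField p', ?_, ?_⟩
  · rw [Category.assoc, ← Scheme.Hom.SpecMap_residueFieldMap_fromSpecResidueField,
      ← Spec.map_comp_assoc]
    simp
  · intro s
    simp

lemma IsEtaleNbhd.comp {S S' S'' : Scheme.{u}} {h : S'' ⟶ S'} {g : S' ⟶ S} {p'' : S''} {p' : S'}
    {p : S} (H₁ : Hens2.IsEtaleNbhd h p'' p') (H₂ : Hens2.IsEtaleNbhd g p' p) :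
    Hens2.IsEtaleNbhd (h ≫ g) p'' p where
  etale := by
    have := H₁.etale
    have := H₂.etale
    infer_instance
  base_eq := by
    obtain ⟨_, rfl, _⟩ := H₁
    obtain ⟨_, rfl, _⟩ := H₂
    rfl
  residue_bijective := by
    obtain ⟨_, rfl, _⟩ := H₁
    obtain ⟨_, rfl, _⟩ := H₂
    rw [Scheme.residueFieldMap_comp]
    change Function.Bijective ((h.residueFieldMap p'').hom ∘ (g.residueFieldMap _).hom)
    exact Function.Bijective.comp ‹_› ‹_›

lemma isEtaleNbhd_of_isOpenImmersion {S S' : Scheme.{u}} (g : S' ⟶ S) [IsOpenImmersion g] (p' : S') :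
    Hens2.IsEtaleNbhd g p' (g p') where
  etale := inferInstance
  base_eq := rfl
  residue_bijective := (isIso_iff_bijective _).mp inferInstance

lemma exists_common_refinement {S S₁ S₂ : Scheme.{u}} {g₁ : S₁ ⟶ S} {g₂ : S₂ ⟶ S} {p₁ : S₁} {p₂ : S₂}
    {p : S} (H₁ : Hens2.IsEtaleNbhd g₁ p₁ p) (H₂ : Hens2.IsEtaleNbhd g₂ p₂ p) :
    ∃ (S₃ : Scheme.{u}) (h₁ : S₃ ⟶ S₁) (h₂ : S₃ ⟶ S₂) (p₃ : S₃), h₁ ≫ g₁ = h₂ ≫ g₂ ∧
      Hens2.IsEtaleNbhd h₁ p₃ p₁ ∧ Hens2.IsEtaleNbhd h₂ p₃ p₂ := by
  obtain ⟨σ₁, h₁, h₁'⟩ := exists_lift_of_isEtaleNbhd H₁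
  obtain ⟨σ₂, h₂, h₂'⟩ := exists_lift_of_isEtaleNbhd H₂
  have := H₁.etale
  have := H₂.etale
  let σ : Spec (S.residueField p) ⟶ pullback g₁ g₂ := pullback.lift σ₁ σ₂ (by rw [h₁, h₂])
  let s : Spec (S.residueField p) := default
  have e : Function.Bijective ((pullback.fst g₁ g₂ ≫ g₁).residueFieldMap (σ s)) := by
    apply residueFieldMap_bijective_of_comp
    have : σ ≫ pullback.fst g₁ g₂ ≫ g₁ = S.fromSpecResidueField p := by
      rw [← Category.assoc, pullback.lift_fst, h₁]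
    rw [this]
    exact residueFieldMap_fromSpecResidueField_bijective _ _ _
  have e₂ : Function.Bijective ((pullback.snd g₁ g₂ ≫ g₂).residueFieldMap (σ s)) := by
    rwa [← pullback.condition]
  have hc₁ : pullback.fst g₁ g₂ (σ s) = p₁ := by
    rw [← Scheme.Hom.comp_apply, pullback.lift_fst, h₁']
  have hc₂ : pullback.snd g₁ g₂ (σ s) = p₂ := by
    rw [← Scheme.Hom.comp_apply, pullback.lift_snd, h₂']
  refine ⟨pullback g₁ g₂, pullback.fst _ _, pullback.snd _ _, σ s, pullback.condition, 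
    ⟨inferInstance, hc₁, ?_⟩, ⟨inferInstance, hc₂, ?_⟩⟩
  · rw [Scheme.residueFieldMap_comp] at e
    refine ⟨(RingHom.injective _), ?_⟩
    exact Function.Surjective.of_comp (g := (g₁.residueFieldMap _).hom) e.2
  · rw [Scheme.residueFieldMap_comp] at e₂
    refine ⟨(RingHom.injective _), ?_⟩
    exact Function.Surjective.of_comp (g := (g₂.residueFieldMap _).hom) e₂.2

set_option backward.isDefEq.respectTransparency false in
open TensorProduct in
/-- Étale localization at one quasi-finite point of a separated morphism locally of finite type,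
with trivial residue field extension (Stacks 02LN). -/
theorem exists_etaleNbhd_isFinite_of_quasiFiniteAt {X S : Scheme.{u}} (f : X ⟶ S)
    [LocallyOfFiniteType f] [IsSeparated f] (x : X) (hx : f.QuasiFiniteAt x) :
    ∃ (S' : Scheme.{u}) (g : S' ⟶ S) (p' : S') (_ : Hens2.IsEtaleNbhd g p' (f x))
      (V : (pullback f g).Opens), IsClosed (V : Set ↥(pullback f g)) ∧
      IsFinite (V.ι ≫ pullback.snd f g) ∧
      ∀ y : ↥(pullback f g), pullback.snd f g y = p' → (y ∈ V ↔ pullback.fst f g y = x) := by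
  obtain ⟨_, ⟨U, hU, rfl⟩, hxU, -⟩ := S.isBasis_affineOpens.exists_subset_of_mem_open
    (Set.mem_univ (f x)) isOpen_univ
  obtain ⟨_, ⟨V, hV, rfl⟩, hxV, hUV : V ≤ f ⁻¹ᵁ U⟩ :=
    X.isBasis_affineOpens.exists_subset_of_mem_open hxU (f ⁻¹ᵁ U).2
  have : (f.appLE U V hUV).hom.FiniteType := f.finiteType_appLE hU hV hUV
  algebraize [(f.appLE U V hUV).hom]
  have : (hV.primeIdealOf ⟨x, hxV⟩).asIdeal.LiesOver (hU.primeIdealOf ⟨f x, hxU⟩).asIdeal := by
    suffices hU.primeIdealOf ⟨f x, hxU⟩ = Spec.map (f.appLE U V hUV) (hV.primeIdealOf ⟨x, hxV⟩) from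
      ⟨congr(($this).1)⟩
    apply hU.isoSpec.inv.homeomorph.injective
    apply Subtype.ext
    simp only [IsAffineOpen.primeIdealOf, Scheme.Hom.homeomorph_apply,
      ← Scheme.Hom.comp_apply, ← Scheme.Opens.ι_apply, IsAffineOpen.isoSpec_hom]
    simp
  have : Algebra.QuasiFiniteAt Γ(S, U) (hV.primeIdealOf ⟨x, hxV⟩).asIdeal :=
    hx.quasiFiniteAt hV hU hUV hxV
  obtain ⟨R, _, _, _, P, _, _, e, _, P', _, _, hP', heP', hres, _, huniq⟩ :=
    Algebra.exists_etale_isIdempotentElem_forall_liesOver_eq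
    (hU.primeIdealOf ⟨f x, hxU⟩).asIdeal (hV.primeIdealOf ⟨x, hxV⟩).asIdeal
  have : (algebraMap R (Localization.Away e)).Finite := RingHom.finite_algebraMap.mpr ‹_›
  let φ : Γ(S, U) ⟶ .of R := CommRingCat.ofHom <| algebraMap Γ(S, U) R
  have hφ : φ.hom.Etale := RingHom.etale_algebraMap.mpr ‹_›
  have : Etale (Spec.map φ) := HasRingHomProperty.Spec_iff.mpr hφ
  let e₁ : Spec (.of (R ⊗ Γ(X, V))) ≅ pullback (Spec.map (f.appLE U V hUV)) (Spec.map φ) :=
    (pullbackSpecIso _ _ _).symm ≪≫ pullbackSymmetry _ _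
  have he₁ : e₁.hom ≫ pullback.fst _ _ =
      Spec.map (CommRingCat.ofHom Algebra.TensorProduct.includeRight.toRingHom) := by
    dsimp [e₁, RingHom.algebraMap_toAlgebra]
    rw [Category.assoc, pullbackSymmetry_hom_comp_fst]
    exact pullbackSpecIso_inv_snd ..
  have he₁' : e₁.hom ≫ pullback.snd _ _ =
      Spec.map (CommRingCat.ofHom (algebraMap R (R ⊗[Γ(S, U)] Γ(X, V)))) := by
    dsimp [e₁, RingHom.algebraMap_toAlgebra]
    rw [Category.assoc, pullbackSymmetry_hom_comp_snd]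
    exact pullbackSpecIso_inv_fst ..
  let g : Spec (.of (R ⊗[Γ(S, U)] Γ(X, V))) ⟶ pullback f (Spec.map φ ≫ hU.fromSpec) :=
    e₁.hom ≫ pullback.map _ _ _ _ hV.fromSpec (𝟙 _) hU.fromSpec
      (IsAffineOpen.SpecMap_appLE_fromSpec ..) (by simp)
  have hgsnd : g ≫ pullback.snd _ _ =
      Spec.map (CommRingCat.ofHom (algebraMap R (R ⊗[Γ(S, U)] Γ(X, V)))) := by
    rw [← he₁']
    simp [g]
  let W₁ := g ''ᵁ PrimeSpectrum.basicOpen e
  have : IsFinite (W₁.ι ≫ pullback.snd f _) := by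
    let ι : Spec (.of (Localization.Away e)) ⟶ pullback f (Spec.map φ ≫ hU.fromSpec) :=
      Spec.map (CommRingCat.ofHom <| algebraMap _ _) ≫ g
    have : ι.opensRange = W₁ := by
      simp only [Scheme.Hom.opensRange_comp, ι, W₁]
      congr 1
      exact TopologicalSpace.Opens.ext <| PrimeSpectrum.localization_away_comap_range _ _
    rw [← this, ← MorphismProperty.cancel_left_of_respectsIso @IsFinite
      (Scheme.Hom.isoOpensRange _).hom]
    have H : (pullbackSpecIso _ R _).inv ≫ pullback.fst _ (Spec.map (f.appLE U V hUV)) = _ :=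
      pullbackSpecIso_inv_fst ..
    simpa [Scheme.Hom.isoOpensRange, ι, g, e₁, RingHom.algebraMap_toAlgebra, φ, H,
      ← Spec.map_comp, IsFinite.SpecMap_iff]
  have : IsFinite W₁.ι := .of_comp _ (pullback.snd f _)
  have hp' : (Spec.map φ ≫ hU.fromSpec) ⟨P, ‹_›⟩ = f x := by
    dsimp [Spec.map_apply]
    convert! hU.fromSpec_primeIdealOf ⟨f x, hxU⟩
    · exact PrimeSpectrum.ext (Ideal.over_def _ _).symm
  have hfst : pullback.fst f (Spec.map φ ≫ hU.fromSpec) (g ⟨P', ‹_›⟩) = x := by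
    trans hV.fromSpec ⟨P'.comap Algebra.TensorProduct.includeRight.toRingHom, inferInstance⟩
    · simp [← Scheme.Hom.comp_apply, -Scheme.Hom.comp_base, g, reassoc_of% he₁]; rfl
    convert! hV.fromSpec_primeIdealOf ⟨x, hxV⟩
  have hsnd : ∀ Q : Spec (.of (R ⊗[Γ(S, U)] Γ(X, V))),
    pullback.snd f (Spec.map φ ≫ hU.fromSpec) (g Q) =
      Spec.map (CommRingCat.ofHom (algebraMap R (R ⊗[Γ(S, U)] Γ(X, V)))) Q := by
    intro Q
    exact (Scheme.Hom.comp_apply _ _ _).symm.trans congr($hgsnd Q)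
  have hbij : Function.Bijective ((Spec.map φ ≫ hU.fromSpec).residueFieldMap ⟨P, ‹_›⟩) := by
    rw [Scheme.residueFieldMap_comp]
    have h1 : IsIso ((hU.fromSpec).residueFieldMap (Spec.map φ ⟨P, ‹_›⟩)) := inferInstance
    have h2 : IsIso ((Spec.map φ).residueFieldMap ⟨P, ‹_›⟩) := by
      rw [isIso_iff_bijective]
      exact residueFieldMap_SpecMap_bijective _ _ (hU.primeIdealOf ⟨f x, hxU⟩).asIdeal
        (Ideal.over_def P _) hres
    rw [← isIso_iff_bijective]
    infer_instance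
  refine ⟨Spec (.of R), Spec.map φ ≫ hU.fromSpec, ⟨P, ‹_›⟩, ⟨inferInstance, hp', hbij⟩, W₁, ?_, ‹_›, ?_⟩
  · simpa using W₁.ι.isClosedMap.isClosed_range
  · intro y hy
    constructor
    · rintro ⟨Q, hQ, rfl⟩
      have hQ' : Q.asIdeal.LiesOver P := by
        refine ⟨?_⟩
        have := (hsnd Q).symm.trans hy
        exact congr(($this).1).symm
      have : Q.asIdeal = P' := huniq Q.asIdeal Q.2 hQ' hQ
      have : Q = ⟨P', ‹_›⟩ := PrimeSpectrum.ext this
      rw [this]
      exact hfst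
    · intro hy2
      have : y = g ⟨P', ‹_›⟩ := by
        refine eq_of_fst_eq_of_snd_eq f _ _ hbij hy ?_ (hy2.trans hfst.symm)
        rw [hsnd]
        exact PrimeSpectrum.ext (Ideal.over_def P' P).symm
      rw [this]
      exact ⟨_, heP', rfl⟩

lemma isFinite_ι_comp_of_le {X S : Scheme.{u}} (f : X ⟶ S) (V W : X.Opens) (h : V ≤ W)
    (hV : IsClosed (V : Set X)) [IsFinite (W.ι ≫ f)] : IsFinite (V.ι ≫ f) := by
  have h1 : X.homOfLE h ≫ W.ι ≫ f = V.ι ≫ f := by simp
  rw [← h1]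
  have : IsClosedImmersion (X.homOfLE h) := by
    refine .of_isPreimmersion _ ?_
    rw [← Scheme.Hom.coe_opensRange, Scheme.opensRange_homOfLE]
    exact hV.preimage W.ι.continuous
  infer_instance

lemma isFinite_sup {X S : Scheme.{u}} (f : X ⟶ S) (V₁ V₂ : X.Opens) (h : Disjoint V₁ V₂)
    [IsFinite (V₁.ι ≫ f)] [IsFinite (V₂.ι ≫ f)] : IsFinite ((V₁ ⊔ V₂).ι ≫ f) := by
  let i₁ : (V₁ : Scheme) ⟶ (V₁ ⊔ V₂ : X.Opens) := X.homOfLE le_sup_left
  let i₂ : (V₂ : Scheme) ⟶ (V₁ ⊔ V₂ : X.Opens) := X.homOfLE le_sup_right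
  have hc : IsCompl i₁.opensRange i₂.opensRange := by
    rw [Scheme.opensRange_homOfLE, Scheme.opensRange_homOfLE]
    constructor
    · rw [disjoint_iff]
      ext x
      have := congr(x.1 ∈ $(disjoint_iff.mp h))
      simpa using this
    · rw [codisjoint_iff]
      ext x
      have := x.2
      simp only [TopologicalSpace.Opens.coe_sup, Set.mem_union, TopologicalSpace.Opens.coe_top, Set.mem_univ, iff_true]
      exact this
  obtain ⟨hl⟩ := nonempty_isColimit_binaryCofanMk_of_isCompl i₁ i₂ hc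
  have : IsIso (coprod.desc i₁ i₂) := by
    have : coprod.desc i₁ i₂ = (IsColimit.coconePointUniqueUpToIso (coprodIsCoprod _ _) hl).hom := by
      apply coprod.hom_ext
      · rw [coprod.inl_desc]
        exact (IsColimit.comp_coconePointUniqueUpToIso_hom (coprodIsCoprod _ _) hl ⟨WalkingPair.left⟩).symm
      · rw [coprod.inr_desc]
        exact (IsColimit.comp_coconePointUniqueUpToIso_hom (coprodIsCoprod _ _) hl ⟨WalkingPair.right⟩).symm
    rw [this]; infer_instance
  have h1 : coprod.desc i₁ i₂ ≫ (V₁ ⊔ V₂).ι ≫ f = coprod.desc (V₁.ι ≫ f) (V₂.ι ≫ f) := by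
    ext1 <;> simp [i₁, i₂]
  rw [← MorphismProperty.cancel_left_of_respectsIso @IsFinite (coprod.desc i₁ i₂), h1]
  infer_instance

lemma isFinite_sup_of_isClosed {X S : Scheme.{u}} (f : X ⟶ S) (V₁ V₂ : X.Opens)
    (h₁ : IsClosed (V₁ : Set X)) (h₂ : IsClosed (V₂ : Set X))
    [IsFinite (V₁.ι ≫ f)] [IsFinite (V₂.ι ≫ f)] : IsFinite ((V₁ ⊔ V₂).ι ≫ f) := by
  let V₃ : X.Opens := V₂ ⊓ ⟨(V₁ : Set X)ᶜ, h₁.isOpen_compl⟩
  have h3 : V₁ ⊔ V₂ = V₁ ⊔ V₃ := by
    ext x
    by_cases hx : x ∈ V₁ <;> simp [V₃, hx]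
  have h4 : Disjoint V₁ V₃ := by
    rw [disjoint_iff]
    ext x
    simp [V₃]
    tauto
  have h5 : IsClosed (V₃ : Set X) := h₂.inter V₁.isOpen.isClosed_compl
  have := isFinite_ι_comp_of_le f V₃ V₂ inf_le_left h5
  rw [h3]
  exact isFinite_sup f V₁ V₃ h4

/-- The refinement step. -/
noncomputable def refineMap {X S S' S'' : Scheme.{u}} (f : X ⟶ S) (g : S' ⟶ S) (h : S'' ⟶ S')
    (g' : S'' ⟶ S) (e : h ≫ g = g') : pullback f g' ⟶ pullback f g :=
  pullback.lift (pullback.fst f g') (pullback.snd f g' ≫ h) (by rw [Category.assoc, e, pullback.condition])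

@[reassoc]
lemma refineMap_fst {X S S' S'' : Scheme.{u}} (f : X ⟶ S) (g : S' ⟶ S) (h : S'' ⟶ S')
    (g' : S'' ⟶ S) (e : h ≫ g = g') :
    refineMap f g h g' e ≫ pullback.fst f g = pullback.fst f g' := pullback.lift_fst _ _ _

@[reassoc]
lemma refineMap_snd {X S S' S'' : Scheme.{u}} (f : X ⟶ S) (g : S' ⟶ S) (h : S'' ⟶ S')
    (g' : S'' ⟶ S) (e : h ≫ g = g') :
    refineMap f g h g' e ≫ pullback.snd f g = pullback.snd f g' ≫ h := pullback.lift_snd _ _ _

lemma isPullback_refineMap {X S S' S'' : Scheme.{u}} (f : X ⟶ S) (g : S' ⟶ S) (h : S'' ⟶ S')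
    (g' : S'' ⟶ S) (e : h ≫ g = g') :
    IsPullback (refineMap f g h g' e) (pullback.snd f g') (pullback.snd f g) h := by
  subst e
  refine IsPullback.of_right (h₁₂ := pullback.fst f g) (v₁₃ := f) (h₂₂ := g) ?_ (refineMap_snd ..) (IsPullback.of_hasPullback _ _)
  rw [refineMap_fst]
  exact IsPullback.of_hasPullback f (h ≫ g)

lemma isFinite_refine {X S S' S'' : Scheme.{u}} (f : X ⟶ S) (g : S' ⟶ S) (h : S'' ⟶ S')
    (g' : S'' ⟶ S) (e : h ≫ g = g') (V : (pullback f g).Opens) [IsFinite (V.ι ≫ pullback.snd f g)] :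
    IsFinite ((refineMap f g h g' e ⁻¹ᵁ V).ι ≫ pullback.snd f g') := by
  have := (isPullback_morphismRestrict (refineMap f g h g' e) V).paste_vert
    (isPullback_refineMap f g h g' e)
  exact MorphismProperty.of_isPullback this ‹_›

theorem exists_etaleNbhd_isFinite_of_finite {X S : Scheme.{u}} (f : X ⟶ S)
    [LocallyOfFiniteType f] [IsSeparated f] (p : S) (T : Set X) (hT : T.Finite)
    (hTp : ∀ x ∈ T, f x = p) (hx : ∀ x ∈ T, f.QuasiFiniteAt x) :
    ∃ (S' : Scheme.{u}) (g : S' ⟶ S) (p' : S') (_ : Hens2.IsEtaleNbhd g p' p)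
      (V : (pullback f g).Opens), IsClosed (V : Set ↥(pullback f g)) ∧
      IsFinite (V.ι ≫ pullback.snd f g) ∧
      ∀ y : ↥(pullback f g), pullback.snd f g y = p' → (y ∈ V ↔ pullback.fst f g y ∈ T) := by
  induction T, hT using Set.Finite.induction_on with
  | empty =>
    refine ⟨S, 𝟙 S, p, isEtaleNbhd_of_isOpenImmersion (𝟙 S) p, ⊥, isClosed_empty, ?_, ?_⟩
    · have : IsEmpty ↥(↑(⊥ : (pullback f (𝟙 S)).Opens) : Scheme.{u}) := ⟨fun x => x.2⟩
      infer_instance
    · intro y _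
      simp
  | @insert x T hxT hT ih =>
    obtain ⟨S₁, g₁, p₁, hg₁, V₁, hV₁, hf₁, hy₁⟩ := ih (fun x hx => hTp x (Set.mem_insert_of_mem _ hx))
      (fun y hy => hx y (Set.mem_insert_of_mem _ hy))
    obtain ⟨S₂, g₂, p₂, hg₂, V₂, hV₂, hf₂, hy₂⟩ := exists_etaleNbhd_isFinite_of_quasiFiniteAt f x
      (hx x (Set.mem_insert _ _))
    rw [hTp x (Set.mem_insert _ _)] at hg₂
    obtain ⟨S₃, h₁, h₂, p₃, e, hh₁, hh₂⟩ := exists_common_refinement hg₁ hg₂
    refine ⟨S₃, h₁ ≫ g₁, p₃, IsEtaleNbhd.comp hh₁ hg₁, refineMap f g₁ h₁ _ rfl ⁻¹ᵁ V₁ ⊔ refineMap f g₂ h₂ _ e.symm ⁻¹ᵁ V₂, ?_, ?_, ?_⟩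
    · exact (hV₁.preimage (refineMap f g₁ h₁ _ rfl).continuous).union (hV₂.preimage (refineMap f g₂ h₂ _ e.symm).continuous)
    · have := isFinite_refine f g₁ h₁ _ rfl V₁
      have := isFinite_refine f g₂ h₂ _ e.symm V₂
      exact isFinite_sup_of_isClosed _ _ _ (hV₁.preimage (refineMap f g₁ h₁ _ rfl).continuous) (hV₂.preimage (refineMap f g₂ h₂ _ e.symm).continuous)
    · intro y hy
      have a1 := hy₁ (refineMap f g₁ h₁ _ rfl y) (by
        rw [← Scheme.Hom.comp_apply, refineMap_snd, Scheme.Hom.comp_apply, hy]; exact hh₁.base_eq)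
      have a2 := hy₂ (refineMap f g₂ h₂ _ e.symm y) (by
        rw [← Scheme.Hom.comp_apply, refineMap_snd, Scheme.Hom.comp_apply, hy]; exact hh₂.base_eq)
      rw [← Scheme.Hom.comp_apply, refineMap_fst] at a1 a2
      change (refineMap f g₁ h₁ _ rfl y ∈ V₁ ∨ refineMap f g₂ h₂ _ e.symm y ∈ V₂) ↔ _
      rw [a1, a2]
      simp [Set.mem_insert_iff, or_comm]

end Groth.Agent.Grpsch.EtLoc
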