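import Groth.Agent.Grpsch.AbStalk
import Mathlib.AlgebraicGeometry.Morphisms.LocalFlatDescent
import Mathlib.RingTheory.Unramified.Locus

/-!
# Étale locus at closed points; translation invariance; `[d]` is étale for `d` invertible
-/

set_option autoImplicit false

open CategoryTheory Limits MonoidalCategory CartesianMonoidalCategory MonObj AlgebraicGeometry

namespace Groth.Agent.Grpsch.AbEtale

open AbRing AbTangent AbStalk

universe u

section Locus

variable {X Y : Scheme.{u}}

lemma mem_unramifiedLocus_of_stalkMap {f : X ⟶ Y} {x : X} (U : Y.Opens)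
    (hU : IsAffineOpen U) (V : X.Opens) (hV : IsAffineOpen V) (hVU : V ≤ f ⁻¹ᵁ U)
    (hx : x ∈ V) (h : (f.stalkMap x).hom.FormallyUnramified) :
    letI := (f.appLE U V hVU).hom.toAlgebra
    hV.primeIdealOf ⟨x, hx⟩ ∈ Algebra.unramifiedLocus Γ(Y, U) Γ(X, V) := by
  let := (f.appLE U V hVU).hom.toAlgebra
  let p := (hU.primeIdealOf ⟨f x, hVU hx⟩).asIdeal
  let q := (hV.primeIdealOf ⟨x, hx⟩).asIdeal
  have : q.LiesOver p :=
    ⟨congr($(IsAffineOpen.comap_primeIdealOf_appLE U hU V hV hVU hx).1).symm⟩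
  let := Localization.AtPrime.algebraOfLiesOver p q
  have h1 : Algebra.FormallyUnramified (Localization.AtPrime p) (Localization.AtPrime q) := by
    rw [← RingHom.formallyUnramified_algebraMap]
    exact (RingHom.FormallyUnramified.respectsIso.arrow_mk_iso_iff
      (IsAffineOpen.arrowStalkMapIso f U hU V hV hVU hx)).mp h
  have h2 : Algebra.FormallyUnramified Γ(Y, U) (Localization.AtPrime p) :=
    Algebra.FormallyUnramified.of_isLocalization p.primeCompl
  exact Algebra.FormallyUnramified.comp Γ(Y, U) (Localization.AtPrime p) (Localization.AtPrime q)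

/-- A morphism from a Jacobson scheme is formally unramified if it is so at all closed points. -/
theorem formallyUnramified_of_stalkMap (f : X ⟶ Y) [JacobsonSpace X]
    (h : ∀ x : X, IsClosed {x} → (f.stalkMap x).hom.FormallyUnramified) :
    FormallyUnramified f := by
  refine ⟨fun {U} hU {V} hV e ↦ ?_⟩
  let := (f.appLE U V e).hom.toAlgebra
  change Algebra.FormallyUnramified Γ(Y, U) Γ(X, V)
  rw [Algebra.formallyUnramified_iff_forall]
  intro p
  by_contra hp
  obtain ⟨m, hm, hpm⟩ := p.asIdeal.exists_le_maximal p.isPrime.ne_top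
  let m' : PrimeSpectrum Γ(X, V) := ⟨m, hm.isPrime⟩
  have hp' : p ∈ Module.support Γ(X, V) Ω[Γ(X, V)⁄Γ(Y, U)] := by
    have : p ∉ Algebra.unramifiedLocus Γ(Y, U) Γ(X, V) := hp
    rwa [Algebra.unramifiedLocus_eq_compl_support, Set.notMem_compl_iff] at this
  have hm' : m' ∉ Algebra.unramifiedLocus Γ(Y, U) Γ(X, V) := by
    rw [Algebra.unramifiedLocus_eq_compl_support, Set.notMem_compl_iff]
    exact Module.mem_support_mono hpm hp'
  have hmcl : IsClosed {m'} := (PrimeSpectrum.isClosed_singleton_iff_isMaximal _).mpr hm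
  let x : X := hV.fromSpec m'
  have hxV : x ∈ V := by
    have : x ∈ Set.range hV.fromSpec := ⟨m', rfl⟩
    rwa [hV.range_fromSpec] at this
  have hxcl : IsClosed {x} := by
    have h1 := (Scheme.Hom.isOpenEmbedding hV.fromSpec).preimage_closedPoints
    have h2 : m' ∈ closedPoints (Spec Γ(X, V)) := hmcl
    rw [← h1] at h2
    exact h2
  apply hm'
  have h3 := mem_unramifiedLocus_of_stalkMap U hU V hV e hxV (h x hxcl)
  have h4 : hV.primeIdealOf ⟨x, hxV⟩ = m' := by
    apply (Scheme.Hom.isOpenEmbedding hV.fromSpec).injective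
    exact hV.fromSpec_primeIdealOf ⟨x, hxV⟩
  rwa [h4] at h3

/-- A morphism locally of finite presentation from a Jacobson scheme is smooth if it is
so at all closed points. -/
theorem smooth_of_stalkMap (f : X ⟶ Y) [JacobsonSpace X] [LocallyOfFinitePresentation f]
    (h : ∀ x : X, IsClosed {x} → (f.stalkMap x).hom.FormallySmooth) :
    Smooth f := by
  rw [← Scheme.Hom.smoothLocus_eq_top_iff, ← TopologicalSpace.Opens.coe_eq_univ,
    ← not_ne_iff, ← Set.nonempty_compl]
  intro H
  obtain ⟨x, hx, hxc⟩ :=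
    nonempty_inter_closedPoints H f.smoothLocus.2.isClosed_compl.isLocallyClosed
  exact hx (h x hxc)

/-- smooth + formally unramified = étale -/
theorem etale_of_smooth_of_formallyUnramified (f : X ⟶ Y) [Smooth f] [FormallyUnramified f] :
    Etale f := by
  rw [Etale.iff_flat_and_formallyUnramified]
  exact ⟨inferInstance, inferInstance, inferInstance⟩


/-- a property of stalk maps is invariant under isomorphisms of the source and target. -/
lemma stalkMap_iff_of_iso {P : ∀ {R S : Type u} [CommRing R] [CommRing S], (R →+* S) → Prop}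
    (hP : RingHom.RespectsIso P) {X' Y' : Scheme.{u}} {f : X ⟶ Y} {f' : X' ⟶ Y'} (e : X' ⟶ X)
    (e' : Y' ⟶ Y) [IsIso e] [IsIso e'] (h : e ≫ f = f' ≫ e') (x : X') :
    P (f.stalkMap (e x)).hom ↔ P (f'.stalkMap x).hom := by
  have h1 : P ((e ≫ f).stalkMap x).hom ↔ P (f.stalkMap (e x)).hom := by
    rw [Scheme.Hom.stalkMap_comp]
    exact hP.cancel_right_isIso (f.stalkMap (e x)) (e.stalkMap x)
  have h2 : P ((f' ≫ e').stalkMap x).hom ↔ P (f'.stalkMap x).hom := by
    rw [Scheme.Hom.stalkMap_comp]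
    exact hP.cancel_left_isIso (e'.stalkMap (f' x)) (f'.stalkMap x)
  rw [← h1, ← h2, h]

end Locus

section Group

variable {K : Type u} [Field K]

/-- Translation by a rational point. -/
noncomputable def transl {A : Over (Spec (.of K))} [GrpObj A] (z : 𝟙_ (Over (Spec (.of K))) ⟶ A) :
    A ⟶ A := 𝟙 A * (toUnit A ≫ z)

lemma comp_transl {A T : Over (Spec (.of K))} [GrpObj A] (z : 𝟙_ (Over (Spec (.of K))) ⟶ A)
    (g : T ⟶ A) : g ≫ transl z = g * (toUnit T ≫ z) := by
  rw [transl, MonObj.comp_mul, Category.comp_id, ← Category.assoc, comp_toUnit]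

lemma transl_mul {A : Over (Spec (.of K))} [GrpObj A] (z w : 𝟙_ (Over (Spec (.of K))) ⟶ A) :
    transl z ≫ transl w = transl (z * w) := by
  rw [comp_transl, transl, transl, MonObj.comp_mul, _root_.mul_assoc]

lemma transl_one {A : Over (Spec (.of K))} [GrpObj A] :
    transl (1 : 𝟙_ (Over (Spec (.of K))) ⟶ A) = 𝟙 A := by
  rw [transl, MonObj.comp_one, _root_.mul_one]

instance isIso_transl {A : Over (Spec (.of K))} [GrpObj A] (z : 𝟙_ (Over (Spec (.of K))) ⟶ A) :
    IsIso (transl z) :=
  ⟨transl z⁻¹, by rw [transl_mul, mul_inv_cancel, transl_one],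
    by rw [transl_mul, inv_mul_cancel, transl_one]⟩

instance isIso_transl_left {A : Over (Spec (.of K))} [GrpObj A]
    (z : 𝟙_ (Over (Spec (.of K))) ⟶ A) : IsIso (transl z).left :=
  inferInstanceAs (IsIso ((Over.forget _).map (transl z)))

lemma eta_transl {A : Over (Spec (.of K))} [GrpObj A] (z : 𝟙_ (Over (Spec (.of K))) ⟶ A) :
    η[A] ≫ transl z = z := by
  rw [comp_transl, toUnit_unit, Category.id_comp, MonObj.one_eq_one, _root_.one_mul]

/-- homomorphisms commute with translation -/
lemma transl_comp {A B : Over (Spec (.of K))} [GrpObj A] [GrpObj B] (f : A ⟶ B) [IsMonHom f]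
    (z : 𝟙_ (Over (Spec (.of K))) ⟶ A) : transl z ≫ f = f ≫ transl (z ≫ f) := by
  rw [comp_transl, transl, MonObj.mul_comp, Category.id_comp, Category.assoc]

variable [IsAlgClosed K]

/-- Over an algebraically closed field, a property of stalk maps of a homomorphism holds at all
closed points if it holds at the origin. -/
lemma stalkMap_of_origin {P : ∀ {R S : Type u} [CommRing R] [CommRing S], (R →+* S) → Prop}
    (hP : RingHom.RespectsIso P) {A B : Over (Spec (.of K))} [GrpObj A] [GrpObj B] (f : A ⟶ B)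
    [IsMonHom f] [LocallyOfFiniteType A.hom] (h : P (f.left.stalkMap (pt η[A])).hom) (x : A.left)
    (hx : IsClosed {x}) : P (f.left.stalkMap x).hom := by
  let z : 𝟙_ (Over (Spec (.of K))) ⟶ A :=
    Over.homMk (pointOfClosedPoint A.hom x hx) (pointOfClosedPoint_comp A.hom x hx)
  have hz : (transl z).left (pt η[A]) = x := by
    have h1 := congr(($(eta_transl z)).left (IsLocalRing.closedPoint K))
    exact h1.trans (pointOfClosedPoint_apply A.hom x hx _)
  rw [← hz]
  exact (stalkMap_iff_of_iso hP (transl z).left (transl (z ≫ f)).left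
    congr(($(transl_comp f z)).left) (pt η[A])).mpr h

variable {A : Over (Spec (.of K))} [GrpObj A]

omit [IsAlgClosed K] in
/-- `[d]` is smooth at the origin if `d` is invertible in `K`. -/
lemma formallySmooth_stalkMap_zpow [Smooth A.hom] {d : ℤ} (hd : (d : K) ≠ 0) :
    ((𝟙 A ^ d).left.stalkMap (pt η[A])).hom.FormallySmooth := by
  refine formallySmooth_stalkMap (𝟙 A ^ d) η[A] fun τ' hτ' ↦ ?_
  have hτ'' : specT0 K ≫ τ' = η[A] := by
    rw [hτ', GrpObj.comp_zpow, Category.comp_id, MonObj.one_eq_one, one_zpow]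
  refine ⟨specTmap ((d : K)⁻¹ • LinearMap.id) ≫ τ', ?_, ?_⟩
  · rw [specT0_comp_assoc, hτ'']
  · rw [GrpObj.comp_zpow, Category.comp_id, zpow_eq_specTmap_zsmul τ' hτ'']
    have : d • (d : K)⁻¹ • (LinearMap.id : K →ₗ[K] K) = LinearMap.id := by
      ext
      simp [hd]
    rw [this, specTmap_id, Category.id_comp]

omit [IsAlgClosed K] in
/-- `[d]` is unramified at the origin if `d` is invertible in `K`. -/
lemma formallyUnramified_stalkMap_zpow [LocallyOfFiniteType A.hom] {d : ℤ} (hd : (d : K) ≠ 0) :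
    ((𝟙 A ^ d).left.stalkMap (pt η[A])).hom.FormallyUnramified := by
  have : LocallyOfFiniteType (𝟙 A ^ d).left := by
    have : LocallyOfFiniteType ((𝟙 A ^ d).left ≫ A.hom) := by rw [Over.w]; infer_instance
    exact locallyOfFiniteType_of_comp _ A.hom
  refine formallyUnramified_stalkMap (𝟙 A ^ d) η[A] fun τ hτ hτ' ↦ ?_
  rw [comp_zpow_eq_specTmap_zsmul τ hτ] at hτ'
  have h1 : toUnit (specT (K := K) K) ≫ η[A] ≫ (𝟙 A ^ d) = 1 := by
    rw [GrpObj.comp_zpow, Category.comp_id, MonObj.one_eq_one, one_zpow, MonObj.comp_one]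
  rw [h1] at hτ'
  have h2 := congr(specTmap ((d : K)⁻¹ • LinearMap.id) ≫ $hτ')
  rw [specTmap_comp_assoc, MonObj.comp_one] at h2
  have : ((d : K)⁻¹ • LinearMap.id) ∘ₗ (d • (LinearMap.id : K →ₗ[K] K)) = LinearMap.id := by
    ext
    simp [hd]
  rw [this, specTmap_id, Category.id_comp] at h2
  rw [h2, Hom.one_def]

omit [IsAlgClosed K] in
lemma isMonHom_zpow [IsCommMonObj A] (d : ℤ) : IsMonHom (𝟙 A ^ d) where
  one_hom := by rw [GrpObj.comp_zpow, Category.comp_id, MonObj.one_eq_one, one_zpow]
  mul_hom := by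
    rw [GrpObj.comp_zpow, Category.comp_id, MonObj.mul_eq_mul, MonObj.comp_mul,
      tensorHom_fst, tensorHom_snd, GrpObj.comp_zpow, GrpObj.comp_zpow, Category.comp_id,
      Category.comp_id, mul_zpow]

/-- `[d]` is étale if `d` is invertible in `K` -/
theorem etale_zpow_of_isAlgClosed [Smooth A.hom] [IsCommMonObj A] {d : ℤ} (hd : (d : K) ≠ 0) :
    Etale (𝟙 A ^ d).left := by
  have : IsMonHom (𝟙 A ^ d) := isMonHom_zpow d
  have : LocallyOfFinitePresentation (𝟙 A ^ d).left := by
    have : IsLocallyNoetherian A.left := LocallyOfFiniteType.isLocallyNoetherian A.hom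
    have : LocallyOfFiniteType ((𝟙 A ^ d).left ≫ A.hom) := by rw [Over.w]; infer_instance
    rw [LocallyOfFinitePresentation.iff_locallyOfFiniteType]
    exact locallyOfFiniteType_of_comp _ A.hom
  have : JacobsonSpace A.left := LocallyOfFiniteType.jacobsonSpace A.hom
  have h1 : Smooth (𝟙 A ^ d).left := smooth_of_stalkMap _
    (stalkMap_of_origin RingHom.FormallySmooth.respectsIso (𝟙 A ^ d)
      (formallySmooth_stalkMap_zpow hd))
  have h2 : FormallyUnramified (𝟙 A ^ d).left := formallyUnramified_of_stalkMap _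
    (stalkMap_of_origin RingHom.FormallyUnramified.respectsIso (𝟙 A ^ d)
      (formallyUnramified_stalkMap_zpow hd))
  exact etale_of_smooth_of_formallyUnramified _

end Group

end Groth.Agent.Grpsch.AbEtale
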