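import Mathlib.RingTheory.Smooth.Local
import Mathlib.RingTheory.Smooth.Kaehler
import Mathlib.RingTheory.Kaehler.JacobiZariski
import Mathlib.RingTheory.Unramified.Basic
import Mathlib.RingTheory.Etale.Basic
import Mathlib.LinearAlgebra.Dual.Lemmas
import Mathlib.RingTheory.Flat.TorsionFree
import Mathlib.Algebra.TrivSqZeroExt.Basic

/-!
# Tangent space criteria for smooth and unramified local algebras

For a map `R → S` of `K`-algebras, `S` local:
* if every `K`-derivation `S → κ(S)` vanishing on `R` vanishes, then `S/R` is formally unramified;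
* if `R/K`, `S/K` are formally smooth with finite differentials and every `K`-derivation
  `R → κ(S)` extends to `S`, then `S/R` is formally smooth.
-/

set_option autoImplicit false

open TensorProduct IsLocalRing KaehlerDifferential

namespace Groth.Agent.Grpsch.AbRing

universe u

section Gen

variable (K R S : Type*) [CommRing K] [CommRing R] [CommRing S] [IsLocalRing S]
  [Algebra K R] [Algebra K S] [Algebra R S] [IsScalarTower K R S]

/-- Nakayama + duality: the differentials of a local algebra vanish if all derivations into the
residue field vanish. -/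
theorem formallyUnramified_of_derivation_eq_zero [Module.Finite S Ω[S⁄R]]
    (h : ∀ D : Derivation R S (ResidueField S), D = 0) : Algebra.FormallyUnramified R S := by
  constructor
  rw [← IsLocalRing.subsingleton_tensorProduct (R := S) (M := Ω[S⁄R])]
  refine subsingleton_of_forall_eq 0 fun x ↦ ?_
  rw [← Module.forall_dual_apply_eq_zero_iff (ResidueField S)]
  intro f
  have hf : f = 0 := by
    let g : Ω[S⁄R] →ₗ[S] ResidueField S :=
      (f.restrictScalars S) ∘ₗ (TensorProduct.mk S (ResidueField S) Ω[S⁄R] 1)
    have hg : g = 0 := by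
      have := h (g.compDer (KaehlerDifferential.D R S))
      apply Derivation.liftKaehlerDifferential_unique
      rw [this]
      ext; simp
    apply TensorProduct.AlgebraTensorModule.curry_injective
    ext y
    have := congr($hg (D R S y))
    simpa [g] using this
  simp [hf]

/-- The Jacobian criterion in terms of tangent vectors. -/
theorem formallySmooth_of_derivation_extends
    [Algebra.FormallySmooth K S] [Algebra.FormallySmooth K R]
    [Module.Finite S Ω[S⁄K]] [Module.Finite R Ω[R⁄K]]
    (h : ∀ D' : Derivation K R (ResidueField S), ∃ D : Derivation K S (ResidueField S),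
      ∀ r, D (algebraMap R S r) = D' r) : Algebra.FormallySmooth R S := by
  have hinj : Function.Injective
      ((mapBaseChange K R S).lTensor (ResidueField S)) := by
    have key : ∀ x, (mapBaseChange K R S).lTensor (ResidueField S) x = 0 → x = 0 := by
      intro x hx
      rw [← Module.forall_dual_apply_eq_zero_iff (ResidueField S)]
      intro f
      -- the derivation attached to f
      let g : S ⊗[R] Ω[R⁄K] →ₗ[S] ResidueField S :=
        (f.restrictScalars S) ∘ₗ (TensorProduct.mk S (ResidueField S) (S ⊗[R] Ω[R⁄K]) 1)
      let g' : Ω[R⁄K] →ₗ[R] ResidueField S :=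
        (g.restrictScalars R) ∘ₗ (TensorProduct.mk R S Ω[R⁄K] 1)
      obtain ⟨D, hD⟩ := h (g'.compDer (KaehlerDifferential.D K R))
      have hg : D.liftKaehlerDifferential ∘ₗ (mapBaseChange K R S) = g := by
        apply TensorProduct.AlgebraTensorModule.curry_injective
        ext y
        have := hD y
        simpa [g, g'] using this
      have hk : ∀ x : ResidueField S ⊗[S] (S ⊗[R] Ω[R⁄K]), f x = 
          (TensorProduct.AlgebraTensorModule.lift
          ((LinearMap.toSpanSingleton (ResidueField S) (Ω[S⁄K] →ₗ[S] ResidueField S)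
            D.liftKaehlerDifferential))) ((mapBaseChange K R S).lTensor (ResidueField S) x) := by
        intro x
        induction x with
        | zero => simp
        | add x y hx hy => simp only [map_add, hx, hy]
        | tmul a b =>
          have h1 : f (a ⊗ₜ b) = a • g b := by
            have : a ⊗ₜ[S] b = a • ((1 : ResidueField S) ⊗ₜ[S] b) := by
              simp [TensorProduct.smul_tmul']
            rw [this, map_smul]; rfl
          rw [h1, ← hg]
          simp
      rw [hk, hx, map_zero]
    exact (injective_iff_map_eq_zero _).mpr key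
  have hfree : Module.Free S Ω[S⁄K] := Module.free_of_flat_of_isLocalRing
  obtain ⟨l, hl⟩ := (IsLocalRing.split_injective_iff_lTensor_residueField_injective _).mpr hinj
  have hinj' : Function.Injective (mapBaseChange K R S) :=
    Function.HasLeftInverse.injective ⟨l, fun x ↦ congr($hl x)⟩
  constructor
  · -- Ω[S/R] is a direct summand of Ω[S/K]
    have hex := KaehlerDifferential.exact_mapBaseChange_map K R S
    have hsurj := KaehlerDifferential.map_surjective K R S
    obtain ⟨-, s, hs⟩ := (hex.split_tfae'.out 1 0 rfl rfl).mp ⟨hsurj, l, hl⟩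
    exact Module.Projective.of_split s _ hs
  · have : Subsingleton (Algebra.H1Cotangent K S) := inferInstance
    refine subsingleton_of_forall_eq 0 fun x ↦ ?_
    have h0 : Algebra.H1Cotangent.δ K R S x = 0 := by
      apply hinj'
      rw [map_zero]
      exact (Algebra.H1Cotangent.exact_δ_mapBaseChange K R S).apply_apply_eq_zero x
    obtain ⟨y, hy⟩ := (Algebra.H1Cotangent.exact_map_δ K R S x).mp h0
    rw [← hy, Subsingleton.elim y 0, map_zero]

end Gen

section Points

variable {K O : Type*} [Field K] [CommRing O] [IsLocalRing O] [Algebra K O] (π : O →ₐ[K] K)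

/-- the identification of the residue field with `K` for a rational point. -/
theorem algebraMap_eq_residue (a : O) :
    algebraMap K (ResidueField O) (π a) = residue O a := by
  have hsub : a - algebraMap K O (π a) ∈ maximalIdeal O := by
    have h1 : π (a - algebraMap K O (π a)) = 0 := by simp
    rw [mem_maximalIdeal, mem_nonunits_iff]
    intro hu
    have := hu.map π
    rw [h1] at this
    exact not_isUnit_zero this
  rw [IsScalarTower.algebraMap_apply K O (ResidueField O), ResidueField.algebraMap_eq, ← sub_eq_zero,
    ← map_sub, residue_eq_zero_iff]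
  have := (maximalIdeal O).neg_mem hsub
  simpa using this

include π in
theorem exists_algebraMap_eq (z : ResidueField O) : ∃ c : K, algebraMap K (ResidueField O) c = z := by
  obtain ⟨a, rfl⟩ := residue_surjective z
  exact ⟨π a, algebraMap_eq_residue π a⟩

/-- the linear isomorphism between the residue field at a rational point and `K`. -/
noncomputable def resEquiv : K ≃ₗ[K] ResidueField O :=
  LinearEquiv.ofBijective (Algebra.linearMap K (ResidueField O))
    ⟨(algebraMap K (ResidueField O)).injective, fun z ↦ exists_algebraMap_eq π z⟩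

theorem resEquiv_apply (c : K) : resEquiv π c = algebraMap K (ResidueField O) c := rfl

theorem algebraMap_resEquiv_symm (z : ResidueField O) :
    algebraMap K (ResidueField O) ((resEquiv π).symm z) = z :=
  (resEquiv π).apply_symm_apply z

theorem resEquiv_symm_smul (a : O) (z : ResidueField O) :
    (resEquiv π).symm (a • z) = π a * (resEquiv π).symm z := by
  apply (algebraMap K (ResidueField O)).injective
  rw [map_mul, algebraMap_resEquiv_symm, algebraMap_resEquiv_symm, algebraMap_eq_residue,
    Algebra.smul_def, ResidueField.algebraMap_eq]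

/-- The algebra map to the dual numbers attached to a derivation. -/
noncomputable def ofDer (D : Derivation K O (ResidueField O)) : O →ₐ[K] TrivSqZeroExt K K :=
  AlgHom.ofLinearMap
    ((TrivSqZeroExt.inlAlgHom K K K).toLinearMap ∘ₗ π.toLinearMap +
      (TrivSqZeroExt.inrHom K K) ∘ₗ (resEquiv π).symm.toLinearMap ∘ₗ D.toLinearMap)
    (by simp [resEquiv])
    (fun a b ↦ by
      ext
      · simp
      · simp [resEquiv_symm_smul]
        ring)

@[simp] theorem fst_ofDer (D : Derivation K O (ResidueField O)) (a : O) :
    (ofDer π D a).fst = π a := by simp [ofDer]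

@[simp] theorem snd_ofDer (D : Derivation K O (ResidueField O)) (a : O) :
    (ofDer π D a).snd = (resEquiv π).symm (D a) := by simp [ofDer]

/-- The derivation attached to a map to the dual numbers. -/
noncomputable def toDer (ψ : O →ₐ[K] TrivSqZeroExt K K) (hψ : ∀ a, (ψ a).fst = π a) :
    Derivation K O (ResidueField O) :=
  Derivation.mk' ((Algebra.linearMap K (ResidueField O)) ∘ₗ TrivSqZeroExt.sndHom K K ∘ₗ
    ψ.toLinearMap) (fun a b ↦ by
      simp [hψ, Algebra.smul_def, algebraMap_eq_residue]
      ring)

@[simp] theorem toDer_apply (ψ : O →ₐ[K] TrivSqZeroExt K K) (hψ : ∀ a, (ψ a).fst = π a) (a : O) :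
    toDer π ψ hψ a = algebraMap K (ResidueField O) (ψ a).snd := rfl

end Points

section Crit

variable {K O' O : Type*} [Field K] [CommRing O] [IsLocalRing O] [Algebra K O] [CommRing O']
  [Algebra K O'] [Algebra O' O] [IsScalarTower K O' O] (π : O →ₐ[K] K)

theorem formallyUnramified_of_dualNumber [Module.Finite O Ω[O⁄O']]
    (h : ∀ ψ : O →ₐ[K] TrivSqZeroExt K K, (∀ a, (ψ a).fst = π a) →
      (∀ a : O', (ψ (algebraMap O' O a)).snd = 0) → ∀ a, (ψ a).snd = 0) :
    Algebra.FormallyUnramified O' O := by
  refine formallyUnramified_of_derivation_eq_zero O' O fun D ↦ ?_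
  ext a
  have := h (ofDer π (D.restrictScalars K)) (fun a ↦ by simp) (fun a ↦ by simp) a
  simpa using this

omit [Algebra K O'] [IsScalarTower K O' O] in
theorem derivation_eq_zero_of_formallyUnramified [Algebra.FormallyUnramified O' O]
    (ψ : O →ₐ[K] TrivSqZeroExt K K) (hψ : ∀ a, (ψ a).fst = π a)
    (h : ∀ a : O', (ψ (algebraMap O' O a)).snd = 0) (a : O) : (ψ a).snd = 0 := by
  let D : Derivation O' O (ResidueField O) :=
    Derivation.mk' (R := O') (A := O)
      { toFun := fun a ↦ toDer π ψ hψ a
        map_add' := fun a b ↦ by simp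
        map_smul' := fun r a ↦ by
          rw [Algebra.smul_def, Derivation.leibniz]
          simp [h] } (fun a b ↦ (toDer π ψ hψ).leibniz a b)
  have hD : D = 0 := by
    have : Subsingleton Ω[O⁄O'] := Algebra.FormallyUnramified.subsingleton_kaehlerDifferential
    rw [← D.liftKaehlerDifferential_comp]
    have h0 : D.liftKaehlerDifferential = 0 := by
      refine LinearMap.ext fun x ↦ ?_
      rw [Subsingleton.elim x 0, map_zero, map_zero]
    rw [h0]
    ext; simp
  have h1 : D a = 0 := by rw [hD]; rfl
  exact (algebraMap K (ResidueField O)).injective (by rw [map_zero]; exact h1)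

theorem formallySmooth_of_dualNumber [IsLocalRing O'] [IsLocalHom (algebraMap O' O)]
    [Algebra.FormallySmooth K O] [Algebra.FormallySmooth K O']
    [Module.Finite O Ω[O⁄K]] [Module.Finite O' Ω[O'⁄K]]
    (h : ∀ ψ' : O' →ₐ[K] TrivSqZeroExt K K, (∀ a, (ψ' a).fst = π (algebraMap O' O a)) →
      ∃ ψ : O →ₐ[K] TrivSqZeroExt K K, (∀ a, (ψ a).fst = π a) ∧
        ∀ a, ψ (algebraMap O' O a) = ψ' a) :
    Algebra.FormallySmooth O' O := by
  refine formallySmooth_of_derivation_extends K O' O fun D' ↦ ?_
  let ψ' : O' →ₐ[K] TrivSqZeroExt K K :=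
    AlgHom.ofLinearMap
    ((TrivSqZeroExt.inlAlgHom K K K).toLinearMap ∘ₗ π.toLinearMap ∘ₗ
        (IsScalarTower.toAlgHom K O' O).toLinearMap +
      (TrivSqZeroExt.inrHom K K) ∘ₗ (resEquiv π).symm.toLinearMap ∘ₗ D'.toLinearMap)
    (by simp)
    (fun a b ↦ by
      ext
      · simp
      · have h1 (a : O') (z : ResidueField O) : (resEquiv π).symm (a • z) =
            π (algebraMap O' O a) * (resEquiv π).symm z := by
          rw [← resEquiv_symm_smul, algebraMap_smul]
        simp [h1]
        ring)
  have hfst (a : O') : (ψ' a).fst = π (algebraMap O' O a) := by simp [ψ']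
  have hsnd (a : O') : (ψ' a).snd = (resEquiv π).symm (D' a) := by simp [ψ']
  obtain ⟨ψ, hψ, hψ'⟩ := h ψ' hfst
  refine ⟨toDer π ψ hψ, fun r ↦ ?_⟩
  rw [toDer_apply, hψ', hsnd, algebraMap_resEquiv_symm]

end Crit

end Groth.Agent.Grpsch.AbRing
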