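import Groth.Agent.Grpsch.AbTangent

/-!
# Tangent vectors at rational points, and smoothness / unramifiedness of morphisms
-/

set_option autoImplicit false

open CategoryTheory Limits MonoidalCategory CartesianMonoidalCategory MonObj AlgebraicGeometry

namespace Groth.Agent.Grpsch.AbStalk

open AbRing AbTangent

universe u

variable {K : Type u} [Field K]

section Stalk

variable {X : Scheme.{u}} (p : X ⟶ Spec (.of K)) (x : X)

/-- the `K`-algebra structure map of a stalk -/
noncomputable def kAlg : CommRingCat.of K ⟶ X.presheaf.stalk x :=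
  Spec.preimage (X.fromSpecStalk x ≫ p)

@[reassoc (attr := simp)]
lemma Spec_map_kAlg : Spec.map (kAlg p x) = X.fromSpecStalk x ≫ p := Spec.map_preimage _

/-- the structure map to the stalk of `Spec K`. -/
noncomputable def toSt (y : (Spec (.of K) : Scheme.{u})) :
    CommRingCat.of K ⟶ (Spec (.of K)).presheaf.stalk y := StructureSheaf.toStalk K y

lemma kAlg_eq : kAlg p x = toSt (p x) ≫ p.stalkMap x := by
  apply Spec.map_injective
  refine (Spec_map_kAlg p x).trans (Eq.trans ?_ (Spec.map_comp _ _).symm)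
  exact (Scheme.SpecMap_stalkMap_fromSpecStalk p).symm.trans
    (congrArg (Spec.map (p.stalkMap x) ≫ ·) (Spec.fromSpecStalk_eq' _ _))

lemma formallySmooth_toStalk (y : PrimeSpectrum K) :
    (StructureSheaf.toStalk K y).hom.FormallySmooth := by
  have h1 : IsLocalization.AtPrime ((Spec.structureSheaf K).presheaf.stalk y) y.asIdeal :=
    inferInstance
  exact Algebra.FormallySmooth.of_isLocalization (R := K)
    (Rₘ := (Spec.structureSheaf K).presheaf.stalk y) (y.asIdeal.primeCompl)

lemma essFiniteType_toStalk (y : PrimeSpectrum K) :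
    (StructureSheaf.toStalk K y).hom.EssFiniteType := by
  have h1 : IsLocalization.AtPrime ((Spec.structureSheaf K).presheaf.stalk y) y.asIdeal :=
    inferInstance
  exact Algebra.EssFiniteType.of_isLocalization (R := K)
    ((Spec.structureSheaf K).presheaf.stalk y) (y.asIdeal.primeCompl)

lemma formallySmooth_toSt (y : (Spec (.of K) : Scheme.{u})) :
    (toSt y).hom.FormallySmooth := formallySmooth_toStalk y

lemma essFiniteType_toSt (y : (Spec (.of K) : Scheme.{u})) :
    (toSt y).hom.EssFiniteType := essFiniteType_toStalk y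

lemma formallySmooth_kAlg [Smooth p] : (kAlg p x).hom.FormallySmooth := by
  rw [kAlg_eq, CommRingCat.hom_comp]
  exact RingHom.FormallySmooth.comp (formallySmooth_toSt _) (Scheme.Hom.mem_smoothLocus.mp
    (p.smoothLocus_eq_top ▸ TopologicalSpace.Opens.mem_top x)) 

lemma essFiniteType_kAlg [LocallyOfFiniteType p] : (kAlg p x).hom.EssFiniteType := by
  rw [kAlg_eq, CommRingCat.hom_comp]
  exact RingHom.EssFiniteType.comp (essFiniteType_toSt _) (LocallyOfFiniteType.stalkMap p x)

end Stalk

section Tangent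

variable {X Y : Over (Spec (.of K))}

/-- the point underlying a rational point -/
noncomputable abbrev pt (x : 𝟙_ (Over (Spec (.of K))) ⟶ X) : X.left :=
  x.left (IsLocalRing.closedPoint K)

/-- evaluation at a rational point -/
noncomputable def ev (x : 𝟙_ (Over (Spec (.of K))) ⟶ X) :
    X.left.presheaf.stalk (pt x) ⟶ CommRingCat.of K :=
  Scheme.stalkClosedPointTo (R := .of K) x.left

@[reassoc (attr := simp)]
lemma Spec_map_ev (x : 𝟙_ (Over (Spec (.of K))) ⟶ X) :
    Spec.map (ev x) ≫ X.left.fromSpecStalk (pt x) = x.left :=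
  Scheme.Spec_stalkClosedPointTo_fromSpecStalk (R := .of K) x.left

@[reassoc (attr := simp)]
lemma kAlg_ev (x : 𝟙_ (Over (Spec (.of K))) ⟶ X) : kAlg X.hom (pt x) ≫ ev x = 𝟙 _ := by
  apply Spec.map_injective
  rw [Spec.map_comp, Spec_map_kAlg, Spec_map_ev_assoc, Over.w, Spec.map_id]
  rfl

/-- The tangent vector attached to an algebra map from the stalk to the dual numbers. -/
noncomputable def ofStalk (x : 𝟙_ (Over (Spec (.of K))) ⟶ X)
    (g : X.left.presheaf.stalk (pt x) ⟶ CommRingCat.of (TrivSqZeroExt K K))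
    (hg : kAlg X.hom (pt x) ≫ g = CommRingCat.ofHom (algebraMap K (TrivSqZeroExt K K))) :
    specT (K := K) K ⟶ X :=
  Over.homMk (Spec.map g ≫ X.left.fromSpecStalk (pt x)) (by
    rw [Category.assoc, ← Spec_map_kAlg, ← Spec.map_comp, hg]
    rfl)

lemma ofStalk_left (x : 𝟙_ (Over (Spec (.of K))) ⟶ X)
    (g : X.left.presheaf.stalk (pt x) ⟶ CommRingCat.of (TrivSqZeroExt K K))
    (hg : kAlg X.hom (pt x) ≫ g = CommRingCat.ofHom (algebraMap K (TrivSqZeroExt K K))) :
    (ofStalk x g hg).left = Spec.map g ≫ X.left.fromSpecStalk (pt x) := rfl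

lemma specT0_ofStalk (x : 𝟙_ (Over (Spec (.of K))) ⟶ X)
    (g : X.left.presheaf.stalk (pt x) ⟶ CommRingCat.of (TrivSqZeroExt K K))
    (hg : kAlg X.hom (pt x) ≫ g = CommRingCat.ofHom (algebraMap K (TrivSqZeroExt K K)))
    (hg' : g ≫ CommRingCat.ofHom (TrivSqZeroExt.fstHom K K K).toRingHom = ev x) :
    specT0 K ≫ ofStalk x g hg = x := by
  ext1
  rw [Over.comp_left, specT0_left, ofStalk_left, ← Spec.map_comp_assoc, hg', Spec_map_ev]

lemma exists_ofStalk (x : 𝟙_ (Over (Spec (.of K))) ⟶ X) (τ : specT (K := K) K ⟶ X)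
    (hτ : specT0 K ≫ τ = x) :
    ∃ (g : X.left.presheaf.stalk (pt x) ⟶ CommRingCat.of (TrivSqZeroExt K K))
      (hg : kAlg X.hom (pt x) ≫ g = CommRingCat.ofHom (algebraMap K (TrivSqZeroExt K K))),
      g ≫ CommRingCat.ofHom (TrivSqZeroExt.fstHom K K K).toRingHom = ev x ∧
        τ = ofStalk x g hg := by
  obtain ⟨⟨y, a, ha⟩, hya⟩ := (SpecToEquivOfLocalRing X.left
    (.of (TrivSqZeroExt K K))).symm.surjective τ.left
  simp only [SpecToEquivOfLocalRing_symm_apply] at hya
  have h1 : x.left = Spec.map (a ≫ CommRingCat.ofHom (TrivSqZeroExt.fstHom K K K).toRingHom) ≫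
      X.left.fromSpecStalk y := by
    rw [Spec.map_comp, Category.assoc, hya, ← specT0_left, ← Over.comp_left, hτ]
  have hy : pt x = y := by
    have e0 : IsLocalHom (CommRingCat.Hom.hom (CommRingCat.ofHom
      (TrivSqZeroExt.fstHom K K K).toRingHom)) := isLocalHom_fstHom
    have e1 : IsLocalHom (a ≫ CommRingCat.ofHom
        (TrivSqZeroExt.fstHom K K K).toRingHom).hom := by
      rw [CommRingCat.hom_comp]
      exact RingHom.isLocalHom_comp _ _
    rw [← map_fromSpecStalk_closedPoint y (a ≫ CommRingCat.ofHom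
        (TrivSqZeroExt.fstHom K K K).toRingHom), ← h1]
  subst hy
  have hg : kAlg X.hom (pt x) ≫ a = CommRingCat.ofHom (algebraMap K (TrivSqZeroExt K K)) := by
    apply Spec.map_injective
    rw [Spec.map_comp, Spec_map_kAlg, reassoc_of% hya]
    exact Over.w τ
  refine ⟨a, hg, ?_, ?_⟩
  · apply Spec.map_injective
    rw [← cancel_mono (X.left.fromSpecStalk (pt x)), Spec_map_ev, h1]
  · ext1
    exact hya.symm

lemma kAlg_stalkMap (f : X ⟶ Y) (x : X.left) :
    kAlg Y.hom (f.left x) ≫ f.left.stalkMap x = kAlg X.hom x := by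
  apply Spec.map_injective
  rw [Spec.map_comp, Spec_map_kAlg, Spec_map_kAlg, Scheme.SpecMap_stalkMap_fromSpecStalk_assoc,
    Over.w]


lemma toUnit_comp_left (x : 𝟙_ (Over (Spec (.of K))) ⟶ X) :
    (toUnit (specT (K := K) K) ≫ x).left =
      Spec.map (ev x ≫ CommRingCat.ofHom (algebraMap K (TrivSqZeroExt K K))) ≫
        X.left.fromSpecStalk (pt x) := by
  rw [Over.comp_left, Spec.map_comp, Category.assoc, Spec_map_ev]
  rfl

lemma stalk_ext {R : CommRingCat.{u}} {X : Scheme.{u}} {x : X} {a b : X.presheaf.stalk x ⟶ R}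
    (h : Spec.map a ≫ X.fromSpecStalk x = Spec.map b ≫ X.fromSpecStalk x) : a = b :=
  Spec.map_injective ((cancel_mono _).mp h)

/-- Criterion for being unramified at a rational point in terms of tangent vectors. -/
theorem formallyUnramified_stalkMap (f : X ⟶ Y) [LocallyOfFiniteType f.left]
    (x : 𝟙_ (Over (Spec (.of K))) ⟶ X)
    (h : ∀ τ : specT (K := K) K ⟶ X, specT0 K ≫ τ = x →
      τ ≫ f = toUnit _ ≫ x ≫ f → τ = toUnit _ ≫ x) :
    (f.left.stalkMap (pt x)).hom.FormallyUnramified := by
  let O := X.left.presheaf.stalk (pt x)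
  let O' := Y.left.presheaf.stalk (f.left (pt x))
  let algO : Algebra K O := (kAlg X.hom (pt x)).hom.toAlgebra
  let algO' : Algebra K O' := (kAlg Y.hom (f.left (pt x))).hom.toAlgebra
  let algOO' : Algebra O' O := (f.left.stalkMap (pt x)).hom.toAlgebra
  have : IsScalarTower K O' O := .of_algebraMap_eq' (by
    have := kAlg_stalkMap f (pt x)
    exact congr(($this).hom).symm)
  have hess : (algebraMap O' O).EssFiniteType := LocallyOfFiniteType.stalkMap f.left (pt x)
  have : Algebra.EssFiniteType O' O := hess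
  let π : O →ₐ[K] K :=
    { (ev x).hom with commutes' := fun r ↦ congr(($(kAlg_ev x)).hom r) }
  refine formallyUnramified_of_dualNumber (K := K) (O' := O') (O := O) π ?_
  intro ψ hψ hψ'
  obtain ⟨g, hgψ⟩ : ∃ g : X.left.presheaf.stalk (pt x) ⟶ CommRingCat.of (TrivSqZeroExt K K),
    ∀ a, g.hom a = ψ a := ⟨CommRingCat.ofHom ψ.toRingHom, fun _ ↦ rfl⟩
  have hg : kAlg X.hom (pt x) ≫ g =
      CommRingCat.ofHom (algebraMap K (TrivSqZeroExt K K)) := by
    ext a : 2
    exact (hgψ _).trans (ψ.commutes a)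
  have hfst : g ≫ CommRingCat.ofHom (TrivSqZeroExt.fstHom K K K).toRingHom = ev x := by
    ext a : 2
    exact congr(TrivSqZeroExt.fst $(hgψ a)).trans (hψ a)
  have key := h (ofStalk x g hg) (specT0_ofStalk x _ hg hfst) (by
    ext1
    rw [Over.comp_left, ofStalk_left, ← Category.assoc (toUnit _), Over.comp_left,
      toUnit_comp_left, Category.assoc, Category.assoc, ← Scheme.SpecMap_stalkMap_fromSpecStalk,
      ← Spec.map_comp_assoc, ← Spec.map_comp_assoc]
    congr 2
    ext a
    · exact congr(TrivSqZeroExt.fst $(hgψ _)).trans (hψ _)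
    · exact congr(TrivSqZeroExt.snd $(hgψ _)).trans (hψ' _))
  have key2 := congr(($key).left)
  rw [ofStalk_left, toUnit_comp_left] at key2
  have key3 := stalk_ext key2
  intro a
  have := congr((($key3).hom a).snd)
  rw [hgψ] at this
  exact this

/-- Criterion for being smooth at a rational point in terms of tangent vectors. -/
theorem formallySmooth_stalkMap (f : X ⟶ Y) [Smooth X.hom] [Smooth Y.hom]
    (x : 𝟙_ (Over (Spec (.of K))) ⟶ X)
    (h : ∀ τ' : specT (K := K) K ⟶ Y, specT0 K ≫ τ' = x ≫ f →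
      ∃ τ : specT (K := K) K ⟶ X, specT0 K ≫ τ = x ∧ τ ≫ f = τ') :
    (f.left.stalkMap (pt x)).hom.FormallySmooth := by
  let O := X.left.presheaf.stalk (pt x)
  let O' := Y.left.presheaf.stalk (f.left (pt x))
  let algO : Algebra K O := (kAlg X.hom (pt x)).hom.toAlgebra
  let algO' : Algebra K O' := (kAlg Y.hom (f.left (pt x))).hom.toAlgebra
  let algOO' : Algebra O' O := (f.left.stalkMap (pt x)).hom.toAlgebra
  have : IsScalarTower K O' O := .of_algebraMap_eq' (by
    have := kAlg_stalkMap f (pt x)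
    exact congr(($this).hom).symm)
  have hess : (algebraMap K O).EssFiniteType := essFiniteType_kAlg X.hom (pt x)
  have : Algebra.EssFiniteType K O := hess
  have hess' : (algebraMap K O').EssFiniteType := essFiniteType_kAlg Y.hom (f.left (pt x))
  have : Algebra.EssFiniteType K O' := hess'
  have hsm : (algebraMap K O).FormallySmooth := formallySmooth_kAlg X.hom (pt x)
  have : Algebra.FormallySmooth K O := hsm
  have hsm' : (algebraMap K O').FormallySmooth := formallySmooth_kAlg Y.hom (f.left (pt x))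
  have : Algebra.FormallySmooth K O' := hsm'
  have hloc : IsLocalHom (algebraMap O' O) :=
    inferInstanceAs (IsLocalHom (f.left.stalkMap (pt x)).hom)
  let π : O →ₐ[K] K :=
    { (ev x).hom with commutes' := fun r ↦ congr(($(kAlg_ev x)).hom r) }
  refine formallySmooth_of_dualNumber (K := K) (O' := O') (O := O) π ?_
  intro ψ' hψ'
  let τ' : specT (K := K) K ⟶ Y :=
    Over.homMk (Spec.map (CommRingCat.ofHom ψ'.toRingHom) ≫ Y.left.fromSpecStalk (f.left (pt x)))
      (by
        rw [Category.assoc, ← Spec_map_kAlg, ← Spec.map_comp]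
        congr 1
        ext1
        exact ψ'.comp_algebraMap)
  have hτ'left : τ'.left = Spec.map (CommRingCat.ofHom ψ'.toRingHom) ≫
    Y.left.fromSpecStalk (f.left (pt x)) := rfl
  obtain ⟨τ, hτ, hττ'⟩ := h τ' (by
    ext1
    rw [Over.comp_left, Over.comp_left, hτ'left, ← Spec_map_ev x, specT0_left, Category.assoc,
      ← Scheme.SpecMap_stalkMap_fromSpecStalk, ← Spec.map_comp_assoc, ← Spec.map_comp_assoc]
    congr 2
    ext a
    exact hψ' a)
  obtain ⟨g, hg, hgev, rfl⟩ := exists_ofStalk x τ hτ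
  refine ⟨{ g.hom with commutes' := fun r ↦ congr(($hg).hom r) }, fun a ↦ congr(($hgev).hom a),
    fun a ↦ ?_⟩
  have key := congr(($hττ').left)
  rw [Over.comp_left, ofStalk_left, hτ'left, Category.assoc,
    ← Scheme.SpecMap_stalkMap_fromSpecStalk, ← Spec.map_comp_assoc] at key
  exact congr(($(stalk_ext key)).hom a)

end Tangent

end Groth.Agent.Grpsch.AbStalk
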