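import Groth.Agent.Grpsch.AbRing
import Mathlib.AlgebraicGeometry.Group.Smooth
import Mathlib.AlgebraicGeometry.Group.Abelian
import Mathlib.AlgebraicGeometry.Morphisms.Etale
import Mathlib.AlgebraicGeometry.Morphisms.FormallyUnramified

/-!
# Tangent vectors of group schemes over a field
-/

set_option autoImplicit false

open CategoryTheory Limits MonoidalCategory CartesianMonoidalCategory MonObj AlgebraicGeometry

namespace Groth.Agent.Grpsch.AbTangent

universe u

variable {K : Type u} [Field K]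

/-! ### The square zero extensions -/

section T

instance isLocalRing_tsze (M : Type u) [AddCommGroup M] [Module K M]
    [Module Kᵐᵒᵖ M] [IsCentralScalar K M] :
    IsLocalRing (TrivSqZeroExt K M) where
  isUnit_or_isUnit_of_add_one {a b} h := by
    rw [TrivSqZeroExt.isUnit_iff_isUnit_fst, TrivSqZeroExt.isUnit_iff_isUnit_fst]
    have : a.fst + b.fst = 1 := by rw [← TrivSqZeroExt.fst_add, h, TrivSqZeroExt.fst_one]
    exact IsLocalRing.isUnit_or_isUnit_of_add_one this

variable (M N P : Type u) [AddCommGroup M] [Module K M] [AddCommGroup N] [Module K N]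
  [AddCommGroup P] [Module K P]
  [Module Kᵐᵒᵖ M] [IsCentralScalar K M] [Module Kᵐᵒᵖ N] [IsCentralScalar K N]
  [Module Kᵐᵒᵖ P] [IsCentralScalar K P]

/-- `Spec` of the square zero extension `K ⊕ M`, over `Spec K`. -/
noncomputable abbrev specT : Over (Spec (.of K)) :=
  Over.mk (Spec.map (CommRingCat.ofHom (algebraMap K (TrivSqZeroExt K M))))

variable {M N P}

/-- functoriality. -/
noncomputable def specTmap (φ : M →ₗ[K] N) : specT (K := K) N ⟶ specT (K := K) M :=
  Over.homMk (Spec.map (CommRingCat.ofHom (TrivSqZeroExt.map φ).toRingHom)) (by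
    dsimp
    rw [← Spec.map_comp, ← CommRingCat.ofHom_comp]
    congr 2
    exact (TrivSqZeroExt.map φ).comp_algebraMap)

@[simp] lemma specTmap_left (φ : M →ₗ[K] N) :
    (specTmap φ).left = Spec.map (CommRingCat.ofHom (TrivSqZeroExt.map φ).toRingHom) := rfl

@[simp] lemma specTmap_id : specTmap (LinearMap.id : M →ₗ[K] M) = 𝟙 _ := by
  ext1
  dsimp
  rw [TrivSqZeroExt.map_id]
  exact Spec.map_id _

@[reassoc]
lemma specTmap_comp (φ : M →ₗ[K] N) (ψ : N →ₗ[K] P) :
    specTmap ψ ≫ specTmap φ = specTmap (ψ ∘ₗ φ) := by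
  ext1
  dsimp
  rw [← Spec.map_comp, ← CommRingCat.ofHom_comp]
  congr 2
  ext x <;> simp

variable (M)
/-- the closed point -/
noncomputable def specT0 : 𝟙_ (Over (Spec (.of K))) ⟶ specT (K := K) M :=
  Over.homMk (Spec.map (CommRingCat.ofHom (TrivSqZeroExt.fstHom K K M).toRingHom)) (by
    dsimp
    rw [← Spec.map_comp, ← CommRingCat.ofHom_comp]
    exact Spec.map_id _)

@[simp] lemma specT0_left :
    (specT0 M).left = Spec.map (CommRingCat.ofHom (TrivSqZeroExt.fstHom K K M).toRingHom) := rfl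
variable {M}

lemma specTmap_zero : specTmap (0 : M →ₗ[K] N) = toUnit _ ≫ specT0 (K := K) M := by
  ext1
  rw [Over.comp_left, specTmap_left, specT0_left]
  change _ = Spec.map _ ≫ _
  rw [← Spec.map_comp, ← CommRingCat.ofHom_comp]
  congr 2
  ext x <;> simp [TrivSqZeroExt.algebraMap_eq_inl]

@[reassoc (attr := simp)]
lemma specT0_comp (φ : M →ₗ[K] N) : specT0 (K := K) N ≫ specTmap φ = specT0 M := by
  ext1
  rw [Over.comp_left, specTmap_left, specT0_left]
  rw [← Spec.map_comp, ← CommRingCat.ofHom_comp]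
  congr 2
  ext x <;> simp


instance isLocalHom_fstHom : IsLocalHom (TrivSqZeroExt.fstHom K K M).toRingHom where
  map_nonunit a ha := by rwa [TrivSqZeroExt.isUnit_iff_isUnit_fst]

instance isLocalHom_map (φ : M →ₗ[K] N) : IsLocalHom (TrivSqZeroExt.map φ).toRingHom where
  map_nonunit a ha := by
    rw [TrivSqZeroExt.isUnit_iff_isUnit_fst] at ha ⊢
    simpa using ha


set_option backward.isDefEq.respectTransparency false in
lemma map_fromSpecStalk_closedPoint {X : Scheme.{u}} {R : CommRingCat.{u}} [IsLocalRing R] (x : X)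
    (a : X.presheaf.stalk x ⟶ R) [IsLocalHom a.hom] :
    (Spec.map a ≫ X.fromSpecStalk x) (IsLocalRing.closedPoint R) = x := by
  rw [Scheme.Hom.comp_apply, Spec_closedPoint, Scheme.fromSpecStalk_closedPoint]

/-- Two tangent vectors agree if their components agree -/
lemma specT_hom_ext {G : Over (Spec (.of K))} (f g : specT (K := K) (M × N) ⟶ G)
    (h₁ : specTmap (LinearMap.fst K M N) ≫ f = specTmap (LinearMap.fst K M N) ≫ g)
    (h₂ : specTmap (LinearMap.snd K M N) ≫ f = specTmap (LinearMap.snd K M N) ≫ g) : f = g := by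
  ext1
  obtain ⟨⟨x, a, ha⟩, hxa⟩ := (SpecToEquivOfLocalRing G.left
    (.of (TrivSqZeroExt K (M × N)))).symm.surjective f.left
  obtain ⟨⟨y, b, hb⟩, hyb⟩ := (SpecToEquivOfLocalRing G.left
    (.of (TrivSqZeroExt K (M × N)))).symm.surjective g.left
  simp only [SpecToEquivOfLocalRing_symm_apply] at hxa hyb
  have h₁' := congr(($h₁).left)
  have h₂' := congr(($h₂).left)
  simp only [Over.comp_left, ← hxa, ← hyb, specTmap_left, ← Spec.map_comp_assoc] at h₁' h₂'
  have hxy : x = y := by
    have e0 : IsLocalHom (CommRingCat.Hom.hom (CommRingCat.ofHom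
      (TrivSqZeroExt.map (LinearMap.fst K M N)).toRingHom)) := isLocalHom_map _
    have e1 : IsLocalHom (a ≫ CommRingCat.ofHom
        (TrivSqZeroExt.map (LinearMap.fst K M N)).toRingHom).hom := by
      rw [CommRingCat.hom_comp]
      exact RingHom.isLocalHom_comp _ _
    have e2 : IsLocalHom (b ≫ CommRingCat.ofHom
        (TrivSqZeroExt.map (LinearMap.fst K M N)).toRingHom).hom := by
      rw [CommRingCat.hom_comp]
      exact RingHom.isLocalHom_comp _ _
    rw [← map_fromSpecStalk_closedPoint x (a ≫ CommRingCat.ofHom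
        (TrivSqZeroExt.map (LinearMap.fst K M N)).toRingHom),
      ← map_fromSpecStalk_closedPoint y (b ≫ CommRingCat.ofHom
        (TrivSqZeroExt.map (LinearMap.fst K M N)).toRingHom), h₁']
  subst hxy
  rw [← hxa, ← hyb]
  rw [cancel_mono] at h₁' h₂'
  have h₁'' := Spec.map_injective h₁'
  have h₂'' := Spec.map_injective h₂'
  congr 2
  ext z
  · simpa using congr(($h₁'' z).fst)
  · simpa using congr(($h₁'' z).snd)
  · simpa using congr(($h₂'' z).snd)

end T

/-! ### Tangent vectors at the origin of a group scheme -/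

section G

variable (G : Over (Spec (.of K))) [GrpObj G]

variable {M N : Type u} [AddCommGroup M] [Module K M] [AddCommGroup N] [Module K N]
  [Module Kᵐᵒᵖ M] [IsCentralScalar K M] [Module Kᵐᵒᵖ N] [IsCentralScalar K N]

variable {G}

lemma specTmap_zero_comp (τ : specT (K := K) M ⟶ G) (hτ : specT0 M ≫ τ = η[G]) :
    specTmap (0 : M →ₗ[K] N) ≫ τ = 1 := by
  rw [specTmap_zero, Category.assoc, hτ, Hom.one_def]

/-- the group law on tangent vectors at the origin is addition -/
lemma mul_eq_specTmap_add (τ : specT (K := K) M ⟶ G) (hτ : specT0 M ≫ τ = η[G])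
    (φ ψ : M →ₗ[K] N) :
    (specTmap φ ≫ τ) * (specTmap ψ ≫ τ) = specTmap (φ + ψ) ≫ τ := by
  have key : (specTmap (LinearMap.inl K M M) ≫ τ) * (specTmap (LinearMap.inr K M M) ≫ τ) =
      specTmap (LinearMap.inl K M M + LinearMap.inr K M M) ≫ τ := by
    apply specT_hom_ext
    · rw [MonObj.comp_mul, specTmap_comp_assoc, specTmap_comp_assoc, specTmap_comp_assoc]
      rw [LinearMap.fst_comp_inl, LinearMap.fst_comp_inr, LinearMap.comp_add, LinearMap.fst_comp_inl,
        LinearMap.fst_comp_inr, specTmap_zero_comp τ hτ, add_zero, _root_.mul_one]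
    · rw [MonObj.comp_mul, specTmap_comp_assoc, specTmap_comp_assoc, specTmap_comp_assoc]
      rw [LinearMap.snd_comp_inl, LinearMap.snd_comp_inr, LinearMap.comp_add, LinearMap.snd_comp_inl,
        LinearMap.snd_comp_inr, specTmap_zero_comp τ hτ, zero_add, _root_.one_mul]
  have := congr(specTmap (LinearMap.coprod φ ψ) ≫ $key)
  rw [MonObj.comp_mul, specTmap_comp_assoc, specTmap_comp_assoc, specTmap_comp_assoc] at this
  rw [LinearMap.coprod_inl, LinearMap.coprod_inr, LinearMap.comp_add, LinearMap.coprod_inl,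
    LinearMap.coprod_inr] at this
  exact this

/-- the homomorphism `φ ↦ φ^* τ` -/
noncomputable def tangentHom (τ : specT (K := K) M ⟶ G) (hτ : specT0 M ≫ τ = η[G]) :
    Multiplicative (M →ₗ[K] N) →* (specT (K := K) N ⟶ G) where
  toFun φ := specTmap φ.toAdd ≫ τ
  map_one' := specTmap_zero_comp τ hτ
  map_mul' _ _ := (mul_eq_specTmap_add τ hτ _ _).symm

/-- `[d]` acts as multiplication by `d` on the tangent vectors at the origin. -/
lemma zpow_eq_specTmap_zsmul (τ : specT (K := K) M ⟶ G) (hτ : specT0 M ≫ τ = η[G])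
    (φ : M →ₗ[K] N) (d : ℤ) :
    (specTmap φ ≫ τ) ^ d = specTmap (d • φ) ≫ τ :=
  (map_zpow (tangentHom (N := N) τ hτ) (Multiplicative.ofAdd φ) d).symm

lemma comp_zpow_eq_specTmap_zsmul (τ : specT (K := K) M ⟶ G) (hτ : specT0 M ≫ τ = η[G])
    (d : ℤ) : τ ≫ (𝟙 G ^ d) = specTmap (d • LinearMap.id) ≫ τ := by
  rw [GrpObj.comp_zpow, Category.comp_id, ← zpow_eq_specTmap_zsmul τ hτ, specTmap_id,
    Category.id_comp]

end G

end Groth.Agent.Grpsch.AbTangent
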