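import Groth.Agent.Grpsch.AbBC
import Mathlib.Topology.KrullDimension

/-!
# Consequences of being unramified at a rational point
-/

set_option autoImplicit false

open CategoryTheory Limits MonoidalCategory CartesianMonoidalCategory MonObj AlgebraicGeometry

namespace Groth.Agent.Grpsch.AbUnram

open AbRing AbTangent AbStalk AbEtale AbBC

universe u

variable {K : Type u} [Field K] {X Y : Over (Spec (.of K))}

/-- if `f` is unramified at a rational point `x` then it is injective on tangent vectors at `x`. -/
lemma tangent_eq_of_formallyUnramified (f : X ⟶ Y) (x : 𝟙_ (Over (Spec (.of K))) ⟶ X)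
    (h : (f.left.stalkMap (pt x)).hom.FormallyUnramified) (τ : specT (K := K) K ⟶ X)
    (hτ : specT0 K ≫ τ = x) (hf : τ ≫ f = toUnit _ ≫ x ≫ f) : τ = toUnit _ ≫ x := by
  obtain ⟨g, hg, hgev, rfl⟩ := exists_ofStalk x τ hτ
  have key := congr(($hf).left)
  rw [Over.comp_left, ofStalk_left, ← Category.assoc (toUnit _), Over.comp_left,
      toUnit_comp_left, Category.assoc, Category.assoc, ← Scheme.SpecMap_stalkMap_fromSpecStalk,
      ← Spec.map_comp_assoc, ← Spec.map_comp_assoc] at key
  have key2 := stalk_ext key
  let O := X.left.presheaf.stalk (pt x)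
  let O' := Y.left.presheaf.stalk (f.left (pt x))
  let algO : Algebra K O := (kAlg X.hom (pt x)).hom.toAlgebra
  let algOO' : Algebra O' O := (f.left.stalkMap (pt x)).hom.toAlgebra
  have : Algebra.FormallyUnramified O' O := h
  let π : O →ₐ[K] K :=
    { (ev x).hom with commutes' := fun r ↦ congr(($(kAlg_ev x)).hom r) }
  let ψ : O →ₐ[K] TrivSqZeroExt K K := { g.hom with commutes' := fun r ↦ congr(($hg).hom r) }
  have h1 := derivation_eq_zero_of_formallyUnramified (O' := O') π ψ (fun a ↦ congr(($hgev).hom a))
    (fun a ↦ congr(TrivSqZeroExt.snd (($key2).hom a)))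
  ext1
  rw [ofStalk_left, toUnit_comp_left]
  congr 2
  ext a
  · exact congr(($hgev).hom a)
  · exact h1 a


lemma formallyUnramified_toStalk (y : PrimeSpectrum K) :
    (StructureSheaf.toStalk K y).hom.FormallyUnramified := by
  have h1 : IsLocalization.AtPrime ((Spec.structureSheaf K).presheaf.stalk y) y.asIdeal :=
    inferInstance
  exact Algebra.FormallyUnramified.of_isLocalization (R := K)
    (Rₘ := (Spec.structureSheaf K).presheaf.stalk y) (y.asIdeal.primeCompl)

/-- a rational point at which `X` is unramified over `K` has a field as local ring. -/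
lemma isField_stalk [LocallyOfFiniteType X.hom] (x : X.left)
    (h : (X.hom.stalkMap x).hom.FormallyUnramified) :
    IsField (X.left.presheaf.stalk x) := by
  have h1 : (kAlg X.hom x).hom.FormallyUnramified := by
    rw [kAlg_eq, CommRingCat.hom_comp]
    exact RingHom.FormallyUnramified.comp (formallyUnramified_toStalk _) h
  let O := X.left.presheaf.stalk x
  let algO : Algebra K O := (kAlg X.hom x).hom.toAlgebra
  have : Algebra.FormallyUnramified K O := h1
  have hess : (algebraMap K O).EssFiniteType := essFiniteType_kAlg X.hom x
  have : Algebra.EssFiniteType K O := hess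
  have : Module.Finite K O := Algebra.FormallyUnramified.finite_of_free K O
  have : IsArtinianRing O := IsArtinianRing.of_finite K O
  have : IsReduced O := Algebra.FormallyUnramified.isReduced_of_field K O
  exact IsArtinianRing.isField_of_isReduced_of_isLocalRing O

/-- on an irreducible scheme, a closed point whose local ring is a field is the only point -/
lemma subsingleton_of_isField {X : Scheme.{u}} [IrreducibleSpace X] (x : X) (hx : IsClosed {x})
    (h : IsField (X.presheaf.stalk x)) : Subsingleton X := by
  have hgen : genericPoint X = x := by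
    have h1 : genericPoint X ∈ Set.range (X.fromSpecStalk x) := by
      rw [Scheme.range_fromSpecStalk]
      exact genericPoint_specializes x
    obtain ⟨y, hy⟩ := h1
    have : Subsingleton (Spec (X.presheaf.stalk x)) := by
      let := h.toField
      exact inferInstanceAs (Subsingleton (PrimeSpectrum (X.presheaf.stalk x)))
    rw [← hy, Subsingleton.elim y (IsLocalRing.closedPoint (X.presheaf.stalk x)),
      Scheme.fromSpecStalk_closedPoint]
  have h2 : ∀ y : X, y = x := by
    intro y
    have := genericPoint_specializes y
    rw [hgen] at this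
    exact (this.mem_closed hx rfl)
  exact ⟨fun a b ↦ (h2 a).trans (h2 b).symm⟩

end Groth.Agent.Grpsch.AbUnram
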