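import Groth.Agent.Fdesc.LocGen
import Groth.Agent.Grpsch.ImmLocus
import Mathlib.AlgebraicGeometry.QuasiAffine

/-!
# Finite sets of points in quasi-affine schemes lie in an affine open
-/

set_option autoImplicit false

universe u

open CategoryTheory CategoryTheory.Limits AlgebraicGeometry TopologicalSpace Opposite

namespace Groth.Agent.Grpsch.AffFinite

open Groth.Agent.Fdesc.LocGen

variable {X : Scheme.{u}}

/-- In a quasi-affine scheme every finite set is contained in an affine open. -/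
theorem exists_affine_of_quasiAffine [X.IsQuasiAffine] (O : Set X) (hO : O.Finite) :
    ∃ V : X.Opens, IsAffineOpen V ∧ O ⊆ V := by
  let j : X ⟶ Spec (CommRingCat.of Γ(X, ⊤)) := X.toSpecΓ
  have hj : IsOpenImmersion j := inferInstanceAs (IsOpenImmersion X.toSpecΓ)
  have hjo : IsOpen (Set.range j) := j.isOpenEmbedding.isOpen_range
  let I : Ideal Γ(X, ⊤) := PrimeSpectrum.vanishingIdeal (Set.range j)ᶜ
  have hI : PrimeSpectrum.zeroLocus (I : Set Γ(X, ⊤)) = (Set.range j)ᶜ :=
    (PrimeSpectrum.zeroLocus_vanishingIdeal_eq_closure _).trans hjo.isClosed_compl.closure_eq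
  obtain ⟨f, hfI, hf, -⟩ := ImmLocus.exists_mem_avoid j I
    (fun x hx => by rw [hI] at hx; exact hx ⟨x, rfl⟩) ∅ isClosed_empty O hO (fun _ _ h => h)
  refine ⟨_, (ImmLocus.affine_basicOpen j I ?_ f hfI).1, hf⟩
  rw [hI]
  have h1 : (Set.range j)ᶜ ∪ Set.range j = Set.univ := Set.compl_union_self _
  exact h1 ▸ isClosed_univ

theorem basicOpen_ores {U V : X.Opens} (h : V ≤ U) (f : Γ(X, U)) :
    X.basicOpen (ores h f) = V ⊓ X.basicOpen f :=
  X.basicOpen_res _ (homOfLE h).op

/-- An open covered by affine basic opens of its sections: finite subsets are contained in an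
affine open. -/
theorem exists_affine_of_cover (W : X.Opens) (hW : IsCompact (W : Set X))
    (H : ∀ x ∈ W, ∃ r : Γ(X, W), IsAffineOpen (X.basicOpen r) ∧ x ∈ X.basicOpen r)
    (O : Set X) (hO : O.Finite) (hOW : O ⊆ W) :
    ∃ V : X.Opens, IsAffineOpen V ∧ O ⊆ V := by
  have : CompactSpace W.toScheme := isCompact_iff_compactSpace.mp hW
  have : W.toScheme.IsQuasiAffine := by
    refine Scheme.IsQuasiAffine.of_forall_exists_mem_basicOpen _ fun x => ?_
    obtain ⟨r, hr, hxr⟩ := H x.1 x.2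
    refine ⟨W.topIso.inv r, ?_, ?_⟩
    · rw [← Scheme.Hom.isAffineOpen_iff_of_isOpenImmersion W.ι,
        Scheme.Opens.ι_image_basicOpen_topIso_inv]
      exact hr
    · rw [← Scheme.Opens.ι_image_basicOpen_topIso_inv] at hxr
      obtain ⟨y, hy, hyx⟩ := hxr
      have : y = x := W.ι.isOpenEmbedding.injective hyx
      exact this ▸ hy
  obtain ⟨V, hV, hOV⟩ := exists_affine_of_quasiAffine (X := W.toScheme) (W.ι ⁻¹' O)
    (hO.preimage W.ι.isOpenEmbedding.injective.injOn)
  refine ⟨W.ι ''ᵁ V, hV.image_of_isOpenImmersion W.ι, ?_⟩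
  intro x hx
  exact ⟨⟨x, hOW hx⟩, hOV hx, rfl⟩

/-- If `W` is an open of a separated scheme, `f ∈ Γ(X, W)` with `D(f) ≤ U` and `D(1 - f) ≤ V` for
affine opens `U`, `V`, then every finite subset of `W` is contained in an affine open. -/
theorem exists_affine_of_split [X.IsSeparated] {U V W : X.Opens} (hU : IsAffineOpen U)
    (hV : IsAffineOpen V) (hW : IsCompact (W : Set X)) (f : Γ(X, W))
    (hfU : X.basicOpen f ≤ U) (hfV : X.basicOpen (1 - f) ≤ V) (O : Set X) (hO : O.Finite)
    (hOW : O ⊆ W) : ∃ V : X.Opens, IsAffineOpen V ∧ O ⊆ V := by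
  have key : ∀ (U : X.Opens), IsAffineOpen U → ∀ f : Γ(X, W), X.basicOpen f ≤ U →
      ∀ x ∈ X.basicOpen f, ∃ r : Γ(X, W), IsAffineOpen (X.basicOpen r) ∧ x ∈ X.basicOpen r := by
    intro U hU f hfU x hx
    obtain ⟨r₀, hr₀, hxr⟩ := hU.exists_basicOpen_le ⟨x, hx⟩ (hfU hx)
    have hloc := isLocalization_basicOpen_of_qcqs hW
      (isQuasiSeparated_univ.of_subset (Set.subset_univ _)) f
    obtain ⟨n, r, hr⟩ := IsLocalization.Away.surj f (ores hfU r₀)
    have hr' : ores hfU r₀ * ores (X.basicOpen_le f) f ^ n = ores (X.basicOpen_le f) r := hr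
    have e : X.basicOpen (f * r) = X.basicOpen r₀ := by
      have hu : IsUnit (ores (X.basicOpen_le f) f ^ n) :=
        (X.toRingedSpace.isUnit_res_basicOpen f).pow n
      rw [Scheme.basicOpen_mul, ← basicOpen_ores (X.basicOpen_le f), ← hr', Scheme.basicOpen_mul,
        basicOpen_ores, X.basicOpen_of_isUnit hu]
      refine le_antisymm (inf_le_left.trans inf_le_right) (le_inf (le_inf hr₀ le_rfl) hr₀)
    refine ⟨f * r, ?_, ?_⟩
    · rw [e]; exact hU.basicOpen r₀
    · rw [e]; exact hxr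
  refine exists_affine_of_cover W hW (fun x hx => ?_) O hO hOW
  have h1 : x ∈ X.basicOpen f ∨ x ∈ X.basicOpen (1 - f) := by
    refine X.basicOpen_add_le f (1 - f) ?_
    rw [add_sub_cancel, Scheme.basicOpen_one]
    exact hx
  rcases h1 with h | h
  · exact key U hU f hfU x h
  · exact key V hV _ hfV x h

end Groth.Agent.Grpsch.AffFinite
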