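import Groth.Agent.Grpsch.Cotangent
import Mathlib.AlgebraicGeometry.Group.Affine

set_option autoImplicit false
universe u

/-!
Affine group schemes over a field are spectra of Hopf algebras.
-/

open CategoryTheory Limits MonoidalCategory CartesianMonoidalCategory MonObj GrpObj
  AlgebraicGeometry

namespace Groth.Agent.Grpsch.AffHopf

open Groth.Agent.Grpsch.Cotangent

section

variable (R : CommRingCat.{u}) (F : Scheme.{u}) [F.Over (Spec R)]
    [GrpObj (F.asOver (Spec R))] [IsAffine F]

theorem exists_hopfAlgebra_aux :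
    ∃ (B : Type u) (_ : CommRing B) (_ : HopfAlgebra R B) (e : F ≅ Spec (CommRingCat.of B)),
      e.hom ≫ Spec.map (CommRingCat.ofHom (algebraMap R B)) = F ↘ Spec R := by
  let H : HopfAlgebra R Γ(F, ⊤) := inferInstance
  refine ⟨Γ(F, ⊤), inferInstance, H, F.isoSpec, ?_⟩
  have h1 : Spec.map (CommRingCat.ofHom (algebraMap R Γ(F, ⊤))) =
    F.isoSpec.inv ≫ (F ↘ Spec R) := by
    exact Spec.fullyFaithful.map_preimage (F.isoSpec.inv ≫ F ↘ Spec R)
  exact (congrArg (fun z => F.isoSpec.hom ≫ z) h1).trans (Iso.hom_inv_id_assoc _ _)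

end

variable (K : Type u) [Field K]

/-- An affine group scheme over `K` is the spectrum of a commutative Hopf algebra. -/
theorem exists_hopfAlgebra (F : Over (Spec (CommRingCat.of K))) [GrpObj F] [IsAffine F.left] :
    ∃ (B : Type u) (_ : CommRing B) (_ : HopfAlgebra K B), Nonempty (F ≅ Sp K B) := by
  obtain ⟨B, i1, i2, e, he⟩ :=
    @exists_hopfAlgebra_aux (CommRingCat.of K) F.left ⟨F.hom⟩ ‹GrpObj F› _
  exact ⟨B, i1, i2, ⟨Over.isoMk e he⟩⟩

end Groth.Agent.Grpsch.AffHopf
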