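import Groth.Agent.Picfga.LineCocycle
import Groth.Agent.Fdesc.LocGenAmple
import Mathlib.AlgebraicGeometry.Morphisms.Affine

/-!
# Ample modules from cocycles on affine covers
-/

set_option autoImplicit false

universe u

open CategoryTheory AlgebraicGeometry TopologicalSpace Opposite

namespace Groth.Agent.Grpsch.AmpCocycle

open Groth.Agent.Fdesc.LocGen Groth.Agent.Picfga.LineCocycle

/-- An affine cover `V i` together with functions `a i j` on `V i` with non-vanishing locus
`V i ⊓ V j` forming a cocycle gives an ample module. -/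
theorem exists_isAmple_of_cocycle {Y : Scheme.{u}} [CompactSpace Y] {ι : Type u}
    (V : ι → Y.Opens) (hV : ∀ i, IsAffineOpen (V i)) (hcov : ⨆ i, V i = ⊤)
    (a : ∀ i j : ι, Γ(Y, V i)) (ha1 : ∀ i, a i i = 1)
    (hbas : ∀ i j, Y.basicOpen (a i j) = V i ⊓ V j)
    (hcoc : ∀ i j k (T : Y.Opens) (hi : T ≤ V i) (hj : T ≤ V j),
      ores hi (a i j) * ores hj (a j k) = ores hi (a i k)) :
    ∃ L : Y.Modules, CohB1.IsAmple L := by
  obtain ⟨L, e, he, hee⟩ := exists_of_cocycle V (fun i j => ores inf_le_right (a j i))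
    (fun i => by rw [ha1, map_one]) (fun i _ k T hi hj hk => by
      simp only [ores_ores]
      rw [mul_comm]
      exact (hcoc k _ i T hk hj).symm)
  have hinv : PicF.IsInvertible L := by
    rw [isInvertible_iff]
    intro x
    obtain ⟨i, hi⟩ := Opens.mem_iSup.mp (hcov.ge (show x ∈ (⊤ : Y.Opens) from trivial))
    exact ⟨V i, e i, hi, he i⟩
  refine ⟨L, hinv, inferInstance, fun x => ?_⟩
  obtain ⟨k, hk⟩ := Opens.mem_iSup.mp (hcov.ge (show x ∈ (⊤ : Y.Opens) from trivial))
  obtain ⟨s, hs⟩ := exists_hom_of_family (M := CohB1.tensorPow L 1) V hcov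
    (fun i => a i k • pow (e i) 1) (fun i j => by
      rw [res_smul, res_smul, res_pow, res_pow, hee, smul_pow, pow_one, smul_smul]
      congr 1
      rw [mul_comm]
      exact hcoc j i k _ inf_le_right inf_le_left)
  have hgen : ∀ i, CohB1.genLocus _ s ⊓ V i = V i ⊓ V k := fun i => by
    rw [genLocus_inf_eq s ((he i).pow 1) (hs i), hbas]
  have hloc : CohB1.genLocus _ s = V k := by
    apply le_antisymm
    · intro y hy
      obtain ⟨i, hi⟩ := Opens.mem_iSup.mp (hcov.ge (show y ∈ (⊤ : Y.Opens) from trivial))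
      have : y ∈ V i ⊓ V k := by rw [← hgen i]; exact ⟨hy, hi⟩
      exact this.2
    · have := hgen k
      rw [inf_idem, inf_eq_right] at this
      exact this
  refine ⟨0, s, ?_, ?_⟩
  · change x ∈ CohB1.genLocus _ s
    rw [hloc]; exact hk
  · change IsAffineOpen (CohB1.genLocus _ s)
    rw [hloc]; exact hV k

end Groth.Agent.Grpsch.AmpCocycle
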