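import Groth.Agent.Grpsch.AmpMain
import Groth.Agent.Grpsch.AmpCocycle
import Mathlib.RingTheory.QuasiFinite.Basic

/-!
# Existence of an ample module from a family of translates
-/

set_option autoImplicit false

universe u

open CategoryTheory CategoryTheory.Limits AlgebraicGeometry TensorProduct TopologicalSpace

namespace Groth.Agent.Grpsch.AmpBuild

open Groth.Agent.Grpsch.AmpPoly Groth.Agent.Grpsch.AmpPoints
  Groth.Agent.Grpsch.AmpPrincipal Groth.Agent.Grpsch.AmpLocal Groth.Agent.Grpsch.AmpCompare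
  Groth.Agent.Grpsch.AmpFamily Groth.Agent.Grpsch.AmpHeight Groth.Agent.Grpsch.AmpMain
  Groth.Agent.Grpsch.AmpCocycle Groth.Agent.Fdesc.LocGen

/-- A rational function which is regular at all points of `U` is a section over `U`. -/
theorem exists_section_of_forall {X : Scheme.{u}} [IsIntegral X] (U : X.Opens) [Nonempty U]
    (φ : X.functionField)
    (h : ∀ x ∈ U, ∃ r : X.presheaf.stalk x, algebraMap (X.presheaf.stalk x) X.functionField r = φ) :
    ∃ s : Γ(X, U), X.germToFunctionField U s = φ := by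
  have key : ∀ x : U, ∃ (W : X.Opens) (hW : W ≤ U) (hx : x.1 ∈ W) (s : Γ(X, W)),
      haveI : Nonempty W := ⟨⟨x.1, hx⟩⟩
      X.germToFunctionField W s = φ := by
    intro x
    obtain ⟨r, hr⟩ := h x.1 x.2
    obtain ⟨W, hxW, s, hs⟩ := X.presheaf.exists_germ_eq r
    refine ⟨W ⊓ U, inf_le_right, ⟨hxW, x.2⟩, X.presheaf.map (homOfLE inf_le_left).op s, ?_⟩
    have hxWU : x.1 ∈ (W ⊓ U : X.Opens) := ⟨hxW, x.2⟩
    have : Nonempty (W ⊓ U : X.Opens) := ⟨⟨x.1, hxWU⟩⟩
    rw [← Scheme.algebraMap_germ_eq_germToFunctionField X hxWU]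
    rw [← hr, ← hs]
    congr 1
    exact X.presheaf.germ_res_apply _ _ _ _
  choose W hW hx s hs using key
  have hgen : ∀ x : U, genericPoint X ∈ W x := fun x =>
    ((genericPoint_spec X).mem_open_set_iff (W x).isOpen).mpr ⟨x.1, trivial, hx x⟩
  obtain ⟨t, ht⟩ := ores_glue (X := X) (V := U) W hW (fun y hy => Opens.mem_iSup.mpr ⟨⟨y, hy⟩, hx ⟨y, hy⟩⟩)
    s (fun x y => by
      have hn : Nonempty (W x ⊓ W y : X.Opens) := ⟨⟨genericPoint X, hgen x, hgen y⟩⟩
      apply Scheme.germToFunctionField_injective X (W x ⊓ W y)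
      have h1 : X.germToFunctionField (W x ⊓ W y) (ores inf_le_left (s x)) = φ := by
        refine Eq.trans ?_ (hs x)
        exact X.presheaf.germ_res_apply _ _ _ _
      have h2 : X.germToFunctionField (W x ⊓ W y) (ores inf_le_right (s y)) = φ := by
        refine Eq.trans ?_ (hs y)
        exact X.presheaf.germ_res_apply _ _ _ _
      rw [h1, h2])
  refine ⟨t, ?_⟩
  obtain ⟨x⟩ := (inferInstance : Nonempty U)
  rw [← hs x, ← ht x]
  exact (X.presheaf.germ_res_apply _ _ _ _).symm

section fibres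

variable {K : Type u} [Field K] {B : Type u} [CommRing B] [Algebra K B] {g : ℕ}
  (π : MvPolynomial (Fin g) K →ₐ[K] B)

/-- the points of `B` over `t` -/
def fib (t : Fin g → K) : Set (B →ₐ[K] K) := {a | ∀ i, a (π (MvPolynomial.X i)) = t i}

theorem fib_finite (hint : π.toRingHom.IsIntegral) [Algebra.FiniteType K B] (t : Fin g → K) :
    (fib π t).Finite := by
  let alg : Algebra (MvPolynomial (Fin g) K) B := π.toRingHom.toAlgebra
  have htow : IsScalarTower K (MvPolynomial (Fin g) K) B :=
    IsScalarTower.of_algebraMap_eq' π.comp_algebraMap.symm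
  have hint' : Algebra.IsIntegral (MvPolynomial (Fin g) K) B := ⟨hint⟩
  have hft : Algebra.FiniteType (MvPolynomial (Fin g) K) B :=
    Algebra.FiniteType.of_restrictScalars_finiteType K _ _
  have hfin : Module.Finite (MvPolynomial (Fin g) K) B := Algebra.IsIntegral.finite
  have hprimes := Algebra.QuasiFinite.finite_primesOver (S := B)
    (RingHom.ker (MvPolynomial.eval t : MvPolynomial (Fin g) K →+* K))
  refine Set.Finite.of_finite_image (f := fun a : B →ₐ[K] K => RingHom.ker a)
    (hprimes.subset ?_) ?_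
  · rintro _ ⟨a, ha, rfl⟩
    refine ⟨RingHom.ker_isPrime _, ⟨?_⟩⟩
    have h1 : (a.comp π).toRingHom = MvPolynomial.eval t := by
      apply MvPolynomial.ringHom_ext
      · intro r
        have : (MvPolynomial.C r : MvPolynomial (Fin g) K) = algebraMap K _ r := rfl
        change (a.comp π) (MvPolynomial.C r) = _
        rw [MvPolynomial.eval_C, this, AlgHom.commutes]
        rfl
      · intro i
        rw [MvPolynomial.eval_X]
        exact ha i
    rw [← h1]
    rfl
  · intro a ha b hb hab
    apply AlgHom.ext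
    intro x
    have h1 : x - algebraMap K B (a x) ∈ RingHom.ker a := by
      rw [RingHom.mem_ker, map_sub, AlgHom.commutes]; simp
    have h2 : RingHom.ker a = RingHom.ker b := hab
    rw [h2, RingHom.mem_ker, map_sub, AlgHom.commutes, sub_eq_zero] at h1
    exact h1.symm

theorem fib_nonempty [IsAlgClosed K] (hinj : Function.Injective π)
    (hint : π.toRingHom.IsIntegral) [Algebra.FiniteType K B] (t : Fin g → K) :
    (fib π t).Nonempty := by
  let alg : Algebra (MvPolynomial (Fin g) K) B := π.toRingHom.toAlgebra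
  have hint' : Algebra.IsIntegral (MvPolynomial (Fin g) K) B := ⟨hint⟩
  have hmax : (RingHom.ker (MvPolynomial.eval t : MvPolynomial (Fin g) K →+* K)).IsMaximal :=
    RingHom.ker_isMaximal_of_surjective _ (fun r => ⟨MvPolynomial.C r, by simp⟩)
  obtain ⟨Q, -, hQp, hQ⟩ := Ideal.exists_ideal_over_prime_of_isIntegral
    (RingHom.ker (MvPolynomial.eval t : MvPolynomial (Fin g) K →+* K)) (⊥ : Ideal B) (by
      intro x hx
      rw [Ideal.mem_comap, Ideal.mem_bot] at hx
      have : x = 0 := hinj (by rw [map_zero]; exact hx)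
      rw [this]; exact Ideal.zero_mem _)
  have hQmax : Q.IsMaximal := Ideal.isMaximal_of_isIntegral_of_isMaximal_comap Q (by
    rw [hQ]; exact hmax)
  obtain ⟨a, ha⟩ := Groth.Agent.Fdesc.TensorDomain.exists_algHom_of_isMaximal (k := K) Q
  refine ⟨a, fun i => ?_⟩
  have h1 : (MvPolynomial.X i - MvPolynomial.C (t i) : MvPolynomial (Fin g) K) ∈
      RingHom.ker (MvPolynomial.eval t : MvPolynomial (Fin g) K →+* K) := by
    rw [RingHom.mem_ker]; simp
  rw [← hQ, Ideal.mem_comap, ← ha, RingHom.mem_ker] at h1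
  have h2 : algebraMap (MvPolynomial (Fin g) K) B (MvPolynomial.X i - MvPolynomial.C (t i)) =
      π (MvPolynomial.X i) - algebraMap K B (t i) := by
    change π _ = _
    rw [map_sub]
    congr 1
    exact π.commutes (t i)
  rw [h2, map_sub, AlgHom.commutes, sub_eq_zero] at h1
  exact h1

end fibres

variable {K : Type u} [Field K] {X : Scheme.{u}} [X.Over (Spec (CommRingCat.of K))]
  {B : Type u} [CommRing B] [Algebra K B]
  (μ : pullback (Spec.map (CommRingCat.ofHom (algebraMap K B))) (X ↘ Spec (CommRingCat.of K)) ⟶ X)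

/-- The open of points all of whose translates over `t` lie in `V`. -/
noncomputable def Vt {g : ℕ} (π : MvPolynomial (Fin g) K →ₐ[K] B) (V : X.Opens)
    (hint : π.toRingHom.IsIntegral) [Algebra.FiniteType K B] (t : Fin g → K) : X.Opens :=
  ⨅ a ∈ (fib_finite π hint t).toFinset, (lam μ a) ⁻¹ᵁ V

theorem mem_Vt {g : ℕ} (π : MvPolynomial (Fin g) K →ₐ[K] B) (V : X.Opens)
    (hint : π.toRingHom.IsIntegral) [Algebra.FiniteType K B] (t : Fin g → K) (x : X) :
    x ∈ Vt μ π V hint t ↔ ∀ a : B →ₐ[K] K, (∀ i, a (π (MvPolynomial.X i)) = t i) → lam μ a x ∈ V := by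
  rw [Vt, ← SetLike.mem_coe, ← Finset.inf_eq_iInf, Opens.coe_finset_inf]
  simp only [Finset.inf_set_eq_iInter, Set.mem_iInter, Set.Finite.mem_toFinset]
  rfl

theorem isAffineOpen_Vt [IsAlgClosed K] [X.IsSeparated] {g : ℕ}
    (π : MvPolynomial (Fin g) K →ₐ[K] B) (hinj : Function.Injective π) (V : X.Opens)
    (hV : IsAffineOpen V) (hlam : ∀ a : B →ₐ[K] K, IsAffineHom (lam μ a))
    (hint : π.toRingHom.IsIntegral) [Algebra.FiniteType K B] (t : Fin g → K) :
    IsAffineOpen (Vt μ π V hint t) := by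
  have h1 : Vt μ π V hint t = ⨅ a ∈ fib π t, (lam μ a) ⁻¹ᵁ V := by
    rw [Vt]; simp
  rw [h1]
  exact IsAffineOpen.biInf _ (fib_finite π hint t) (fib_nonempty π hinj hint t)
    (fun a _ => hV.preimage (lam μ a))

attribute [local instance] stalkAlg

/-- Existence of an ample module. -/
theorem exists_isAmple [IsAlgClosed K] [IsDomain B] [Algebra.FiniteType K B] [IsIntegral X]
    [IsLocallyNoetherian X] [CompactSpace X] [X.IsSeparated]
    (hufd : ∀ x : X, UniqueFactorizationMonoid (X.presheaf.stalk x))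
    {g : ℕ} (π : MvPolynomial (Fin g) K →ₐ[K] B) (hinj : Function.Injective π)
    (hint : π.toRingHom.IsIntegral)
    (V : X.Opens) (hV : LocPrincipal V) (hVaff : IsAffineOpen V)
    (hlam : ∀ a : B →ₐ[K] K, IsAffineHom (lam μ a))
    (hcov : ∀ x, ∃ t : Fin g → K, ∀ a : B →ₐ[K] K, (∀ i, a (π (MvPolynomial.X i)) = t i) →
      lam μ a x ∈ V) :
    ∃ L : X.Modules, CohB1.IsAmple L := by
  obtain ⟨h, hh⟩ := exists_family μ hufd π hinj hint V hV (fun x => by
    obtain ⟨t, ht⟩ := hcov x
    obtain ⟨a, ha⟩ := fib_nonempty π hinj hint t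
    exact ⟨a, ht a ha⟩)
  choose c hc r hr hrV using hh
  let W : (Fin g → K) → X.Opens := fun t => Vt μ π V hint t
  have hW : ∀ t x, x ∈ W t ↔ IsUnit (r x t) := fun t x => by
    rw [hrV x t]; exact mem_Vt μ π V hint t x
  let ι : Type u := {t : Fin g → K // (W t : Set X).Nonempty}
  have hne : ∀ t : ι, Nonempty (W t.1) := fun t => by
    obtain ⟨x, hx⟩ := t.2
    exact ⟨⟨x, hx⟩⟩
  have hht : ∀ t : ι, h t.1 ≠ 0 := fun t h0 => by
    obtain ⟨x, hx⟩ := t.2
    have h1 := hr x t.1
    rw [h0, mul_zero] at h1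
    have h2 : r x t.1 = 0 := (map_eq_zero_iff _ (IsFractionRing.injective _ _)).mp h1
    have h3 := (hW t.1 x).mp hx
    rw [h2] at h3
    exact not_isUnit_zero h3
  have hsec : ∀ i j : ι, ∃ s : Γ(X, W i.1),
      haveI := hne i
      X.germToFunctionField (W i.1) s = h j.1 / h i.1 := by
    intro i j
    have := hne i
    refine exists_section_of_forall (W i.1) _ fun x hx => ?_
    obtain ⟨v, hv⟩ := (hW i.1 x).mp hx
    refine ⟨r x j.1 * ((v⁻¹ : (X.presheaf.stalk x)ˣ) : X.presheaf.stalk x), ?_⟩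
    rw [map_mul, hr, eq_div_iff (hht i)]
    have h1 : algebraMap (X.presheaf.stalk x) X.functionField v = c x * h i.1 := by
      rw [hv, hr]
    have h2 : algebraMap (X.presheaf.stalk x) X.functionField v *
        algebraMap (X.presheaf.stalk x) X.functionField ((v⁻¹ : (X.presheaf.stalk x)ˣ)) = 1 := by
      rw [← map_mul, Units.mul_inv, map_one]
    rw [h1] at h2
    calc c x * h j.1 * algebraMap (X.presheaf.stalk x) X.functionField ((v⁻¹ : (X.presheaf.stalk x)ˣ)) * h i.1
        = h j.1 * (c x * h i.1 * algebraMap (X.presheaf.stalk x) X.functionField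
            ((v⁻¹ : (X.presheaf.stalk x)ˣ))) := by ring
      _ = h j.1 := by rw [h2, mul_one]
  choose s hs using hsec
  have hgerm : ∀ (i j : ι) (x : X) (hx : x ∈ W i.1),
      (X.presheaf.germ (W i.1) x hx (s i j)) * r x i.1 = r x j.1 := by
    intro i j x hx
    have := hne i
    apply IsFractionRing.injective (X.presheaf.stalk x) X.functionField
    rw [map_mul, Scheme.algebraMap_germ_eq_germToFunctionField, hs, hr, hr,
      div_mul_eq_mul_div, div_eq_iff (hht i)]
    ring
  refine exists_isAmple_of_cocycle (fun i : ι => W i.1)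
    (fun i => isAffineOpen_Vt μ π hinj V hVaff hlam hint i.1) ?_ s ?_ ?_ ?_
  · apply top_le_iff.mp
    intro x _
    obtain ⟨t, ht⟩ := hcov x
    have hx : x ∈ W t := (mem_Vt μ π V hint t x).mpr ht
    exact Opens.mem_iSup.mpr ⟨⟨t, ⟨x, hx⟩⟩, hx⟩
  · intro i
    have := hne i
    apply Scheme.germToFunctionField_injective X (W i.1)
    rw [hs, map_one, div_self (hht i)]
  · intro i j
    ext x
    constructor
    · intro hx
      have hxi : x ∈ W i.1 := X.basicOpen_le _ hx
      refine ⟨hxi, ?_⟩
      have h1 := (Scheme.mem_basicOpen X (s i j) x hxi).mp hx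
      apply (hW j.1 x).mpr
      rw [← hgerm i j x hxi]
      exact h1.mul ((hW i.1 x).mp hxi)
    · rintro ⟨hxi, hxj⟩
      apply (Scheme.mem_basicOpen X (s i j) x hxi).mpr
      have h1 := (hW j.1 x).mp hxj
      rw [← hgerm i j x hxi] at h1
      exact isUnit_of_mul_isUnit_left h1
  · intro i j k T hi hj
    by_cases hT : Nonempty T
    · have := hne i
      have := hne j
      have hres : ∀ (i : ι) (hi : T ≤ W i.1) (a : Γ(X, W i.1)),
          haveI := hne i
          X.germToFunctionField T (ores hi a) = X.germToFunctionField (W i.1) a := by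
        intro i hi a
        exact X.presheaf.germ_res_apply _ _ _ _
      apply Scheme.germToFunctionField_injective X T
      rw [map_mul, hres i hi, hres i hi, hres j hj, hs, hs, hs]
      have h1 := hht i
      have h2 := hht j
      field_simp
    · have hT' : T = ⊥ := by
        rw [eq_bot_iff]
        intro x hx
        exact (hT ⟨⟨x, hx⟩⟩).elim
      subst hT'
      have : Subsingleton Γ(X, (⊥ : X.Opens)) := CommRingCat.subsingleton_of_isTerminal X.sheaf.isTerminalOfEmpty
      exact Subsingleton.elim _ _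

end Groth.Agent.Grpsch.AmpBuild
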