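import Mathlib.AlgebraicGeometry.AlgClosed.Basic
import Mathlib.AlgebraicGeometry.Noetherian
import Mathlib.AlgebraicGeometry.Group.Smooth
import Mathlib.CategoryTheory.Monoidal.Cartesian.Grp

set_option autoImplicit false
universe u v

/-!
Translations by rational points on a group scheme locally of finite type over an algebraically
closed field; irreducible components are open and closed, pairwise disjoint.
-/

open CategoryTheory MonoidalCategory CartesianMonoidalCategory MonObj GrpObj AlgebraicGeometry

namespace Groth.Agent.Grpsch.Transl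

section Topology

variable {X : Type*} [TopologicalSpace X]

/-- A component meeting an irreducible open set is its closure. -/
theorem eq_closure_of_mem_components {Z U : Set X} (hZ : Z ∈ irreducibleComponents X)
    (hU : IsOpen U) (hUi : IsIrreducible U) (h : (Z ∩ U).Nonempty) : Z = closure U := by
  have h1 : Z ⊆ closure (Z ∩ U) := by
    have := subset_closure_inter_of_isPreirreducible_of_isOpen hZ.1.isPreirreducible hU h
    exact this
  have h2 : Z ⊆ closure U := h1.trans (closure_mono Set.inter_subset_right)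
  exact subset_antisymm h2 (hZ.2 (isIrreducible_iff_closure.mpr hUi) h2)

variable (h : ∀ x : X, ∃ U : Set X, IsOpen U ∧ IsIrreducible U ∧ x ∈ U)

include h in
theorem components_eq_of_mem {Z Z' : Set X} (hZ : Z ∈ irreducibleComponents X)
    (hZ' : Z' ∈ irreducibleComponents X) {x : X} (hx : x ∈ Z) (hx' : x ∈ Z') : Z = Z' := by
  obtain ⟨U, hU, hUi, hxU⟩ := h x
  rw [eq_closure_of_mem_components hZ hU hUi ⟨x, hx, hxU⟩,
    eq_closure_of_mem_components hZ' hU hUi ⟨x, hx', hxU⟩]

include h in
theorem isOpen_of_mem_components {Z : Set X} (hZ : Z ∈ irreducibleComponents X) : IsOpen Z := by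
  rw [isOpen_iff_forall_mem_open]
  intro x hx
  obtain ⟨U, hU, hUi, hxU⟩ := h x
  refine ⟨U, ?_, hU, hxU⟩
  rw [eq_closure_of_mem_components hZ hU hUi ⟨x, hx, hxU⟩]
  exact subset_closure

/-- A nonempty Noetherian space has a nonempty irreducible open subset. -/
theorem exists_open_irreducible_of_noetherianSpace [TopologicalSpace.NoetherianSpace X]
    [Nonempty X] : ∃ U : Set X, IsOpen U ∧ IsIrreducible U := by
  obtain ⟨x⟩ := ‹Nonempty X›
  obtain ⟨o, ho, hne, hsub⟩ :=
    TopologicalSpace.NoetherianSpace.exists_isOpen_nonempty_subset_irreducibleComponent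
      (irreducibleComponent x) (irreducibleComponent_mem_irreducibleComponents x)
  exact ⟨o, ho, hne,
    (isIrreducible_irreducibleComponent (x := x)).isPreirreducible.open_subset ho hsub⟩

end Topology

variable {K : Type u} [Field K]

section Translations

variable {C : Type*} [Category C] [CartesianMonoidalCategory C] (G : C) [GrpObj G]

/-- Left translation `g ↦ x g` by a rational point. -/
@[simps]
def leftTr (x : 𝟙_ C ⟶ G) : G ≅ G where
  hom := (toUnit G ≫ x) * 𝟙 G
  inv := (toUnit G ≫ x⁻¹) * 𝟙 G
  hom_inv_id := by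
    rw [comp_mul, Category.comp_id, ← Category.assoc, toUnit_unique (_ ≫ toUnit G) (toUnit G),
      GrpObj.comp_inv, inv_mul_cancel_left]
  inv_hom_id := by
    rw [comp_mul, Category.comp_id, ← Category.assoc, toUnit_unique (_ ≫ toUnit G) (toUnit G),
      GrpObj.comp_inv, mul_inv_cancel_left]

/-- Right translation `g ↦ g x` by a rational point. -/
@[simps]
def rightTr (x : 𝟙_ C ⟶ G) : G ≅ G where
  hom := 𝟙 G * (toUnit G ≫ x)
  inv := 𝟙 G * (toUnit G ≫ x⁻¹)
  hom_inv_id := by
    rw [comp_mul, Category.comp_id, ← Category.assoc, toUnit_unique (_ ≫ toUnit G) (toUnit G),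
      GrpObj.comp_inv, mul_inv_cancel_right]
  inv_hom_id := by
    rw [comp_mul, Category.comp_id, ← Category.assoc, toUnit_unique (_ ≫ toUnit G) (toUnit G),
      GrpObj.comp_inv, inv_mul_cancel_right]

theorem comp_leftTr {T : C} (x : 𝟙_ C ⟶ G) (y : T ⟶ G) :
    y ≫ (leftTr G x).hom = (toUnit T ≫ x) * y := by
  rw [leftTr_hom, comp_mul, Category.comp_id, ← Category.assoc,
    toUnit_unique (_ ≫ toUnit G) (toUnit T)]

theorem comp_rightTr {T : C} (x : 𝟙_ C ⟶ G) (y : T ⟶ G) :
    y ≫ (rightTr G x).hom = y * (toUnit T ≫ x) := by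
  rw [rightTr_hom, comp_mul, Category.comp_id, ← Category.assoc,
    toUnit_unique (_ ≫ toUnit G) (toUnit T)]

theorem point_leftTr (x y : 𝟙_ C ⟶ G) : y ≫ (leftTr G x).hom = x * y := by
  rw [comp_leftTr, toUnit_unique (toUnit (𝟙_ C)) (𝟙 _), Category.id_comp]

theorem point_rightTr (x y : 𝟙_ C ⟶ G) : y ≫ (rightTr G x).hom = y * x := by
  rw [comp_rightTr, toUnit_unique (toUnit (𝟙_ C)) (𝟙 _), Category.id_comp]

end Translations

/-- The automorphism of `G` (not of group schemes) given by left translation, carrying the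
rational point `x` to the rational point `y`: left translation `g ↦ y x⁻¹ g`. -/
theorem exists_iso_of_points (G : Over (Spec (CommRingCat.of K))) [GrpObj G]
    (x y : 𝟙_ (Over (Spec (CommRingCat.of K))) ⟶ G) :
    ∃ α : G ≅ G, x ≫ α.hom = y :=
  ⟨leftTr G (y * x⁻¹), by rw [point_leftTr, inv_mul_cancel_right]⟩

section AlgClosed

variable [IsAlgClosed K] (G : Over (Spec (CommRingCat.of K))) 
    [LocallyOfFiniteType G.hom]

/-- The rational point attached to a closed point. -/
noncomputable def pt (x : G.left) (hx : IsClosed ({x} : Set G.left)) :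
    𝟙_ (Over (Spec (CommRingCat.of K))) ⟶ G :=
  Over.homMk _ ((pointEquivClosedPoint G.hom).symm ⟨x, hx⟩).2

set_option backward.isDefEq.respectTransparency false in
theorem pt_apply (x : G.left) (hx : IsClosed ({x} : Set G.left)) :
    (pt G x hx).left (IsLocalRing.closedPoint K) = x := by
  simp [pt, pointEquivClosedPoint]

variable [GrpObj G]

set_option backward.isDefEq.respectTransparency false in
/-- Over an algebraically closed field every closed point can be moved to any other one. -/
theorem exists_iso_of_closedPoints (x y : G.left) (hx : IsClosed ({x} : Set G.left))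
    (hy : IsClosed ({y} : Set G.left)) :
    ∃ α : G ≅ G, α.hom.left x = y := by
  obtain ⟨α, hα⟩ := exists_iso_of_points G (pt G x hx) (pt G y hy)
  refine ⟨α, ?_⟩
  have := congr(($hα).left (IsLocalRing.closedPoint K))
  rw [pt_apply, Over.comp_left, Scheme.Hom.comp_apply, pt_apply] at this
  exact this

set_option backward.isDefEq.respectTransparency false in
/-- Left translating `g` by `h` is right translating `h` by `g`. -/
theorem leftTr_apply (h g : G.left) (hh : IsClosed ({h} : Set G.left))
    (hg : IsClosed ({g} : Set G.left)) :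
    (leftTr G (pt G h hh)).hom.left g = (rightTr G (pt G g hg)).hom.left h := by
  have h1 := point_leftTr G (pt G h hh) (pt G g hg)
  have h2 := point_rightTr G (pt G g hg) (pt G h hh)
  have := congr(($(h1.trans h2.symm)).left (IsLocalRing.closedPoint K))
  rw [Over.comp_left, Over.comp_left, Scheme.Hom.comp_apply, Scheme.Hom.comp_apply, pt_apply,
    pt_apply] at this
  exact this

/-- Every point of a group scheme locally of finite type over an algebraically closed field has
an irreducible open neighbourhood. -/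
theorem exists_irreducible_open_nhd (x : G.left) :
    ∃ U : Set G.left, IsOpen U ∧ IsIrreducible U ∧ x ∈ U := by
  have : JacobsonSpace G.left := LocallyOfFiniteType.jacobsonSpace (Y := Spec _) G.hom
  have : IsLocallyNoetherian G.left :=
    LocallyOfFiniteType.isLocallyNoetherian (Y := Spec (CommRingCat.of K)) G.hom
  let Ω : Set G.left := {x | ∃ U : Set G.left, IsOpen U ∧ IsIrreducible U ∧ x ∈ U}
  have hΩo : IsOpen Ω := by
    rw [isOpen_iff_forall_mem_open]
    rintro x ⟨U, hU, hUi, hxU⟩
    exact ⟨U, fun y hy => ⟨U, hU, hUi, hy⟩, hU, hxU⟩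
  have hne : Ω.Nonempty := by
    obtain ⟨V, hV, hxV, -⟩ := (G.left.isBasis_affineOpens).exists_subset_of_mem_open
      (Set.mem_univ x) isOpen_univ
    obtain ⟨V, hV', rfl⟩ := hV
    have : Nonempty V := ⟨⟨x, hxV⟩⟩
    have : IsNoetherianRing Γ(G.left, V) := IsLocallyNoetherian.component_noetherian ⟨V, hV'⟩
    have : TopologicalSpace.NoetherianSpace V := noetherianSpace_of_isAffineOpen V hV'
    obtain ⟨U, hU, hUi⟩ := exists_open_irreducible_of_noetherianSpace (X := V)
    obtain ⟨y, hy⟩ := hUi.1
    exact ⟨y.1, Subtype.val '' U, V.2.isOpenMap_subtype_val U hU,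
      hUi.image _ continuous_subtype_val.continuousOn, y, hy, rfl⟩
  by_contra hx
  have hxc : (Ωᶜ).Nonempty := ⟨x, hx⟩
  obtain ⟨y, hy, hyc⟩ := nonempty_inter_closedPoints hxc hΩo.isClosed_compl.isLocallyClosed
  obtain ⟨z, ⟨U, hU, hUi, hzU⟩, hzc⟩ := nonempty_inter_closedPoints hne hΩo.isLocallyClosed
  obtain ⟨α, hα⟩ := exists_iso_of_closedPoints G y z hyc hzc
  refine hy ⟨α.hom.left ⁻¹' U, hU.preimage α.hom.left.continuous, ?_, by
    rw [Set.mem_preimage, hα]; exact hzU⟩
  have : IsIso α.hom.left := inferInstanceAs (IsIso ((Over.forget _).map α.hom))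
  exact hUi.preimage α.hom.left.isOpenEmbedding ⟨z, hzU, y, hα⟩

end AlgClosed

end Groth.Agent.Grpsch.Transl
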