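import Groth.Agent.S3023
import Groth.Agent.S0355
import Groth.Agent.Grpsch.Transl
import Mathlib.AlgebraicGeometry.Morphisms.FlatMono
import Mathlib.AlgebraicGeometry.Morphisms.Smooth

set_option autoImplicit false
set_option linter.style.haveILetI false
universe u

/-!
A smooth group scheme of finite type over an algebraically closed field admits an affine morphism
(of schemes, not over the base) to an irreducible smooth group scheme of finite type: each
component is translated to the identity component.
-/

open CategoryTheory Limits MonoidalCategory CartesianMonoidalCategory MonObj GrpObj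
  AlgebraicGeometry

namespace Groth.Agent.Grpsch.AmpComp

/-- The unit point of a group scheme over a field is closed. -/
theorem isClosed_unit (K : Type u) [Field K] (G : Over (Spec (CommRingCat.of K))) [GrpObj G] :
    IsClosed ({η[G].left (IsLocalRing.closedPoint K)} : Set G.left) := by
  have h1 : η[G].left ≫ G.hom = 𝟙 _ := Over.w η[G]
  have : Subsingleton ↥(𝟙_ (Over (Spec (CommRingCat.of K)))).left :=
    inferInstanceAs (Subsingleton (PrimeSpectrum K))
  have h2 := isClosedImmersion_of_comp_eq_id _ _ h1
  have h3 := h2.isClosedEmbedding.isClosed_range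
  convert h3
  ext x
  constructor
  · rintro rfl
    exact ⟨_, rfl⟩
  · rintro ⟨y, rfl⟩
    exact congrArg _ (Subsingleton.elim (α := PrimeSpectrum K) _ _)

/-- Morphisms out of a disjoint union of open subschemes. -/
theorem exists_desc {X Y : Scheme.{u}} {J : Type u} (U : J → X.Opens)
    (hcov : ⨆ i, U i = ⊤) (hdisj : Pairwise (Function.onFun Disjoint U))
    (f : ∀ i, (U i).toScheme ⟶ Y) : ∃ φ : X ⟶ Y, ∀ i, (U i).ι ≫ φ = f i := by
  obtain ⟨hc⟩ := nonempty_isColimit_cofanMk_of (fun i => (U i).ι) (by simpa using hcov)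
    (fun i j hij => by simpa [Function.onFun] using hdisj hij)
  exact ⟨Cofan.IsColimit.desc hc f, fun i => Cofan.IsColimit.fac hc f i⟩

/-- A morphism whose restrictions to the members of a finite disjoint open cover are affine, is
affine. -/
theorem isAffineHom_of_disjoint {X Y : Scheme.{u}} {J : Type u} [Finite J] (U : J → X.Opens)
    (hcov : ⨆ i, U i = ⊤) (hdisj : Pairwise (Function.onFun Disjoint U))
    (φ : X ⟶ Y) (h : ∀ i, IsAffineHom ((U i).ι ≫ φ)) : IsAffineHom φ := by
  refine ⟨fun V hV => ?_⟩
  have h1 : φ ⁻¹ᵁ V = ⨆ i, (U i).ι ''ᵁ (((U i).ι ≫ φ) ⁻¹ᵁ V) := by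
    ext x
    have hx : x ∈ ⨆ i, U i := by rw [hcov]; trivial
    rw [TopologicalSpace.Opens.mem_iSup] at hx
    obtain ⟨i, hi⟩ := hx
    simp only [SetLike.mem_coe, TopologicalSpace.Opens.mem_iSup]
    constructor
    · intro hxV
      exact ⟨i, ⟨x, hi⟩, by simpa using hxV, rfl⟩
    · rintro ⟨j, y, hy, rfl⟩
      simpa using hy
  rw [h1]
  refine IsAffineOpen.iSup_of_disjoint (fun i => ?_) (fun i j hij => ?_)
  · have := h i
    exact (hV.preimage ((U i).ι ≫ φ)).image_of_isOpenImmersion (U i).ι
  · have := hdisj hij
    refine Disjoint.mono ?_ ?_ this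
    · exact ((U i).ι).image_le_opensRange _ |>.trans (by simp)
    · exact ((U j).ι).image_le_opensRange _ |>.trans (by simp)

set_option backward.isDefEq.respectTransparency false in
theorem exists_affine_to_irreducible (K : Type u) [Field K] [IsAlgClosed K]
    (G : Over (Spec (CommRingCat.of K))) [GrpObj G] [Smooth G.hom] [QuasiCompact G.hom] :
    ∃ (H : Over (Spec (CommRingCat.of K))) (_ : GrpObj H) (_ : Smooth H.hom)
      (_ : QuasiCompact H.hom) (_ : IrreducibleSpace H.left) (φ : G.left ⟶ H.left),
      IsAffineHom φ := by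
  obtain ⟨H, hH, i, hi, hcl, hfl, hr⟩ := S3023.result K G
  set e : G.left := η[G].left (IsLocalRing.closedPoint K) with he
  have hr' : Set.range i.left = connectedComponent e := hr _
  have hln : IsLocallyNoetherian G.left :=
    LocallyOfFiniteType.isLocallyNoetherian (Y := Spec (CommRingCat.of K)) G.hom
  have hcomp : CompactSpace G.left := by
    have := QuasiCompact.compactSpace_of_compactSpace (Y := Spec (CommRingCat.of K)) G.hom
    exact this
  have hnoeth : IsNoetherian G.left := ⟨⟩
  have hfp : LocallyOfFinitePresentation i.left := by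
    infer_instance
  have hop : IsOpenImmersion i.left := IsOpenImmersion.of_flat_of_mono i.left
  have hw : i.left ≫ G.hom = H.hom := Over.w i
  have hsm : Smooth H.hom := by rw [← hw]; infer_instance
  have hqc : QuasiCompact H.hom := by rw [← hw]; infer_instance
  have hirr : IrreducibleSpace H.left := by
    have h1 := (S0355.result K G).1
    rw [← he, ← hr'] at h1
    have h2 := h1.preimage i.left.isOpenEmbedding (by
      rw [Set.inter_self]; exact h1.1)
    rw [Set.preimage_range] at h2
    exact (irreducibleSpace_def _).mpr h2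
  refine ⟨H, hH, hsm, hqc, hirr, ?_⟩
  -- the components
  have hjac : JacobsonSpace G.left := LocallyOfFiniteType.jacobsonSpace (Y := Spec _) G.hom
  have hnhd := Transl.exists_irreducible_open_nhd G
  have hopn : ∀ Z ∈ irreducibleComponents G.left, IsOpen Z := fun Z hZ =>
    Transl.isOpen_of_mem_components hnhd hZ
  let I := ↥(irreducibleComponents G.left)
  have hfin : Finite I := (TopologicalSpace.NoetherianSpace.finite_irreducibleComponents).to_subtype
  let U : I → G.left.Opens := fun Z => ⟨Z.1, hopn Z.1 Z.2⟩
  have hcov : ⨆ Z, U Z = ⊤ := by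
    ext x
    simp only [TopologicalSpace.Opens.coe_iSup, Set.mem_iUnion, TopologicalSpace.Opens.coe_top,
      Set.mem_univ, iff_true]
    exact ⟨⟨irreducibleComponent x, irreducibleComponent_mem_irreducibleComponents x⟩,
      mem_irreducibleComponent⟩
  have hdisj : Pairwise (Function.onFun Disjoint U) := by
    intro Z Z' hne
    rw [Function.onFun, ← TopologicalSpace.Opens.coe_disjoint, Set.disjoint_iff_forall_ne]
    rintro x hx _ hx' rfl
    exact hne (Subtype.ext (Transl.components_eq_of_mem hnhd Z.2 Z'.2 hx hx'))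
  -- translations
  have hex : ∀ Z : I, ∃ α : G ≅ G, ∀ x ∈ Z.1, α.hom.left x ∈ Set.range i.left := by
    intro Z
    obtain ⟨x, hxZ, hxc⟩ := nonempty_inter_closedPoints Z.2.1.1
      (isClosed_of_mem_irreducibleComponents _ Z.2).isLocallyClosed
    obtain ⟨α, hα⟩ := Transl.exists_iso_of_closedPoints G x e hxc (isClosed_unit K G)
    refine ⟨α, fun y hy => ?_⟩
    rw [hr']
    have h1 : _root_.IsPreconnected (α.hom.left '' Z.1) :=
      (Z.2.1.2.image _ α.hom.left.continuous.continuousOn).isPreconnected
    exact h1.subset_connectedComponent ⟨x, hxZ, hα⟩ ⟨y, hy, rfl⟩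
  choose α hα using hex
  let ψ : ∀ Z : I, (U Z).toScheme ⟶ H.left := fun Z =>
    IsOpenImmersion.lift i.left ((U Z).ι ≫ (α Z).hom.left) (by
      rintro _ ⟨y, rfl⟩
      rw [Scheme.Hom.comp_apply]
      exact hα Z _ y.2)
  have hψ : ∀ Z, ψ Z ≫ i.left = (U Z).ι ≫ (α Z).hom.left := fun Z =>
    IsOpenImmersion.lift_fac _ _ _
  obtain ⟨φ, hφ⟩ := exists_desc U hcov hdisj ψ
  refine ⟨φ, isAffineHom_of_disjoint U hcov hdisj φ fun Z => ?_⟩
  rw [hφ]
  have h1 : IsClosedImmersion (U Z).ι := by
    refine .of_isPreimmersion _ ?_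
    rw [Scheme.Opens.range_ι]
    exact isClosed_of_mem_irreducibleComponents _ Z.2
  have h2 : IsIso (α Z).hom.left := inferInstanceAs (IsIso ((Over.forget _).map (α Z).hom))
  have h3 : IsClosedImmersion (ψ Z ≫ i.left) := by rw [hψ]; infer_instance
  have h4 : IsClosedImmersion (ψ Z) := IsClosedImmersion.of_comp_isClosedImmersion _ i.left
  infer_instance

end Groth.Agent.Grpsch.AmpComp
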