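import Groth.Agent.Grpsch.AmpPoints
import Mathlib.RingTheory.Localization.Integer
import Mathlib.RingTheory.MvPolynomial.Basic
import Mathlib.Algebra.MvPolynomial.Nilpotent

/-!
# Comparison of contracted ideals over `R` and over its fraction field
-/

set_option autoImplicit false

universe u v w

namespace Groth.Agent.Grpsch.AmpCompare

open TensorProduct MvPolynomial Groth.Agent.Grpsch.AmpPoly Groth.Agent.Grpsch.AmpPoints

variable {K : Type u} [Field K] {B : Type v} [CommRing B] [Algebra K B] {g : ℕ}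
  (π : MvPolynomial (Fin g) K →ₐ[K] B)

/-- the base change map `R ⊗ B → F ⊗ B` -/
noncomputable abbrev jmap (R : Type w) [CommRing R] [Algebra K R] (F : Type w) [Field F]
    [Algebra K F] [Algebra R F] [IsScalarTower K R F] : R ⊗[K] B →ₐ[K] F ⊗[K] B :=
  Algebra.TensorProduct.map (IsScalarTower.toAlgHom K R F) (AlgHom.id K B)

variable (R : Type w) [CommRing R] [Algebra K R] [IsDomain R] (F : Type w) [Field F]
    [Algebra K F] [Algebra R F] [IsScalarTower K R F] [IsFractionRing R F]

theorem exists_smul_mem (I : Ideal (R ⊗[K] B)) (hI : I.IsRadical) (s : R ⊗[K] B)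
    (hs : ∀ q' : Ideal (F ⊗[K] B), q'.IsPrime → I ≤ q'.comap (jmap R F) → jmap R F s ∈ q') :
    ∃ r : R, r ≠ 0 ∧ r • s ∈ I := by
  by_contra hcon
  push Not at hcon
  let M : Submonoid (R ⊗[K] B) :=
    { carrier := {x | ∃ (r : R) (n : ℕ), r ≠ 0 ∧ x = r • s ^ n}
      one_mem' := ⟨1, 0, one_ne_zero, by simp⟩
      mul_mem' := by
        rintro _ _ ⟨r, n, hr, rfl⟩ ⟨r', n', hr', rfl⟩
        refine ⟨r * r', n + n', mul_ne_zero hr hr', ?_⟩
        rw [smul_mul_smul_comm, pow_add] }
  have hdisj : Disjoint (I : Set (R ⊗[K] B)) M := by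
    rw [Set.disjoint_left]
    rintro x hx ⟨r, n, hr, rfl⟩
    apply hcon r hr
    apply hI
    refine ⟨n + 1, ?_⟩
    rw [smul_pow, pow_succ, pow_succ, mul_comm (r ^ n) r, mul_smul, smul_comm, ← smul_mul_assoc]
    have : r ^ n • (r • s ^ n * s) ∈ I := by
      rw [Algebra.smul_def]
      exact I.mul_mem_left _ (I.mul_mem_right _ hx)
    rw [smul_mul_assoc] at this
    rw [smul_mul_assoc]
    exact this
  obtain ⟨q, hqp, hIq, hq⟩ := Ideal.exists_le_prime_disjoint I M hdisj
  have hbot : q.comap (algebraMap R (R ⊗[K] B)) = ⊥ := by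
    rw [eq_bot_iff]
    intro r hr
    rw [Ideal.mem_comap] at hr
    by_contra hr0
    rw [Ideal.mem_bot] at hr0
    refine Set.disjoint_left.mp hq hr ⟨r, 0, hr0, ?_⟩
    rw [pow_zero, Algebra.algebraMap_eq_smul_one]
  obtain ⟨q', hq'p, hq'⟩ := exists_prime_over_of_comap_eq_bot R F q hbot
  have h1 := hs q' hq'p (by rw [hq']; exact hIq)
  have h2 : s ∈ q := by rw [← hq']; exact h1
  exact Set.disjoint_left.mp hq h2 ⟨1, 1, one_ne_zero, by simp⟩

theorem exists_mul_C_eq_map (p : MvPolynomial (Fin g) F) :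
    ∃ (r : R) (p₀ : MvPolynomial (Fin g) R), r ≠ 0 ∧
      C (algebraMap R F r) * p = MvPolynomial.map (algebraMap R F) p₀ := by
  classical
  obtain ⟨b, hb⟩ := IsLocalization.exist_integer_multiples_of_finset (nonZeroDivisors R)
    (p.support.image (fun m => p.coeff m))
  have hb' : ∀ m, ∃ a : R, algebraMap R F a = algebraMap R F b * p.coeff m := by
    intro m
    by_cases hm : m ∈ p.support
    · obtain ⟨a, ha⟩ := hb (p.coeff m) (Finset.mem_image_of_mem _ hm)
      exact ⟨a, by rw [ha, Algebra.smul_def]⟩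
    · refine ⟨0, ?_⟩
      rw [MvPolynomial.notMem_support_iff.mp hm, map_zero, mul_zero]
  choose a ha using hb'
  refine ⟨b, ∑ m ∈ p.support, monomial m (a m), nonZeroDivisors.ne_zero b.2, ?_⟩
  rw [map_sum]
  simp only [map_monomial, ha]
  conv_lhs => rw [p.as_sum]
  rw [Finset.mul_sum]
  refine Finset.sum_congr rfl fun m _ => ?_
  rw [C_mul_monomial]

/-- The main comparison: the generators of the contracted ideals over `R` and over `F = Frac R`
differ by a nonzero constant. -/
theorem exists_const (Z : Set (PrimeSpectrum (R ⊗[K] B))) (hZ : IsClosed Z)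
    (h : MvPolynomial (Fin g) R)
    (hh : (PrimeSpectrum.vanishingIdeal Z).comap (phi π R) = Ideal.span {h})
    (hF : MvPolynomial (Fin g) F)
    (hhF : (PrimeSpectrum.vanishingIdeal
      (PrimeSpectrum.comap (jmap (K := K) (B := B) R F).toRingHom ⁻¹' Z)).comap (phi π F) =
        Ideal.span {hF}) :
    ∃ c : F, c ≠ 0 ∧ MvPolynomial.map (algebraMap R F) h = C c * hF := by
  set I := PrimeSpectrum.vanishingIdeal Z with hIdef
  set ZF := (PrimeSpectrum.comap (jmap (K := K) (B := B) R F).toRingHom ⁻¹' Z) with hZF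
  set IF := PrimeSpectrum.vanishingIdeal ZF with hIFdef
  have hmap : ∀ p : MvPolynomial (Fin g) R,
      phi π F (MvPolynomial.map (algebraMap R F) p) = jmap R F (phi π R p) := by
    intro p
    exact (map_phi π (IsScalarTower.toAlgHom K R F) p).symm
  have hI : I.IsRadical := PrimeSpectrum.isRadical_vanishingIdeal Z
  -- (1)
  have h1 : MvPolynomial.map (algebraMap R F) h ∈ Ideal.span {hF} := by
    rw [← hhF, Ideal.mem_comap, hmap, hIFdef, PrimeSpectrum.mem_vanishingIdeal]
    intro x hx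
    have hx' : PrimeSpectrum.comap (jmap (K := K) (B := B) R F).toRingHom x ∈ Z := hx
    have h2 : phi π R h ∈ I := by
      have : h ∈ Ideal.comap (phi π R) I := by
        rw [hh]; exact Ideal.mem_span_singleton_self h
      exact this
    exact (PrimeSpectrum.mem_vanishingIdeal _ _).mp h2 _ hx'
  -- (2)
  have h2 : hF ∈ Ideal.span {MvPolynomial.map (algebraMap R F) h} := by
    obtain ⟨r, p₀, hr, hp₀⟩ := exists_mul_C_eq_map (g := g) R F hF
    obtain ⟨r', hr', hr's⟩ := exists_smul_mem R F I hI (phi π R p₀) (by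
      intro q' hq' hle
      rw [← hmap, ← hp₀, map_mul]
      refine q'.mul_mem_left _ ?_
      have hFm : phi π F hF ∈ IF := by
        have : hF ∈ Ideal.comap (phi π F) IF := by
          rw [hhF]; exact Ideal.mem_span_singleton_self hF
        exact this
      have : (⟨q', hq'⟩ : PrimeSpectrum (F ⊗[K] B)) ∈ ZF := by
        change PrimeSpectrum.comap _ _ ∈ Z
        rw [← hZ.closure_eq, ← PrimeSpectrum.zeroLocus_vanishingIdeal_eq_closure,
          PrimeSpectrum.mem_zeroLocus]
        exact hle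
      exact (PrimeSpectrum.mem_vanishingIdeal _ _).mp hFm _ this)
    have h3 : C r' * p₀ ∈ Ideal.span {h} := by
      rw [← hh, Ideal.mem_comap, map_mul, phi_C]
      convert hr's using 1
      rw [Algebra.smul_def]
      rfl
    obtain ⟨w, hw⟩ := Ideal.mem_span_singleton'.mp h3
    have h4 := congrArg (MvPolynomial.map (algebraMap R F)) hw
    rw [map_mul, map_mul, map_C, ← hp₀, ← mul_assoc, ← C_mul] at h4
    have hne : algebraMap R F r' * algebraMap R F r ≠ 0 := by
      have hinj := IsFractionRing.injective R F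
      exact mul_ne_zero ((map_ne_zero_iff _ hinj).mpr hr') ((map_ne_zero_iff _ hinj).mpr hr)
    rw [Ideal.mem_span_singleton']
    refine ⟨C ((algebraMap R F r' * algebraMap R F r)⁻¹) * MvPolynomial.map (algebraMap R F) w, ?_⟩
    rw [mul_assoc, h4, ← mul_assoc, ← C_mul, inv_mul_cancel₀ hne, C_1, one_mul]
  -- (3)
  have hassoc : Associated hF (MvPolynomial.map (algebraMap R F) h) := by
    rw [← dvd_dvd_iff_associated]
    exact ⟨Ideal.mem_span_singleton.mp h1, Ideal.mem_span_singleton.mp h2⟩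
  obtain ⟨u, hu⟩ := hassoc
  obtain ⟨c, hc, hcu⟩ : ∃ c : F, c ≠ 0 ∧ (u : MvPolynomial (Fin g) F) = C c := by
    obtain ⟨c, hc, hcu⟩ := MvPolynomial.isUnit_iff_eq_C_of_isReduced.mp u.isUnit
    exact ⟨c, hc.ne_zero, hcu⟩
  exact ⟨c, hc, by rw [← hu, hcu, mul_comm]⟩

end Groth.Agent.Grpsch.AmpCompare
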