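import Groth.Agent.Grpsch.AmpLocal
import Mathlib.AlgebraicGeometry.FunctionField
import Mathlib.AlgebraicGeometry.Noetherian
import Mathlib.AlgebraicGeometry.Pullbacks
import Mathlib.AlgebraicGeometry.Over
import Mathlib.AlgebraicGeometry.Morphisms.QuasiSeparated

/-!
# The family of rational functions attached to a family of translates
-/

set_option autoImplicit false

universe u

open CategoryTheory CategoryTheory.Limits AlgebraicGeometry TensorProduct

namespace Groth.Agent.Grpsch.AmpFamily

open Groth.Agent.Grpsch.AmpPoly Groth.Agent.Grpsch.AmpPoints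
  Groth.Agent.Grpsch.AmpPrincipal Groth.Agent.Grpsch.AmpLocal Groth.Agent.Grpsch.AmpCompare

variable (K : Type u) [Field K] (X : Scheme.{u}) [X.Over (Spec (CommRingCat.of K))]

/-- The structure map `K → O_{X,x}`. -/
noncomputable def stalkMapK (x : X) : CommRingCat.of K ⟶ X.presheaf.stalk x :=
  Spec.preimage (X.fromSpecStalk x ≫ (X ↘ Spec (CommRingCat.of K)))

theorem map_stalkMapK (x : X) :
    Spec.map (stalkMapK K X x) = X.fromSpecStalk x ≫ (X ↘ Spec (CommRingCat.of K)) :=
  Spec.map_preimage _

/-- `O_{X,x}` as a `K`-algebra -/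
@[reducible] noncomputable def stalkAlg (x : X) : Algebra K (X.presheaf.stalk x) :=
  (stalkMapK K X x).hom.toAlgebra

attribute [local instance] stalkAlg

theorem ofHom_algebraMap_stalk (x : X) :
    CommRingCat.ofHom (algebraMap K (X.presheaf.stalk x)) = stalkMapK K X x := rfl

theorem isScalarTower_functionField [IsIntegral X] (x : X) :
    IsScalarTower K (X.presheaf.stalk x) X.functionField := by
  apply IsScalarTower.of_algebraMap_eq'
  have h : stalkMapK K X (genericPoint X) = stalkMapK K X x ≫
      X.presheaf.stalkSpecializes ((genericPoint_spec X).specializes trivial) := by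
    apply Spec.map_injective
    rw [Spec.map_comp, map_stalkMapK, map_stalkMapK,
      Scheme.SpecMap_stalkSpecializes_fromSpecStalk_assoc]
  exact congrArg CommRingCat.Hom.hom h

variable {K X} {B : Type u} [CommRing B] [Algebra K B]
  (μ : pullback (Spec.map (CommRingCat.ofHom (algebraMap K B))) (X ↘ Spec (CommRingCat.of K)) ⟶ X)

/-- The morphism `Spec (O_{X,x} ⊗ B) → X`. -/
noncomputable def muX (x : X) : Spec (CommRingCat.of (X.presheaf.stalk x ⊗[K] B)) ⟶ X :=
  pullback.lift
    (Spec.map (CommRingCat.ofHom
      (Algebra.TensorProduct.includeRight : B →ₐ[K] X.presheaf.stalk x ⊗[K] B).toRingHom))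
    (Spec.map (CommRingCat.ofHom
      (Algebra.TensorProduct.includeLeftRingHom : X.presheaf.stalk x →+* X.presheaf.stalk x ⊗[K] B)) ≫
        X.fromSpecStalk x) (by
      rw [Category.assoc, ← map_stalkMapK, ← ofHom_algebraMap_stalk, ← Spec.map_comp,
        ← Spec.map_comp, ← CommRingCat.ofHom_comp, ← CommRingCat.ofHom_comp]
      congr 2
      ext k
      simp [Algebra.TensorProduct.algebraMap_apply]) ≫ μ

/-- The morphism `λ_a : X → X` attached to a `K`-point `a` of `Spec B`. -/
noncomputable def lam (a : B →ₐ[K] K) : X ⟶ X :=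
  pullback.lift ((X ↘ Spec (CommRingCat.of K)) ≫ Spec.map (CommRingCat.ofHom a.toRingHom)) (𝟙 X)
    (by
      rw [Category.assoc, ← Spec.map_comp, ← CommRingCat.ofHom_comp, Category.id_comp]
      have : a.toRingHom.comp (algebraMap K B) = RingHom.id K := by
        ext k; simp
      rw [this]
      simp) ≫ μ

theorem evB_comp_muX (x : X) (a : B →ₐ[K] K) :
    Spec.map (CommRingCat.ofHom (evB (X.presheaf.stalk x) a).toRingHom) ≫ muX μ x =
      X.fromSpecStalk x ≫ lam μ a := by
  rw [muX, lam, ← Category.assoc, ← Category.assoc]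
  congr 1
  apply pullback.hom_ext
  · simp only [Category.assoc, pullback.lift_fst]
    rw [← Category.assoc, ← map_stalkMapK, ← ofHom_algebraMap_stalk, ← Spec.map_comp,
      ← Spec.map_comp, ← CommRingCat.ofHom_comp, ← CommRingCat.ofHom_comp]
    congr 2
    ext b
    simp [evB_tmul]
  · simp only [Category.assoc, pullback.lift_snd, Category.comp_id]
    rw [← Category.assoc, ← Spec.map_comp, ← CommRingCat.ofHom_comp]
    have : (evB (X.presheaf.stalk x) a).toRingHom.comp
        (Algebra.TensorProduct.includeLeftRingHom : X.presheaf.stalk x →+* X.presheaf.stalk x ⊗[K] B) =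
        RingHom.id _ := by
      ext r
      simp [evB_tmul]
    rw [this]
    simp

/-- compatibility of the `muX` with generization to the generic point -/
theorem jmap_comp_muX [IsIntegral X] (x : X) :
    letI := isScalarTower_functionField K X x
    Spec.map (CommRingCat.ofHom (jmap (K := K) (B := B) (X.presheaf.stalk x) X.functionField).toRingHom) ≫
      muX μ x = muX μ (genericPoint X) := by
  have := isScalarTower_functionField K X x
  rw [muX, muX, ← Category.assoc]
  congr 1
  apply pullback.hom_ext
  · simp only [Category.assoc, pullback.lift_fst]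
    rw [← Spec.map_comp, ← CommRingCat.ofHom_comp]
    congr 2
    ext b
    simp
  · simp only [Category.assoc, pullback.lift_snd]
    rw [← Category.assoc, ← Spec.map_comp, ← CommRingCat.ofHom_comp]
    have : (jmap (K := K) (B := B) (X.presheaf.stalk x) X.functionField).toRingHom.comp
        (Algebra.TensorProduct.includeLeftRingHom : X.presheaf.stalk x →+* X.presheaf.stalk x ⊗[K] B) =
        (Algebra.TensorProduct.includeLeftRingHom :
          X.functionField →+* X.functionField ⊗[K] B).comp (algebraMap (X.presheaf.stalk x) X.functionField) := by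
      ext r
      simp
    rw [this, CommRingCat.ofHom_comp, Spec.map_comp, Category.assoc]
    congr 1
    exact Scheme.SpecMap_stalkSpecializes_fromSpecStalk ((genericPoint_spec X).specializes trivial)

theorem apply_apply_of_comp_eq {X₁ Y₁ Z₁ : Scheme.{u}} {f : X₁ ⟶ Y₁} {g : Y₁ ⟶ Z₁} {h : X₁ ⟶ Z₁}
    (e : f ≫ g = h) (x : X₁) : g (f x) = h x := by
  rw [← Scheme.Hom.comp_apply, e]

/-- The closed subset of `Spec (O_{X,x} ⊗ B)` which is the complement of the preimage of `V`. -/
def Zset (V : X.Opens) (x : X) : Set (PrimeSpectrum (X.presheaf.stalk x ⊗[K] B)) :=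
  {q | muX μ x q ∉ V}

theorem isClosed_Zset (V : X.Opens) (x : X) : IsClosed (Zset μ V x) := by
  have h : IsOpen (((muX μ x) ⁻¹ᵁ V : (Spec (CommRingCat.of (X.presheaf.stalk x ⊗[K] B))).Opens) :
    Set (Spec (CommRingCat.of (X.presheaf.stalk x ⊗[K] B)))) := ((muX μ x) ⁻¹ᵁ V).isOpen
  exact h.isClosed_compl

theorem ptA_mem_Zset_iff (V : X.Opens) (x : X) (a : B →ₐ[K] K) :
    ptA (X.presheaf.stalk x) a ∈ Zset μ V x ↔ lam μ a x ∉ V := by
  have h : muX μ x (Spec.map (CommRingCat.ofHom (evB (X.presheaf.stalk x) a).toRingHom)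
      (IsLocalRing.closedPoint (X.presheaf.stalk x))) = lam μ a x := by
    refine (apply_apply_of_comp_eq (evB_comp_muX μ x a) _).trans ?_
    refine (Scheme.Hom.comp_apply _ _ _).trans ?_
    exact congrArg _ Scheme.fromSpecStalk_closedPoint
  rw [← h]
  rfl

theorem Zset_genericPoint [IsIntegral X] (V : X.Opens) (x : X) :
    letI := isScalarTower_functionField K X x
    PrimeSpectrum.comap (jmap (K := K) (B := B) (X.presheaf.stalk x) X.functionField).toRingHom ⁻¹'
      Zset μ V x = Zset μ V (genericPoint X) := by
  have := isScalarTower_functionField K X x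
  ext q
  have h : muX μ x (Spec.map (CommRingCat.ofHom
      (jmap (K := K) (B := B) (X.presheaf.stalk x) X.functionField).toRingHom) q) =
      muX μ (genericPoint X) q :=
    apply_apply_of_comp_eq (jmap_comp_muX μ x) q
  change _ ↔ muX μ (genericPoint X) q ∉ V
  rw [← h]
  rfl

end Groth.Agent.Grpsch.AmpFamily
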