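import Groth.Agent.Grpsch.AmpFamily

/-!
# The complement of the preimage of `V` has pure height one
-/

set_option autoImplicit false

universe u

open CategoryTheory CategoryTheory.Limits AlgebraicGeometry TensorProduct

namespace Groth.Agent.Grpsch.AmpHeight

open Groth.Agent.Grpsch.AmpPoly Groth.Agent.Grpsch.AmpPoints
  Groth.Agent.Grpsch.AmpPrincipal Groth.Agent.Grpsch.AmpLocal Groth.Agent.Grpsch.AmpCompare
  Groth.Agent.Grpsch.AmpFamily

/-- `V` is locally the non-vanishing locus of one function. -/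
def LocPrincipal {Y : Scheme.{u}} (V : Y.Opens) : Prop :=
  ∀ z : Y, z ∉ V → ∃ (W : Y.Opens) (e : Γ(Y, W)), z ∈ W ∧ Y.basicOpen e = W ⊓ V

theorem LocPrincipal.preimage {Y Z : Scheme.{u}} (f : Z ⟶ Y) {V : Y.Opens} (hV : LocPrincipal V) :
    LocPrincipal (f ⁻¹ᵁ V) := by
  intro z hz
  obtain ⟨W, e, hW, he⟩ := hV (f z) hz
  refine ⟨f ⁻¹ᵁ W, f.app W e, hW, ?_⟩
  rw [← Scheme.preimage_basicOpen, he]
  rfl

/-- membership of a prime in an open of `Spec` -/
def Mem {S' : Type u} [CommRing S'] (Ω : (Spec (CommRingCat.of S')).Opens) (p : PrimeSpectrum S') :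
    Prop :=
  (show ↥(Spec (CommRingCat.of S')) from p) ∈ Ω

theorem exists_of_locPrincipal (S' : Type u) [CommRing S']
    (Ω : (Spec (CommRingCat.of S')).Opens) (hΩ : LocPrincipal Ω)
    (q : PrimeSpectrum S') (hq : ¬ Mem Ω q) :
    ∃ (s e : S'), s ∉ q.asIdeal ∧ ∀ p : PrimeSpectrum S', s ∉ p.asIdeal →
      (e ∉ p.asIdeal ↔ Mem Ω p) := by
  obtain ⟨W, e₀, hqW, he₀⟩ := hΩ q hq
  obtain ⟨_, ⟨_, ⟨s, rfl⟩, rfl⟩, hqs, hsW⟩ :=
    PrimeSpectrum.isBasis_basic_opens.exists_subset_of_mem_open hqW W.isOpen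
  let s' : Γ(Spec (CommRingCat.of S'), ⊤) := (Scheme.ΓSpecIso (CommRingCat.of S')).inv s
  have hs' : (Spec (CommRingCat.of S')).basicOpen s' = PrimeSpectrum.basicOpen s :=
    basicOpen_eq_of_affine (R := CommRingCat.of S') s
  have hle : (Spec (CommRingCat.of S')).basicOpen s' ≤ W := by
    rw [hs']; exact hsW
  obtain ⟨n, y, hy⟩ := exists_eq_pow_mul_of_isAffineOpen (Spec (CommRingCat.of S')) ⊤
    (isAffineOpen_top _) s' ((Spec (CommRingCat.of S')).presheaf.map (homOfLE hle).op e₀)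
  refine ⟨s, (Scheme.ΓSpecIso (CommRingCat.of S')).hom y, hqs, fun p hp => ?_⟩
  have hp' : p ∈ (Spec (CommRingCat.of S')).basicOpen s' := by
    rw [hs']; exact hp
  have h1 : ((Scheme.ΓSpecIso (CommRingCat.of S')).hom y ∉ p.asIdeal) ↔
      p ∈ (Spec (CommRingCat.of S')).basicOpen y := by
    rw [basicOpen_eq_of_affine']
    rfl
  rw [h1]
  have h2 := congrArg (fun z => (Spec (CommRingCat.of S')).basicOpen z) hy
  simp only [TopCat.Presheaf.restrictOpenCommRingCat_apply] at h2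
  rw [Scheme.basicOpen_res, Scheme.basicOpen_mul, Scheme.basicOpen_res, he₀] at h2
  have h3 : (Spec (CommRingCat.of S')).basicOpen
      (((Spec (CommRingCat.of S')).presheaf.map (homOfLE ((Spec (CommRingCat.of S')).basicOpen_le s')).op s') ^ n) =
      (Spec (CommRingCat.of S')).basicOpen s' := by
    apply Scheme.basicOpen_of_isUnit
    exact (RingedSpace.isUnit_res_basicOpen (Spec (CommRingCat.of S')).toRingedSpace s').pow n
  have h4 : (Spec (CommRingCat.of S')).basicOpen s' ⊓ (Spec (CommRingCat.of S')).basicOpen y =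
      (Spec (CommRingCat.of S')).basicOpen s' ⊓
        ((Spec (CommRingCat.of S')).basicOpen s' ⊓ (W ⊓ Ω)) := by
    rw [h2]
    congr 1
  have h5 := SetLike.ext_iff.mp h4 p
  constructor
  · intro hpy
    have := h5.mp ⟨hp', hpy⟩
    exact this.2.2.2
  · intro hpΩ
    exact (h5.mpr ⟨hp', hp', hle hp', hpΩ⟩).2

/-- pure height one -/
theorem height_eq_one (S' : Type u) [CommRing S'] [IsDomain S'] [IsNoetherianRing S']
    (Ω : (Spec (CommRingCat.of S')).Opens) (hΩ : LocPrincipal Ω)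
    (hne : ∃ q : PrimeSpectrum S', Mem Ω q) (I : Ideal S')
    (hI : ∀ q : PrimeSpectrum S', I ≤ q.asIdeal ↔ ¬ Mem Ω q)
    (q : Ideal S') (hq : q ∈ I.minimalPrimes) : q.height = 1 := by
  have hqp : q.IsPrime := hq.1.1
  have hqΩ := (hI ⟨q, hqp⟩).mp hq.1.2
  obtain ⟨s, e, hs, he⟩ := exists_of_locPrincipal S' Ω hΩ ⟨q, hqp⟩ hqΩ
  have heq : e ∈ q := by
    by_contra h
    exact hqΩ ((he ⟨q, hqp⟩ hs).mp h)
  have hmin : q ∈ (Ideal.span {e}).minimalPrimes := by
    refine ⟨⟨hqp, (Ideal.span_singleton_le_iff_mem _).mpr heq⟩, ?_⟩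
    rintro p ⟨hp, hep⟩ hpq
    have hsp : s ∉ p := fun h => hs (hpq h)
    have hpΩ : ¬ Mem Ω (⟨p, hp⟩ : PrimeSpectrum S') := by
      intro h
      exact (he ⟨p, hp⟩ hsp).mpr h ((Ideal.span_singleton_le_iff_mem _).mp hep)
    exact hq.2 ⟨hp, (hI ⟨p, hp⟩).mpr hpΩ⟩ hpq
  have hle : q.height ≤ 1 := Ideal.height_le_one_of_isPrincipal_of_mem_minimalPrimes _ q hmin
  refine le_antisymm hle ?_
  rw [Order.one_le_iff_ne_zero]
  intro h0
  have hbot : q = ⊥ := Ideal.height_eq_zero_iff_eq_bot.mp h0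
  subst hbot
  obtain ⟨p, hp⟩ := hne
  have hIbot : I ≤ ⊥ := hq.1.2
  exact (hI p).mp (hIbot.trans bot_le) hp

variable {K : Type u} [Field K] {X : Scheme.{u}} [X.Over (Spec (CommRingCat.of K))]
  {B : Type u} [CommRing B] [Algebra K B]
  (μ : pullback (Spec.map (CommRingCat.ofHom (algebraMap K B))) (X ↘ Spec (CommRingCat.of K)) ⟶ X)

attribute [local instance] stalkAlg

theorem height_Zset [IsAlgClosed K] [IsDomain B] [Algebra.FiniteType K B] [IsIntegral X]
    [IsLocallyNoetherian X] (V : X.Opens) (hV : LocPrincipal V) (x : X)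
    (hx : ∃ a : B →ₐ[K] K, lam μ a x ∈ V)
    (q : Ideal (X.presheaf.stalk x ⊗[K] B))
    (hq : q ∈ (PrimeSpectrum.vanishingIdeal (Zset μ V x)).minimalPrimes) : q.height = 1 := by
  have hdom : IsDomain (X.presheaf.stalk x ⊗[K] B) :=
    Groth.Agent.Fdesc.TensorDomain.isDomain_tensorProduct
  have hnoeth : IsNoetherianRing (X.presheaf.stalk x ⊗[K] B) :=
    Algebra.FiniteType.isNoetherianRing (X.presheaf.stalk x) (X.presheaf.stalk x ⊗[K] B)
  refine height_eq_one (X.presheaf.stalk x ⊗[K] B) ((muX μ x) ⁻¹ᵁ V) (hV.preimage _) ?_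
    (PrimeSpectrum.vanishingIdeal (Zset μ V x)) ?_ q hq
  · obtain ⟨a, ha⟩ := hx
    refine ⟨ptA (X.presheaf.stalk x) a, ?_⟩
    by_contra h
    exact (ptA_mem_Zset_iff μ V x a).mp h ha
  · intro p
    have h1 : p ∈ Zset μ V x ↔ PrimeSpectrum.vanishingIdeal (Zset μ V x) ≤ p.asIdeal := by
      conv_lhs => rw [← (isClosed_Zset μ V x).closure_eq]
      rw [← PrimeSpectrum.zeroLocus_vanishingIdeal_eq_closure,
        PrimeSpectrum.mem_zeroLocus]
      rfl
    rw [← h1]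
    rfl

end Groth.Agent.Grpsch.AmpHeight
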