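import Groth.Agent.Grpsch.AmpCompare
import Mathlib.RingTheory.FiniteType
import Mathlib.RingTheory.FiniteStability
import Mathlib.RingTheory.FinitePresentation

/-!
# Local generators of the pushed forward divisor
-/

set_option autoImplicit false

universe u v w

namespace Groth.Agent.Grpsch.AmpLocal

open TensorProduct MvPolynomial Groth.Agent.Grpsch.AmpPoly Groth.Agent.Grpsch.AmpPoints
  Groth.Agent.Grpsch.AmpPrincipal

variable {K : Type u} [Field K] {B : Type v} [CommRing B] [Algebra K B] {g : ℕ}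
  (π : MvPolynomial (Fin g) K →ₐ[K] B)

/-- the prime of `R ⊗ B` attached to a point `a` of `B` and the closed point of `R` -/
noncomputable def ptA (R : Type w) [CommRing R] [Algebra K R] [IsLocalRing R] (a : B →ₐ[K] K) :
    PrimeSpectrum (R ⊗[K] B) :=
  PrimeSpectrum.comap (evB R a).toRingHom (IsLocalRing.closedPoint R)

theorem exists_local_generator [IsAlgClosed K] [IsDomain B] (hinj : Function.Injective π)
    (hint : π.toRingHom.IsIntegral) [Algebra.FiniteType K B]
    (R : Type w) [CommRing R] [Algebra K R] [IsDomain R] [IsLocalRing R] [IsNoetherianRing R]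
    [UniqueFactorizationMonoid R] (Z : Set (PrimeSpectrum (R ⊗[K] B))) (hZ : IsClosed Z)
    (hht : ∀ q ∈ (PrimeSpectrum.vanishingIdeal Z).minimalPrimes, q.height = 1) :
    ∃ h : MvPolynomial (Fin g) R,
      (PrimeSpectrum.vanishingIdeal Z).comap (phi π R) = Ideal.span {h} ∧
      ∀ t : Fin g → K, (evT R t h ∈ IsLocalRing.maximalIdeal R ↔
        ∃ a : B →ₐ[K] K, (∀ i, a (π (X i)) = t i) ∧ ptA R a ∈ Z) := by
  have hdom : IsDomain (R ⊗[K] B) := Groth.Agent.Fdesc.TensorDomain.isDomain_tensorProduct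
  let alg : Algebra (MvPolynomial (Fin g) R) (R ⊗[K] B) := (phi π R).toRingHom.toAlgebra
  have hint' : Algebra.IsIntegral (MvPolynomial (Fin g) R) (R ⊗[K] B) :=
    ⟨fun x => phi_isIntegral π hint R x⟩
  have hfaith : FaithfulSMul (MvPolynomial (Fin g) R) (R ⊗[K] B) :=
    (faithfulSMul_iff_algebraMap_injective _ _).mpr (phi_injective π hinj R)
  have hft : Algebra.FiniteType R (R ⊗[K] B) := inferInstance
  have hnoeth : IsNoetherianRing (R ⊗[K] B) :=
    Algebra.FiniteType.isNoetherianRing R (R ⊗[K] B)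
  obtain ⟨h, hh⟩ := exists_under_eq_span (S := MvPolynomial (Fin g) R)
    (PrimeSpectrum.vanishingIdeal Z) (PrimeSpectrum.isRadical_vanishingIdeal Z) hht
  have hh' : (PrimeSpectrum.vanishingIdeal Z).comap (phi π R) = Ideal.span {h} := hh
  refine ⟨h, hh', fun t => ?_⟩
  constructor
  · intro ht
    have hle : (PrimeSpectrum.vanishingIdeal Z).comap (algebraMap (MvPolynomial (Fin g) R) (R ⊗[K] B)) ≤
        (IsLocalRing.maximalIdeal R).comap (evT R t) := by
      change (PrimeSpectrum.vanishingIdeal Z).comap (phi π R) ≤ _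
      rw [hh', Ideal.span_singleton_le_iff_mem, Ideal.mem_comap]
      exact ht
    obtain ⟨q, hqI, hqp, hq⟩ := Ideal.exists_ideal_over_prime_of_isIntegral
      ((IsLocalRing.maximalIdeal R).comap (evT R t)) (PrimeSpectrum.vanishingIdeal Z) hle
    obtain ⟨a, ha, hqa⟩ := exists_algHom_of_liesOver π hint R t q hq
    refine ⟨a, ha, ?_⟩
    rw [← hZ.closure_eq, ← PrimeSpectrum.zeroLocus_vanishingIdeal_eq_closure,
      PrimeSpectrum.mem_zeroLocus]
    have h1 : (ptA R a).asIdeal = q := hqa.symm
    rw [h1]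
    exact hqI
  · rintro ⟨a, ha, haZ⟩
    have h1 : phi π R h ∈ PrimeSpectrum.vanishingIdeal Z := by
      have : h ∈ (PrimeSpectrum.vanishingIdeal Z).comap (phi π R) := by
        rw [hh']; exact Ideal.mem_span_singleton_self h
      exact this
    have h2 := (PrimeSpectrum.mem_vanishingIdeal _ _).mp h1 _ haZ
    have h3 : evB R a (phi π R h) ∈ IsLocalRing.maximalIdeal R := h2
    rw [evB_phi] at h3
    simpa [evT, ha] using h3

end Groth.Agent.Grpsch.AmpLocal
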