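import Groth.Agent.Grpsch.AmpHeight
import Mathlib.RingTheory.PrincipalIdealDomain

/-!
# The rational functions `h t`
-/

set_option autoImplicit false

universe u

open CategoryTheory CategoryTheory.Limits AlgebraicGeometry TensorProduct

namespace Groth.Agent.Grpsch.AmpMain

open Groth.Agent.Grpsch.AmpPoly Groth.Agent.Grpsch.AmpPoints
  Groth.Agent.Grpsch.AmpPrincipal Groth.Agent.Grpsch.AmpLocal Groth.Agent.Grpsch.AmpCompare
  Groth.Agent.Grpsch.AmpFamily Groth.Agent.Grpsch.AmpHeight

variable {K : Type u} [Field K] {X : Scheme.{u}} [X.Over (Spec (CommRingCat.of K))]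
  {B : Type u} [CommRing B] [Algebra K B]
  (μ : pullback (Spec.map (CommRingCat.ofHom (algebraMap K B))) (X ↘ Spec (CommRingCat.of K)) ⟶ X)

attribute [local instance] stalkAlg

/-- There are rational functions `h t`, `t ∈ K^g`, on `X` and for every `x` a constant `c` with
`c * h t ∈ O_{X,x}`, which is a unit iff `λ_a x ∈ V` for all points `a` over `t`. -/
theorem exists_family [IsAlgClosed K] [IsDomain B] [Algebra.FiniteType K B] [IsIntegral X]
    [IsLocallyNoetherian X] (hufd : ∀ x : X, UniqueFactorizationMonoid (X.presheaf.stalk x))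
    {g : ℕ} (π : MvPolynomial (Fin g) K →ₐ[K] B) (hinj : Function.Injective π)
    (hint : π.toRingHom.IsIntegral)
    (V : X.Opens) (hV : LocPrincipal V) (hcov : ∀ x, ∃ a : B →ₐ[K] K, lam μ a x ∈ V) :
    ∃ h : (Fin g → K) → X.functionField, ∀ x : X, ∃ c : X.functionField, c ≠ 0 ∧
      ∀ t, ∃ r : X.presheaf.stalk x, algebraMap (X.presheaf.stalk x) X.functionField r = c * h t ∧
        (IsUnit r ↔ ∀ a : B →ₐ[K] K, (∀ i, a (π (MvPolynomial.X i)) = t i) → lam μ a x ∈ V) := by
  have key : ∀ x : X, ∃ h : MvPolynomial (Fin g) (X.presheaf.stalk x),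
      (PrimeSpectrum.vanishingIdeal (Zset μ V x)).comap (phi π (X.presheaf.stalk x)) =
        Ideal.span {h} ∧
      ∀ t : Fin g → K, (evT (X.presheaf.stalk x) t h ∈ IsLocalRing.maximalIdeal (X.presheaf.stalk x) ↔
        ∃ a : B →ₐ[K] K, (∀ i, a (π (MvPolynomial.X i)) = t i) ∧
          ptA (X.presheaf.stalk x) a ∈ Zset μ V x) := by
    intro x
    have := hufd x
    exact exists_local_generator π hinj hint (X.presheaf.stalk x) (Zset μ V x)
      (isClosed_Zset μ V x) (fun q hq => height_Zset μ V hV x (hcov x) q hq)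
  choose h hh hh' using key
  let hF : MvPolynomial (Fin g) X.functionField := h (genericPoint X)
  refine ⟨fun t => evT X.functionField t hF, fun x => ?_⟩
  have := isScalarTower_functionField K X x
  obtain ⟨c, hc, hceq⟩ := exists_const π (X.presheaf.stalk x) X.functionField (Zset μ V x)
    (isClosed_Zset μ V x) (h x) (hh x) hF (by
      rw [Zset_genericPoint]
      exact hh (genericPoint X))
  refine ⟨c, hc, fun t => ⟨evT (X.presheaf.stalk x) t (h x), ?_, ?_⟩⟩
  · have h1 : algebraMap (X.presheaf.stalk x) X.functionField (evT (X.presheaf.stalk x) t (h x)) =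
        evT X.functionField t (MvPolynomial.map (algebraMap (X.presheaf.stalk x) X.functionField) (h x)) := by
      rw [evT, evT, MvPolynomial.eval_map, ← MvPolynomial.eval₂_id, MvPolynomial.hom_eval₂]
      congr 1
      funext i
      exact (IsScalarTower.algebraMap_apply K (X.presheaf.stalk x) X.functionField (t i)).symm
    rw [h1, hceq, map_mul]
    congr 1
    simp [evT]
  · have h2 := hh' x t
    rw [IsLocalRing.mem_maximalIdeal, mem_nonunits_iff] at h2
    rw [← not_iff_not, h2]
    push Not
    refine exists_congr fun a => and_congr_right fun _ => ?_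
    exact ptA_mem_Zset_iff μ V x a

end Groth.Agent.Grpsch.AmpMain
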