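import Groth.Agent.Grpsch.AmpPoly
import Mathlib.RingTheory.LocalRing.ResidueField.Ideal
import Mathlib.RingTheory.Localization.FractionRing
import Mathlib.RingTheory.Spectrum.Prime.Topology

/-!
# Points of `Spec (R ⊗ B)` over points of `𝔸^g_R`
-/

set_option autoImplicit false

universe u v w

namespace Groth.Agent.Grpsch.AmpPoints

open TensorProduct MvPolynomial Groth.Agent.Grpsch.AmpPoly

variable {K : Type u} [Field K] {B : Type v} [CommRing B] [Algebra K B] {g : ℕ}
  (π : MvPolynomial (Fin g) K →ₐ[K] B)

/-- evaluation of polynomials at a rational point -/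
noncomputable def evT (R : Type w) [CommRing R] [Algebra K R] (t : Fin g → K) :
    MvPolynomial (Fin g) R →+* R :=
  MvPolynomial.eval (fun i => algebraMap K R (t i))

theorem exists_algHom_of_liesOver [IsAlgClosed K] (hπ : π.toRingHom.IsIntegral)
    (R : Type w) [CommRing R] [Algebra K R] [IsLocalRing R] (t : Fin g → K)
    (q : Ideal (R ⊗[K] B)) [q.IsPrime]
    (hq : q.comap (phi π R) = (IsLocalRing.maximalIdeal R).comap (evT R t)) :
    ∃ a : B →ₐ[K] K, (∀ i, a (π (X i)) = t i) ∧
      q = (IsLocalRing.maximalIdeal R).comap (evB R a) := by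
  set b : Ideal B := q.comap (Algebra.TensorProduct.includeRight : B →ₐ[K] R ⊗[K] B) with hb
  have hbp : b.IsPrime := Ideal.IsPrime.comap _
  have hX : ∀ i, π (X i) - algebraMap K B (t i) ∈ b := by
    intro i
    rw [hb, Ideal.mem_comap]
    have h1 : (Algebra.TensorProduct.includeRight : B →ₐ[K] R ⊗[K] B)
        (π (X i) - algebraMap K B (t i)) = phi π R (X i - C (algebraMap K R (t i))) := by
      rw [map_sub, map_sub, phi_X, phi_C]
      congr 1
      simp [Algebra.algebraMap_eq_smul_one, TensorProduct.smul_tmul']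
    rw [h1, ← Ideal.mem_comap, hq, Ideal.mem_comap]
    simp [evT]
  let Q := B ⧸ b
  have hmk : ∀ p : MvPolynomial (Fin g) K, Ideal.Quotient.mk b (π p) =
      algebraMap K Q (MvPolynomial.eval t p) := by
    intro p
    induction p using MvPolynomial.induction_on with
    | C r =>
      have h1 : (C r : MvPolynomial (Fin g) K) = algebraMap K _ r := rfl
      rw [h1, AlgHom.commutes, MvPolynomial.algebraMap_eq, eval_C]
      rfl
    | add p q hp hq => simp [hp, hq]
    | mul_X p i hp =>
      rw [map_mul, map_mul, hp, map_mul, map_mul, eval_X]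
      congr 1
      rw [← sub_eq_zero]
      have : Ideal.Quotient.mk b (π (X i) - algebraMap K B (t i)) = 0 :=
        Ideal.Quotient.eq_zero_iff_mem.mpr (hX i)
      rw [map_sub] at this
      exact this
  have hint : Algebra.IsIntegral K Q := by
    constructor
    intro x
    obtain ⟨y, rfl⟩ := Ideal.Quotient.mk_surjective x
    obtain ⟨p, hp, hp0⟩ := hπ y
    refine ⟨p.map (MvPolynomial.eval t), hp.map _, ?_⟩
    have h2 : (Ideal.Quotient.mk b) (Polynomial.eval₂ π.toRingHom y p) = 0 := by
      rw [hp0, map_zero]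
    rw [Polynomial.hom_eval₂] at h2
    rw [Polynomial.eval₂_map]
    have h3 : (algebraMap K Q).comp (MvPolynomial.eval t) =
        (Ideal.Quotient.mk b).comp π.toRingHom := by
      apply RingHom.ext
      intro q
      exact (hmk q).symm
    rw [h3]
    exact h2
  have hbij : Function.Bijective (algebraMap K Q) := IsAlgClosed.algebraMap_bijective_of_isIntegral
  let e : K ≃ₐ[K] Q := AlgEquiv.ofBijective (Algebra.ofId K Q) hbij
  let a : B →ₐ[K] K := (e.symm : Q →ₐ[K] K).comp (Ideal.Quotient.mkₐ K b)
  have ha : ∀ x : B, algebraMap K Q (a x) = Ideal.Quotient.mk b x := by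
    intro x
    exact e.apply_symm_apply _
  have ha' : ∀ x : B, x - algebraMap K B (a x) ∈ b := by
    intro x
    rw [← Ideal.Quotient.eq_zero_iff_mem, map_sub, sub_eq_zero, ← ha x]
    rfl
  refine ⟨a, ?_, ?_⟩
  · intro i
    apply hbij.1
    rw [ha, hmk, eval_X]
  · have key : ∀ s : R ⊗[K] B, s - (evB R a s) ⊗ₜ 1 ∈ q := by
      intro s
      induction s using TensorProduct.induction_on with
      | zero => simp
      | add x y hx hy =>
        have : x + y - (evB R a (x + y)) ⊗ₜ[K] (1 : B) =
            (x - (evB R a x) ⊗ₜ 1) + (y - (evB R a y) ⊗ₜ 1) := by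
          rw [map_add, TensorProduct.add_tmul]; ring
        rw [this]
        exact q.add_mem hx hy
      | tmul r x =>
        have h1 : r ⊗ₜ[K] x - (evB R a (r ⊗ₜ x)) ⊗ₜ[K] (1 : B) =
            (r ⊗ₜ 1) * ((Algebra.TensorProduct.includeRight : B →ₐ[K] R ⊗[K] B)
              (x - algebraMap K B (a x))) := by
          rw [evB_tmul, map_sub, mul_sub, Algebra.TensorProduct.includeRight_apply,
            Algebra.TensorProduct.includeRight_apply, Algebra.TensorProduct.tmul_mul_tmul,
            Algebra.TensorProduct.tmul_mul_tmul, mul_one, one_mul, one_mul, mul_comm,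
            ← Algebra.smul_def, TensorProduct.smul_tmul, Algebra.smul_def, mul_one]
        rw [h1]
        exact q.mul_mem_left _ (ha' x)
    ext s
    rw [Ideal.mem_comap]
    have h1 : s ∈ q ↔ (evB R a s) ⊗ₜ[K] (1 : B) ∈ q := by
      constructor
      · intro hs
        have := q.sub_mem hs (key s)
        simpa using this
      · intro hs
        have := q.add_mem (key s) hs
        simpa using this
    rw [h1, ← phi_C π R, ← Ideal.mem_comap, hq, Ideal.mem_comap]
    simp [evT]

/-- A prime of `R ⊗ B` contracting to zero in `R` extends to `F ⊗ B`, `F = Frac R`. -/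
theorem exists_prime_over_of_comap_eq_bot (R : Type w) [CommRing R] [Algebra K R]
    [IsDomain R] (F : Type w) [Field F] [Algebra K F] [Algebra R F] [IsScalarTower K R F]
    [IsFractionRing R F] (q : Ideal (R ⊗[K] B)) [q.IsPrime]
    (hq : q.comap (algebraMap R (R ⊗[K] B)) = ⊥) :
    ∃ q' : Ideal (F ⊗[K] B), q'.IsPrime ∧
      q'.comap (Algebra.TensorProduct.map (IsScalarTower.toAlgHom K R F) (AlgHom.id K B)) = q := by
  let L := q.ResidueField
  have hinj : Function.Injective (algebraMap R L) := by
    rw [IsScalarTower.algebraMap_eq R (R ⊗[K] B) L, RingHom.injective_iff_ker_eq_bot]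
    rw [← RingHom.comap_ker]
    have : RingHom.ker (algebraMap (R ⊗[K] B) L) = q := Ideal.ker_algebraMap_residueField q
    rw [this]
    exact hq
  let f₁ : F →ₐ[R] L := IsFractionRing.liftAlgHom (g := Algebra.ofId R L) hinj
  let f₂ : B →ₐ[K] L := (Algebra.ofId (R ⊗[K] B) L |>.restrictScalars K).comp
    (Algebra.TensorProduct.includeRight : B →ₐ[K] R ⊗[K] B)
  let ψ : F ⊗[K] B →ₐ[K] L := Algebra.TensorProduct.lift (f₁.restrictScalars K) f₂
    (fun _ _ => Commute.all _ _)
  refine ⟨RingHom.ker ψ, RingHom.ker_isPrime _, ?_⟩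
  have h1 : (ψ.comp (Algebra.TensorProduct.map (IsScalarTower.toAlgHom K R F) (AlgHom.id K B))) =
      (Algebra.ofId (R ⊗[K] B) L |>.restrictScalars K) := by
    apply Algebra.TensorProduct.ext
    · apply AlgHom.ext
      intro r
      have h2 : f₁ (algebraMap R F r) = algebraMap R L r := f₁.commutes r
      have h3 : algebraMap R L r = algebraMap (R ⊗[K] B) L (r ⊗ₜ 1) := by
        rw [IsScalarTower.algebraMap_apply R (R ⊗[K] B) L]
        rfl
      simp [ψ, Algebra.ofId_apply, h2, h3]
    · apply AlgHom.ext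
      intro b
      simp [ψ, f₂]
  ext s
  rw [Ideal.mem_comap, RingHom.mem_ker]
  have h2 := congrArg (fun f => f s) h1
  simp only [AlgHom.comp_apply] at h2
  rw [h2]
  change algebraMap (R ⊗[K] B) L s = 0 ↔ _
  exact Ideal.algebraMap_residueField_eq_zero

end Groth.Agent.Grpsch.AmpPoints
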