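import Groth.Agent.Grpsch.AmpPrincipal
import Groth.Agent.Fdesc.TensorDomain
import Mathlib.RingTheory.TensorProduct.MvPolynomial
import Mathlib.RingTheory.Polynomial.UniqueFactorization
import Mathlib.RingTheory.Spectrum.Prime.Basic
import Mathlib.RingTheory.Ideal.GoingUp

/-!
# Finite covers `Spec (R ⊗ B) → 𝔸^g_R` and contraction of closed subsets

`K` algebraically closed, `π : K[T_1..T_g] → B` a finite injective map to a domain.
-/

set_option autoImplicit false

universe u v w

namespace Groth.Agent.Grpsch.AmpPoly

open TensorProduct MvPolynomial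

section basic

variable {K : Type u} [Field K] {B : Type v} [CommRing B] [Algebra K B] {g : ℕ}
  (π : MvPolynomial (Fin g) K →ₐ[K] B)

/-- The map `R[T_1..T_g] → R ⊗ B`. -/
noncomputable def phi (R : Type w) [CommRing R] [Algebra K R] :
    MvPolynomial (Fin g) R →ₐ[R] R ⊗[K] B :=
  MvPolynomial.aeval (fun i => (1 : R) ⊗ₜ[K] π (X i))

theorem phi_X (R : Type w) [CommRing R] [Algebra K R] (i : Fin g) :
    phi π R (X i) = 1 ⊗ₜ π (X i) := by
  simp [phi]

theorem phi_C (R : Type w) [CommRing R] [Algebra K R] (r : R) :
    phi π R (C r) = r ⊗ₜ 1 := by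
  simp [phi]

theorem phi_eq (R : Type w) [CommRing R] [Algebra K R] (p : MvPolynomial (Fin g) R) :
    phi π R p = Algebra.TensorProduct.map (AlgHom.id R R) π
      ((MvPolynomial.algebraTensorAlgEquiv K R).symm p) := by
  have : phi π R = (Algebra.TensorProduct.map (AlgHom.id R R) π).comp
      (MvPolynomial.algebraTensorAlgEquiv K R).symm.toAlgHom := by
    apply MvPolynomial.algHom_ext
    intro i
    simp [phi_X]
  rw [this]
  rfl

theorem phi_map_K (R : Type w) [CommRing R] [Algebra K R] (p : MvPolynomial (Fin g) K) :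
    phi π R (MvPolynomial.map (algebraMap K R) p) = 1 ⊗ₜ π p := by
  induction p using MvPolynomial.induction_on with
  | C r =>
    have h1 : (C r : MvPolynomial (Fin g) K) = algebraMap K _ r := rfl
    rw [h1, AlgHom.commutes, MvPolynomial.algebraMap_eq, map_C, phi_C]
    rw [Algebra.algebraMap_eq_smul_one, Algebra.algebraMap_eq_smul_one, TensorProduct.tmul_smul,
      TensorProduct.smul_tmul']
  | add p q hp hq => simp [hp, hq, TensorProduct.tmul_add]
  | mul_X p i hp =>
    rw [map_mul, map_mul, hp, map_X, phi_X, map_mul]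
    simp

theorem phi_injective (hπ : Function.Injective π) (R : Type w) [CommRing R] [Algebra K R] :
    Function.Injective (phi π R) := by
  have h1 : Function.Injective (Algebra.TensorProduct.map (AlgHom.id R R) π) := by
    have := Module.Flat.lTensor_preserves_injective_linearMap (M := R) π.toLinearMap hπ
    exact this
  have h2 : ⇑(phi π R) = (Algebra.TensorProduct.map (AlgHom.id R R) π) ∘
      (MvPolynomial.algebraTensorAlgEquiv K R).symm := by
    funext p
    exact phi_eq π R p
  rw [h2]
  exact h1.comp (MvPolynomial.algebraTensorAlgEquiv K R).symm.injective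

theorem phi_isIntegral (hπ : π.toRingHom.IsIntegral) (R : Type w) [CommRing R] [Algebra K R] :
    (phi π R).toRingHom.IsIntegral := by
  intro x
  induction x using TensorProduct.induction_on with
  | zero => exact (phi π R).toRingHom.isIntegralElem_zero
  | add x y hx hy => exact RingHom.IsIntegralElem.add _ hx hy
  | tmul r b =>
    have h1 : r ⊗ₜ[K] b = (phi π R).toRingHom (C r) * ((1 : R) ⊗ₜ[K] b) := by
      change _ = phi π R (C r) * _
      rw [phi_C]
      simp
    rw [h1]
    refine RingHom.IsIntegralElem.mul _ (RingHom.isIntegralElem_map _) ?_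
    obtain ⟨p, hp, hp0⟩ := hπ b
    refine ⟨p.map (MvPolynomial.map (algebraMap K R)), hp.map _, ?_⟩
    have h2 : (Algebra.TensorProduct.includeRight : B →ₐ[K] R ⊗[K] B).toRingHom
        (Polynomial.eval₂ π.toRingHom b p) = 0 := by
      rw [hp0, map_zero]
    rw [Polynomial.hom_eval₂] at h2
    rw [Polynomial.eval₂_map]
    have h3 : (phi π R).toRingHom.comp (MvPolynomial.map (algebraMap K R)) =
        ((Algebra.TensorProduct.includeRight : B →ₐ[K] R ⊗[K] B).toRingHom).comp π.toRingHom := by
      apply RingHom.ext
      intro q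
      exact phi_map_K π R q
    rw [h3]
    exact h2

/-- naturality in `R` -/
theorem map_phi {R R' : Type w} [CommRing R] [Algebra K R] [CommRing R'] [Algebra K R']
    (ρ : R →ₐ[K] R') (p : MvPolynomial (Fin g) R) :
    Algebra.TensorProduct.map ρ (AlgHom.id K B) (phi π R p) =
      phi π R' (MvPolynomial.map ρ.toRingHom p) := by
  induction p using MvPolynomial.induction_on with
  | C r => simp
  | add p q hp hq => simp [hp, hq]
  | mul_X p i hp =>
    rw [map_mul, map_mul, hp, map_mul, map_mul, map_X, phi_X, phi_X]
    simp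

/-- evaluation at a point `a : B → K` -/
noncomputable def evB (R : Type w) [CommRing R] [Algebra K R] (a : B →ₐ[K] K) : R ⊗[K] B →ₐ[R] R :=
  Algebra.TensorProduct.lift (AlgHom.id R R) ((Algebra.ofId K R).comp a) (fun _ _ => Commute.all _ _)

theorem evB_tmul (R : Type w) [CommRing R] [Algebra K R] (a : B →ₐ[K] K) (r : R) (b : B) :
    evB R a (r ⊗ₜ b) = r * algebraMap K R (a b) := by
  simp [evB, Algebra.ofId_apply]

theorem evB_phi (R : Type w) [CommRing R] [Algebra K R] (a : B →ₐ[K] K)
    (p : MvPolynomial (Fin g) R) :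
    evB R a (phi π R p) = MvPolynomial.eval (fun i => algebraMap K R (a (π (X i)))) p := by
  induction p using MvPolynomial.induction_on with
  | C r => simp [evB_tmul]
  | add p q hp hq => simp [hp, hq]
  | mul_X p i hp =>
    rw [map_mul, map_mul, hp, phi_X, evB_tmul]
    simp

end basic

end Groth.Agent.Grpsch.AmpPoly
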