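import Mathlib.RingTheory.Ideal.UFD
import Mathlib.RingTheory.IntegralClosure.GoingDown
import Mathlib.RingTheory.Polynomial.RationalRoot
import Mathlib.Algebra.GCDMonoid.Basic

/-!
# Contraction of pure codimension one radical ideals along integral extensions of a UFD

If `S → S'` is an integral extension of domains, `S` a UFD, `S'` Noetherian, and `I ⊆ S'` is a
radical ideal all of whose minimal primes have height one, then `I ∩ S` is principal.
-/

set_option autoImplicit false

namespace Groth.Agent.Grpsch.AmpPrincipal

open Ideal

/-- In a UFD the intersection of two principal ideals is principal. -/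
theorem inf_span_singleton {S : Type*} [CommRing S] [IsDomain S] [UniqueFactorizationMonoid S]
    (a b : S) : ∃ c : S, Ideal.span {a} ⊓ Ideal.span {b} = Ideal.span {c} := by
  classical
  let := UniqueFactorizationMonoid.toGCDMonoid S
  refine ⟨GCDMonoid.lcm a b, ?_⟩
  ext x
  simp only [Submodule.mem_inf, Ideal.mem_span_singleton]
  exact (lcm_dvd_iff).symm

/-- In a UFD finite intersections of principal ideals are principal. -/
theorem finset_inf_span {S : Type*} [CommRing S] [IsDomain S] [UniqueFactorizationMonoid S]
    {ι : Type*} (s : Finset ι) (J : ι → Ideal S) (hJ : ∀ i ∈ s, ∃ c, J i = Ideal.span {c}) :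
    ∃ c : S, s.inf J = Ideal.span {c} := by
  classical
  induction s using Finset.induction_on with
  | empty => exact ⟨1, by simp⟩
  | insert a s ha ih =>
    obtain ⟨c, hc⟩ := ih fun i hi => hJ i (Finset.mem_insert_of_mem hi)
    obtain ⟨d, hd⟩ := hJ a (Finset.mem_insert_self a s)
    rw [Finset.inf_insert, hc, hd]
    exact inf_span_singleton d c

variable {S S' : Type*} [CommRing S] [CommRing S'] [Algebra S S']

/-- Height one primes contract to height one primes along integral extensions of a normal domain. -/
theorem height_under_eq_one [IsDomain S] [IsDomain S'] [IsIntegrallyClosed S] [Algebra.IsIntegral S S']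
    [FaithfulSMul S S'] [IsNoetherianRing S] [IsNoetherianRing S'] (q : Ideal S') [q.IsPrime]
    (hq : q.height = 1) :
    (q.under S).height = 1 := by
  have hbot : q ≠ ⊥ := Ideal.ne_bot_of_height_eq_one hq
  have hle : (q.under S).height ≤ 1 := by
    have := Ideal.height_eq_height_add_of_liesOver_of_hasGoingDown (q.under S) q
    rw [hq] at this
    rw [this]
    exact le_self_add
  have hne : q.under S ≠ ⊥ := by
    intro h
    exact hbot (Ideal.eq_bot_of_comap_eq_bot h)
  refine le_antisymm hle ?_
  rw [Order.one_le_iff_ne_zero]
  intro h0
  apply hne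
  exact Ideal.height_eq_zero_iff_eq_bot.mp h0

/-- The contraction of a radical ideal of pure height one along an integral extension of a
UFD is principal. -/
theorem exists_under_eq_span [IsDomain S] [IsDomain S'] [UniqueFactorizationMonoid S]
    [Algebra.IsIntegral S S'] [FaithfulSMul S S'] [IsNoetherianRing S] [IsNoetherianRing S']
    (I : Ideal S') (hI : I.IsRadical) (hht : ∀ q ∈ I.minimalPrimes, q.height = 1) :
    ∃ h : S, I.under S = Ideal.span {h} := by
  classical
  have hfin : I.minimalPrimes.Finite := Ideal.finite_minimalPrimes_of_isNoetherianRing S' I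
  have hinf : I = sInf I.minimalPrimes := by
    conv_lhs => rw [← hI.radical]
    rw [Ideal.sInf_minimalPrimes]
  obtain ⟨c, hc⟩ := finset_inf_span hfin.toFinset (fun q => q.under S) (by
    intro q hq
    have hq' : q ∈ I.minimalPrimes := by simpa using hq
    have : q.IsPrime := hq'.1.1
    have h1 := height_under_eq_one (S := S) q (hht q hq')
    have h2 := UniqueFactorizationMonoid.isPrincipal_of_height_eq_one h1
    exact ⟨_, (Ideal.span_singleton_generator (q.under S)).symm⟩)
  refine ⟨c, ?_⟩
  rw [← hc]
  ext x
  rw [Finset.inf_eq_iInf]
  simp only [Set.Finite.mem_toFinset, Submodule.mem_iInf, Ideal.under_def, Ideal.mem_comap]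
  constructor
  · intro hx q hq
    rw [hinf] at hx
    exact (Ideal.mem_sInf.mp hx) hq
  · intro hx
    rw [hinf]
    exact Ideal.mem_sInf.mpr fun {q} hq => hx q hq

end Groth.Agent.Grpsch.AmpPrincipal
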