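import Groth.Prelude.Def_Grpd
import Groth.Prelude.Def_MoreMor
import Groth.Agent.Flat2D.PbStalk

/-!
# Cohen–Macaulay local rings: transport along ring isomorphisms; `Grpd.IsCMAt` = `MoreMor.IsCMAt`
-/

set_option autoImplicit false

open CategoryTheory CategoryTheory.Limits AlgebraicGeometry

universe u v

namespace Groth.Agent.Grpsch.CMFibre

theorem depth_le_of_ringEquiv {A : Type u} {B : Type v} [CommRing A] [CommRing B] [IsLocalRing A]
    [IsLocalRing B] (e : A ≃+* B) : LocCoh.depth A A ≤ LocCoh.depth B B := by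
  classical
  unfold LocCoh.depth LocCoh.idealDepth
  have hA : ¬ (IsLocalRing.maximalIdeal A • (⊤ : Submodule A A) = ⊤) := by
    simpa using (IsLocalRing.maximalIdeal.isMaximal A).ne_top
  have hB : ¬ (IsLocalRing.maximalIdeal B • (⊤ : Submodule B B) = ⊤) := by
    simpa using (IsLocalRing.maximalIdeal.isMaximal B).ne_top
  rw [if_neg hA, if_neg hB]
  refine iSup₂_le fun rs hrs => ?_
  refine le_trans (le_of_eq ?_) (le_iSup₂_of_le (rs.map e) ⟨?_, ?_⟩ le_rfl)
  · simp
  · refine (AddEquiv.isWeaklyRegular_congr (e := e.toAddEquiv) (as := rs) ?_).mp hrs.1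
    rw [List.forall₂_map_right_iff]
    apply List.forall₂_same.mpr
    intro x _ y
    exact map_mul e x y
  · intro r hr
    obtain ⟨a, ha, rfl⟩ := List.mem_map.mp hr
    have := hrs.2 a ha
    rw [IsLocalRing.mem_maximalIdeal, mem_nonunits_iff] at this ⊢
    simpa using this

theorem depth_eq_of_ringEquiv {A : Type u} {B : Type v} [CommRing A] [CommRing B] [IsLocalRing A]
    [IsLocalRing B] (e : A ≃+* B) : LocCoh.depth A A = LocCoh.depth B B :=
  le_antisymm (depth_le_of_ringEquiv e) (depth_le_of_ringEquiv e.symm)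

theorem isCohenMacaulayLocalRing_of_ringEquiv {A : Type u} {B : Type v} [CommRing A] [CommRing B]
    (e : A ≃+* B) (h : LocCoh.IsCohenMacaulayLocalRing A) : LocCoh.IsCohenMacaulayLocalRing B := by
  have : IsLocalRing A := h.toIsLocalRing
  have : IsNoetherianRing A := inferInstance
  have : IsLocalRing B := e.isLocalRing
  have : IsNoetherianRing B := isNoetherianRing_of_ringEquiv A e
  refine ⟨?_⟩
  rw [Module.supportDim_self_eq_ringKrullDim, ← ringKrullDim_eq_of_ringEquiv e,
    ← Module.supportDim_self_eq_ringKrullDim, h.supportDim_eq_depth, depth_eq_of_ringEquiv e]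

theorem isCohenMacaulayLocalRing_iff_of_ringEquiv {A : Type u} {B : Type v} [CommRing A]
    [CommRing B] (e : A ≃+* B) :
    LocCoh.IsCohenMacaulayLocalRing A ↔ LocCoh.IsCohenMacaulayLocalRing B :=
  ⟨isCohenMacaulayLocalRing_of_ringEquiv e, isCohenMacaulayLocalRing_of_ringEquiv e.symm⟩

/-- The two notions of "Cohen–Macaulay at a point" agree. -/
theorem isCMAt_iff {X Y : Scheme.{u}} (f : X ⟶ Y) (x : X) :
    Grpd.IsCMAt f x ↔ MoreMor.IsCMAt f x := by
  unfold Grpd.IsCMAt MoreMor.IsCMAt
  exact and_congr Iff.rfl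
    (isCohenMacaulayLocalRing_iff_of_ringEquiv (Groth.Agent.Flat2D.PbStalk.fiberStalkEquiv f x))

end Groth.Agent.Grpsch.CMFibre
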