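import Mathlib.RingTheory.RingHom.Flat
import Mathlib.RingTheory.Flat.Basic
import Mathlib.RingTheory.TensorProduct.Basic
import Mathlib.LinearAlgebra.TensorProduct.Tower

/-!
# Injectivity of base change of a split ideal
-/

set_option autoImplicit false
universe u

open TensorProduct

namespace Groth.Agent.Grpsch.SplitTensor

/-- Let `B'` be flat over `B ⊗[A] A'`, and let `κ : K → B` be a map of `B`-modules with an `A`-linear
retraction. Then `B' ⊗[B] K → B' ⊗[B] B` is injective. -/
theorem injective_lTensor_of_split {A B A' B' K : Type u} [CommRing A] [CommRing B] [CommRing A']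
    [CommRing B'] [Algebra A B] [Algebra A A'] [Algebra B B'] [Algebra A' B'] [Algebra A B']
    [IsScalarTower A B B'] [IsScalarTower A A' B']
    (hflat : (Algebra.TensorProduct.productMap (IsScalarTower.toAlgHom A B B')
      (IsScalarTower.toAlgHom A A' B')).toRingHom.Flat)
    [AddCommGroup K] [Module B K] [Module A K] [IsScalarTower A B K]
    (κ : K →ₗ[B] B) (ρ : B →ₗ[A] K) (hρ : ∀ k, ρ (κ k) = k) :
    Function.Injective (κ.lTensor B') := by
  let D := B ⊗[A] A'
  let φ : D →ₐ[A] B' := Algebra.TensorProduct.productMap (IsScalarTower.toAlgHom A B B')
      (IsScalarTower.toAlgHom A A' B')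
  let : Algebra D B' := φ.toRingHom.toAlgebra
  have hfl : Module.Flat D B' := hflat
  have : IsScalarTower B D B' := IsScalarTower.of_algebraMap_eq fun b => by
    change algebraMap B B' b = φ (b ⊗ₜ 1)
    exact (Algebra.TensorProduct.productMap_left_apply (IsScalarTower.toAlgHom A B B')
      (IsScalarTower.toAlgHom A A' B') b).symm
  -- step 1
  have h1 : Function.Injective (κ.rTensor D) := by
    let e₁ := TensorProduct.AlgebraTensorModule.cancelBaseChange A B B K A'
    let e₂ := TensorProduct.AlgebraTensorModule.cancelBaseChange A B B B A'
    have h2 : ∀ t, e₂ (κ.rTensor D t) = (κ.restrictScalars A).rTensor A' (e₁ t) := by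
      intro t
      induction t using TensorProduct.induction_on with
      | zero => simp
      | add x y hx hy => simp only [map_add, hx, hy]
      | tmul k d =>
        induction d using TensorProduct.induction_on with
        | zero => simp
        | add x y hx hy => simp only [tmul_add, map_add, hx, hy]
        | tmul b a =>
          refine (TensorProduct.AlgebraTensorModule.cancelBaseChange_tmul A B B (κ k) a b).trans ?_
          refine Eq.trans ?_ (congrArg ((κ.restrictScalars A).rTensor A')
            (TensorProduct.AlgebraTensorModule.cancelBaseChange_tmul A B B k a b).symm)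
          rw [LinearMap.rTensor_tmul, LinearMap.restrictScalars_apply, map_smul]
    have h3 : Function.LeftInverse (ρ.rTensor A') ((κ.restrictScalars A).rTensor A') := by
      intro t
      rw [← LinearMap.comp_apply, ← LinearMap.rTensor_comp]
      have : ρ ∘ₗ κ.restrictScalars A = LinearMap.id := by
        ext k
        exact hρ k
      rw [this, LinearMap.rTensor_id]
      rfl
    intro x y hxy
    apply e₁.injective
    apply h3.injective
    rw [← h2, ← h2, hxy]
  have h4 : Function.Injective (κ.baseChange D) := by
    intro x y hxy
    apply (TensorProduct.comm B D K).injective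
    apply h1
    have h5 : ∀ t, κ.rTensor D (TensorProduct.comm B D K t) =
        TensorProduct.comm B D B (κ.baseChange D t) := by
      intro t
      induction t using TensorProduct.induction_on with
      | zero => simp
      | add x y hx hy => simp only [map_add, hx, hy]
      | tmul k d => simp
    rw [h5, h5, hxy]
  have h6 := Module.Flat.lTensor_preserves_injective_linearMap (M := B') (κ.baseChange D) h4
  let f₁ := TensorProduct.AlgebraTensorModule.cancelBaseChange B D D B' K
  let f₂ := TensorProduct.AlgebraTensorModule.cancelBaseChange B D D B' B
  have h7 : ∀ t, f₂ ((κ.baseChange D).lTensor B' t) = κ.lTensor B' (f₁ t) := by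
    intro t
    induction t using TensorProduct.induction_on with
    | zero => simp
    | add x y hx hy => simp only [map_add, hx, hy]
    | tmul b d =>
      induction d using TensorProduct.induction_on with
      | zero => simp
      | add x y hx hy => simp only [tmul_add, map_add, hx, hy]
      | tmul d k => simp [f₁, f₂]
  intro x y hxy
  obtain ⟨x, rfl⟩ := f₁.surjective x
  obtain ⟨y, rfl⟩ := f₁.surjective y
  rw [← h7, ← h7] at hxy
  rw [h6 (f₂.injective hxy)]

end Groth.Agent.Grpsch.SplitTensor
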