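import Groth.Agent.Grpsch.ConormalStalk
import Mathlib.AlgebraicGeometry.Stalk
import Groth.Agent.Grpsch.SplitTensor
import Mathlib.RingTheory.Flat.Basic

/-!
# Base change of the conormal sheaf of an immersion
-/

set_option autoImplicit false
universe u
open CategoryTheory CategoryTheory.Limits AlgebraicGeometry TopologicalSpace IsLocalRing

namespace Groth.Agent.Grpsch.ConormalBC

open Groth.Agent.Smoothlim.ModKer Groth.Agent.CycB.StalkExact Groth.Agent.CycB.PushStalk
open Groth.Agent.Fdesc.PullbackStalk Groth.Agent.Fdesc.FlatBC Groth.Agent.Grpsch.ConormalStalk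

lemma exists_factor {L : CommRingCat.{u}} [IsLocalRing L] {Y : Scheme.{u}} (w : Spec L ⟶ Y) (y : Y)
    (h : w (closedPoint L) = y) :
    ∃ ρ : Y.presheaf.stalk y ⟶ L, Spec.map ρ ≫ Y.fromSpecStalk y = w := by
  subst h
  exact ⟨Scheme.stalkClosedPointTo w, Scheme.Spec_stalkClosedPointTo_fromSpecStalk w⟩

section

variable {Z X Z' X' : Scheme.{u}} {i : Z ⟶ X} {i' : Z' ⟶ X'} {g : X' ⟶ X} {h : Z' ⟶ Z}

/-- The kernel of `O_{X',x'} → O_{Z',z'}` is generated by the kernel of `O_{X,x} → O_{Z,z}`. -/
theorem mem_map_ker (H : IsPullback i' h g i) (hi' : Function.Injective i') (z' : Z')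
    (hsurj : Function.Surjective (crossMap H.w z'))
    (b : X'.presheaf.stalk (i' z')) (hb : i'.stalkMap z' b = 0) :
    b ∈ Ideal.map (g.stalkMap (i' z')).hom (RingHom.ker (crossMap H.w z').hom) := by
  set σ := crossMap H.w z' with hσdef
  have hσ : Spec.map σ ≫ X.fromSpecStalk (g (i' z')) = Z.fromSpecStalk (h z') ≫ i :=
    SpecMap_crossMap H.w z'
  have hcomp : σ ≫ h.stalkMap z' = g.stalkMap (i' z') ≫ i'.stalkMap z' := crossMap_comp H.w z'
  let J : Ideal (X'.presheaf.stalk (i' z')) :=
    Ideal.map (g.stalkMap (i' z')).hom (RingHom.ker σ.hom)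
  have hJ : J ≤ RingHom.ker (i'.stalkMap z').hom := by
    refine Ideal.map_le_iff_le_comap.mpr fun a ha => ?_
    change (i'.stalkMap z').hom ((g.stalkMap (i' z')).hom a) = 0
    have h1 := congr(($hcomp).hom a)
    change (h.stalkMap z').hom (σ.hom a) = (i'.stalkMap z').hom ((g.stalkMap (i' z')).hom a) at h1
    rw [← h1, show σ.hom a = 0 from ha, map_zero]
  have hJtop : J ≠ ⊤ := fun hJ' => RingHom.ker_ne_top (i'.stalkMap z').hom (top_le_iff.mp (hJ' ▸ hJ))
  have : Nontrivial (X'.presheaf.stalk (i' z') ⧸ J) := Ideal.Quotient.nontrivial_iff.mpr hJtop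
  have hL : IsLocalRing (X'.presheaf.stalk (i' z') ⧸ J) :=
    IsLocalRing.of_surjective' (Ideal.Quotient.mk J) Ideal.Quotient.mk_surjective
  let L : CommRingCat.{u} := CommRingCat.of (X'.presheaf.stalk (i' z') ⧸ J)
  have hL' : IsLocalRing L := hL
  let π : X'.presheaf.stalk (i' z') ⟶ L := CommRingCat.ofHom (Ideal.Quotient.mk J)
  have hπ : IsLocalHom π.hom :=
    IsLocalHom.of_surjective (Ideal.Quotient.mk J) Ideal.Quotient.mk_surjective
  let τ' : Z.presheaf.stalk (h z') →+* L :=
    σ.hom.liftOfSurjective hsurj ⟨(Ideal.Quotient.mk J).comp (g.stalkMap (i' z')).hom, fun a ha => by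
      rw [RingHom.mem_ker, RingHom.comp_apply, Ideal.Quotient.eq_zero_iff_mem]
      exact Ideal.mem_map_of_mem _ ha⟩
  let τ : Z.presheaf.stalk (h z') ⟶ L := CommRingCat.ofHom τ'
  have hτ : σ ≫ τ = g.stalkMap (i' z') ≫ π := by
    apply CommRingCat.hom_ext
    exact RingHom.liftOfSurjective_comp σ.hom hsurj _
  let w : Spec L ⟶ Z' := H.lift (Spec.map π ≫ X'.fromSpecStalk (i' z'))
    (Spec.map τ ≫ Z.fromSpecStalk (h z')) (by
      rw [Category.assoc, Category.assoc, ← hσ, ← Spec.map_comp_assoc, hτ, Spec.map_comp_assoc,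
        Scheme.SpecMap_stalkMap_fromSpecStalk])
  have hw : w ≫ i' = Spec.map π ≫ X'.fromSpecStalk (i' z') := H.lift_fst _ _ _
  have hcl : w (closedPoint L) = z' := by
    apply hi'
    rw [← Scheme.Hom.comp_apply, hw, Scheme.Hom.comp_apply, Spec_closedPoint,
      Scheme.fromSpecStalk_closedPoint]
  obtain ⟨ρ, hρ⟩ := exists_factor w z' hcl
  have hfin : i'.stalkMap z' ≫ ρ = π := by
    apply Spec.map_injective
    rw [← cancel_mono (X'.fromSpecStalk (i' z')), Spec.map_comp, Category.assoc,
      Scheme.SpecMap_stalkMap_fromSpecStalk, ← Category.assoc, hρ, hw]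
  have h2 := congr(($hfin).hom b)
  change ρ.hom ((i'.stalkMap z').hom b) = Ideal.Quotient.mk J b at h2
  rw [show (i'.stalkMap z').hom b = 0 from hb, map_zero] at h2
  exact Ideal.Quotient.eq_zero_iff_mem.mp h2.symm

lemma sq_apply (w : i' ≫ g = h ≫ i) (z' : Z') : i (h z') = g (i' z') := by
  have := congrArg (fun k : Z' ⟶ X => k.base z') w
  simpa using this.symm

/-- Membership in the stalk of the kernel, in terms of the cross map. -/
lemma mem_range_kap_crossMap (w : i' ≫ g = h ≫ i) (hi : Topology.IsInducing i) (z' : Z')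
    (a : X.presheaf.stalk (g (i' z'))) :
    a ∈ LinearMap.range (kap i (g (i' z'))) ↔ crossMap w z' a = 0 := by
  have key : ∀ (x : X) (hx : i (h z') = x) (a : X.presheaf.stalk x),
      a ∈ LinearMap.range (kap i x) ↔
        (X.presheaf.stalkSpecializes (specializes_of_eq hx) ≫ i.stalkMap (h z')) a = 0 := by
    intro x hx a
    subst hx
    rw [mem_range_kap_iff i hi]
    have : X.presheaf.stalkSpecializes (specializes_of_eq (rfl : i (h z') = i (h z'))) = 𝟙 _ := by
      simp
    rw [this, Category.id_comp]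
  exact key _ (sq_apply w z') a

lemma crossMap_surjective (w : i' ≫ g = h ≫ i) [SurjectiveOnStalks i] (z' : Z') :
    Function.Surjective (crossMap w z') := by
  have h1 : Function.Surjective (i.stalkMap (h z')) := i.stalkMap_surjective _
  have h2 : i (h z') = g (i' z') := sq_apply w z'
  have h3 : Function.Surjective (X.presheaf.stalkSpecializes (specializes_of_eq h2)) :=
    ((ConcreteCategory.isIso_iff_bijective _).mp
      (inferInstanceAs (IsIso (X.presheaf.stalkCongr (.of_eq h2)).inv))).2
  intro y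
  obtain ⟨a, rfl⟩ := h1 y
  obtain ⟨b, rfl⟩ := h3 a
  exact ⟨b, rfl⟩

/-- The comparison map `g^* ker(O_X → i_* O_Z) → ker(O_X' → i'_* O_Z')` is surjective on the stalks
at the points of `Z'`. -/
theorem stalkLin_psi_surjective (H : IsPullback i' h g i) [IsPreimmersion i] (z' : Z') :
    Function.Surjective (stalkLin (psi H.w) (i' z')) := by
  have : IsPreimmersion i' := MorphismProperty.of_isPullback H.flip inferInstance
  intro k
  have h1 : i'.stalkMap z' (kap i' (i' z') k) = 0 :=
    (mem_range_kap_iff i' i'.isEmbedding.isInducing z' _).mp ⟨k, rfl⟩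
  have h2 := mem_map_ker H i'.isEmbedding.injective z' (crossMap_surjective H.w z') _ h1
  have h3 : Ideal.map (g.stalkMap (i' z')).hom (RingHom.ker (crossMap H.w z').hom) ≤
      LinearMap.range (kap i' (i' z') ∘ₗ stalkLin (psi H.w) (i' z')) := by
    refine Ideal.span_le.mpr ?_
    rintro _ ⟨a, ha, rfl⟩
    obtain ⟨m, rfl⟩ := (mem_range_kap_crossMap H.w i.isEmbedding.isInducing z' a).mpr ha
    exact ⟨canAdd g _ (i' z') m, kap_psi H.w (i' z') m⟩
  obtain ⟨t, ht⟩ := h3 h2
  exact ⟨t, kap_injective i' _ ht⟩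

/-- Injectivity of the comparison map on stalks, from injectivity of the base change of the
inclusion of the stalk in the local ring. -/
theorem stalkLin_psi_injective (w : i' ≫ g = h ≫ i) (x' : X')
    (hinj : letI := stalkAlg g x'
      Function.Injective ((kap i (g x')).lTensor (X'.presheaf.stalk x'))) :
    Function.Injective (stalkLin (psi w) x') := by
  let := stalkAlg g x'
  let e := stalkPullbackEquiv g (kernel (ClSub.unitToPush i)) x'
  have key : ∀ t, kap i' x' (stalkLin (psi w) x' (e t)) =
      TensorProduct.AlgebraTensorModule.rid (X.presheaf.stalk (g x')) (X'.presheaf.stalk x')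
        (X'.presheaf.stalk x') ((kap i (g x')).lTensor (X'.presheaf.stalk x') t) := by
    intro t
    induction t using TensorProduct.induction_on with
    | zero => simp only [map_zero]
    | add a b ha hb => simp only [map_add, ha, hb]
    | tmul a m =>
      rw [LinearMap.lTensor_tmul, TensorProduct.AlgebraTensorModule.rid_tmul]
      erw [stalkPullbackEquiv_tmul]
      rw [map_smul, map_smul, kap_psi, Algebra.smul_def, mul_comm]
      rfl
  intro a b hab
  obtain ⟨a, rfl⟩ := e.surjective a
  obtain ⟨b, rfl⟩ := e.surjective b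
  have h1 := congrArg (kap i' x') hab
  rw [key, key] at h1
  rw [hinj ((TensorProduct.AlgebraTensorModule.rid _ _ _).injective h1)]

theorem stalkLin_psi_injective_of_flat (w : i' ≫ g = h ≫ i) [Flat g] (x' : X') :
    Function.Injective (stalkLin (psi w) x') := by
  apply stalkLin_psi_injective
  let := stalkAlg g x'
  have := Groth.Agent.PerfC.FlatExact.flat_stalkAlg g x'
  exact Module.Flat.lTensor_preserves_injective_linearMap _ (kap_injective i (g x'))

lemma isIso_of_SpecMap {Y : Scheme.{u}} (y y' : Y) (hy : y = y')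
    (c : Y.presheaf.stalk y ⟶ Y.presheaf.stalk y')
    (hc : Spec.map c ≫ Y.fromSpecStalk y = Y.fromSpecStalk y') : IsIso c := by
  subst hy
  have h1 : Spec.map c = 𝟙 _ := by
    rw [← cancel_mono (Y.fromSpecStalk y), hc, Category.id_comp]
  have h2 : c = 𝟙 _ := by
    apply Spec.map_injective
    rw [h1, Spec.map_id]
  rw [h2]
  infer_instance

/-- The comparison map is injective on the stalks at the points of `Z'` if `i` is a section of
`f : X → Z` and `X' = X ×_Z Z'`. -/
theorem stalkLin_psi_injective_of_section (w : i' ≫ g = h ≫ i) [IsPreimmersion i]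
    {f : X ⟶ Z} {q : X' ⟶ Z'} (H : IsPullback g q f h) (hif : i ≫ f = 𝟙 Z) (z' : Z') :
    Function.Injective (stalkLin (psi w) (i' z')) := by
  apply stalkLin_psi_injective
  generalize hx' : i' z' = x'
  let a1 := stalkAlg f (g x')
  let a2 : Algebra (Z.presheaf.stalk (f (g x'))) (Z'.presheaf.stalk (q x')) :=
    (crossMap H.w x').hom.toAlgebra
  let a3 := stalkAlg g x'
  let a4 := stalkAlg q x'
  let a5 : Algebra (Z.presheaf.stalk (f (g x'))) (X'.presheaf.stalk x') :=
    (f.stalkMap (g x') ≫ g.stalkMap x').hom.toAlgebra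
  have t1 : IsScalarTower (Z.presheaf.stalk (f (g x'))) (X.presheaf.stalk (g x'))
    (X'.presheaf.stalk x') := IsScalarTower.of_algebraMap_eq fun _ => rfl
  have t2 : IsScalarTower (Z.presheaf.stalk (f (g x'))) (Z'.presheaf.stalk (q x'))
    (X'.presheaf.stalk x') := IsScalarTower.of_algebraMap_eq fun r =>
      (ConcreteCategory.congr_hom (crossMap_comp H.w x') r).symm
  let m1 : Module (Z.presheaf.stalk (f (g x')))
      ((kernel (ClSub.unitToPush i)).presheaf.stalk (g x')) :=
    Module.compHom _ (f.stalkMap (g x')).hom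
  have t3 : IsScalarTower (Z.presheaf.stalk (f (g x'))) (X.presheaf.stalk (g x'))
      ((kernel (ClSub.unitToPush i)).presheaf.stalk (g x')) := ⟨fun r a m => by
    rw [Algebra.smul_def, mul_smul]; rfl⟩
  -- the augmentation
  obtain ⟨σ, hσ, hmem⟩ : ∃ σ : X.presheaf.stalk (g x') ⟶ Z.presheaf.stalk (h z'),
      Spec.map σ ≫ X.fromSpecStalk (g x') = Z.fromSpecStalk (h z') ≫ i ∧
      ∀ a, a ∈ LinearMap.range (kap i (g x')) ↔ σ a = 0 := by
    subst hx'
    exact ⟨crossMap w z', SpecMap_crossMap w z',
      mem_range_kap_crossMap w i.isEmbedding.isInducing z'⟩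
  have hpt : f (g x') = h z' := by
    rw [← hx', ← sq_apply w z', ← Scheme.Hom.comp_apply, hif]; rfl
  let c : Z.presheaf.stalk (f (g x')) ⟶ Z.presheaf.stalk (h z') := f.stalkMap (g x') ≫ σ
  have hc : IsIso c := by
    apply isIso_of_SpecMap _ _ hpt
    rw [Spec.map_comp, Category.assoc, Scheme.SpecMap_stalkMap_fromSpecStalk, ← Category.assoc, hσ,
      Category.assoc, hif, Category.comp_id]
  have hc1 : ∀ a, inv c (c a) = a := fun a => congr($(IsIso.hom_inv_id c) a)
  have hc2 : ∀ a, c (inv c a) = a := fun a => congr($(IsIso.inv_hom_id c) a)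
  have hcdef : ∀ a, c a = σ (f.stalkMap (g x') a) := fun a => rfl
  have hex : ∀ b : X.presheaf.stalk (g x'), ∃ m, kap i (g x') m =
      b - f.stalkMap (g x') (inv c (σ b)) := fun b => by
    refine (hmem _).mpr ?_
    rw [map_sub, ← hcdef, hc2, sub_self]
  choose ρ hρ using hex
  let ρ' : X.presheaf.stalk (g x') →ₗ[Z.presheaf.stalk (f (g x'))]
      (kernel (ClSub.unitToPush i)).presheaf.stalk (g x') :=
    { toFun := ρ
      map_add' := fun a b => by
        apply kap_injective i
        rw [map_add, hρ, hρ, hρ]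
        simp only [map_add]
        ring
      map_smul' := fun a b => by
        apply kap_injective i
        rw [hρ]
        have h1 : ((RingHom.id (Z.presheaf.stalk (f (g x')))) a • ρ b :
            (kernel (ClSub.unitToPush i)).presheaf.stalk (g x')) =
            (f.stalkMap (g x') a) • ρ b := rfl
        rw [h1, LinearMap.map_smul, hρ, Algebra.smul_def, smul_eq_mul]
        change f.stalkMap (g x') a * b - f.stalkMap (g x') (inv c (σ (f.stalkMap (g x') a * b))) = _
        rw [map_mul, map_mul, ← hcdef, hc1, map_mul]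
        ring }
  refine Groth.Agent.Grpsch.SplitTensor.injective_lTensor_of_split
    (flat_productMap_stalk H x') (kap i (g x')) ρ' fun k => ?_
  apply kap_injective i
  change kap i (g x') (ρ (kap i (g x') k)) = _
  rw [hρ, (hmem _).mp ⟨k, rfl⟩, map_zero, map_zero, sub_zero]

end

end Groth.Agent.Grpsch.ConormalBC
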