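import Groth.Agent.Grpsch.ConormalBC

/-!
# The conormal sheaf of a base changed immersion

For a cartesian square with `i : Z → X` a quasi-compact immersion, base change `i' : Z' → X'`,
`h : Z' → Z`, `g : X' → X`:
* there is an epimorphism `h^* C_{Z/X} → C_{Z'/X'}`;
* it is an isomorphism if `g` is flat, or if `i` is a section of a morphism `f : X → Z` with
  `X' = X ×_Z Z'`.
-/

set_option autoImplicit false
universe u
open CategoryTheory CategoryTheory.Limits AlgebraicGeometry TopologicalSpace

namespace Groth.Agent.Grpsch.ConormalIso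

open Groth.Agent.Smoothlim.ConormalRes Groth.Agent.CycB.StalkExact
open Groth.Agent.Fdesc.PullbackStalk Groth.Agent.PerfC.FlatExact
open Groth.Agent.Grpsch.ConormalStalk Groth.Agent.Grpsch.ConormalBC

section pull

variable {X Y : Scheme.{u}}

lemma epi_pullback_map (f : X ⟶ Y) {M N : Y.Modules} (φ : M ⟶ N)
    (h : ∀ x : X, Function.Surjective (stalkLin φ (f x))) :
    Epi ((Scheme.Modules.pullback f).map φ) := by
  rw [epi_iff_stalkLin]
  intro x
  let := stalkAlg f x
  intro b
  obtain ⟨b, rfl⟩ := (stalkPullbackEquiv f N x).surjective b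
  obtain ⟨a, ha⟩ := LinearMap.lTensor_surjective (X.presheaf.stalk x) (h x) b
  exact ⟨stalkPullbackEquiv f M x a, (stalkLin_pullback f φ x a).trans (by rw [← ha])⟩

lemma mono_pullback_map_of_bijective (f : X ⟶ Y) {M N : Y.Modules} (φ : M ⟶ N)
    (h : ∀ x : X, Function.Bijective (stalkLin φ (f x))) :
    Mono ((Scheme.Modules.pullback f).map φ) := by
  rw [mono_iff_stalkLin]
  intro x
  let := stalkAlg f x
  intro a b hab
  obtain ⟨a, rfl⟩ := (stalkPullbackEquiv f M x).surjective a
  obtain ⟨b, rfl⟩ := (stalkPullbackEquiv f M x).surjective b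
  rw [stalkLin_pullback, stalkLin_pullback, EmbeddingLike.apply_eq_iff_eq] at hab
  congr 1
  let e := LinearEquiv.ofBijective (stalkLin φ (f x)) (h x)
  have h1 : ∀ t, (e.lTensor (X.presheaf.stalk x)) t =
      (stalkLin φ (f x)).lTensor (X.presheaf.stalk x) t := fun t => rfl
  apply (e.lTensor (X.presheaf.stalk x)).injective
  rw [h1, h1]
  exact hab

lemma isIso_pullback_map (f : X ⟶ Y) {M N : Y.Modules} (φ : M ⟶ N)
    (h : ∀ x : X, Function.Bijective (stalkLin φ (f x))) :
    IsIso ((Scheme.Modules.pullback f).map φ) := by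
  have := epi_pullback_map f φ (fun x => (h x).2)
  have := mono_pullback_map_of_bijective f φ h
  exact isIso_of_mono_of_epi _

end pull

variable {Z X Z' X' : Scheme.{u}} {i : Z ⟶ X} {i' : Z' ⟶ X'} {g : X' ⟶ X} {h : Z' ⟶ Z}

/-- `h^* C_{Z/X}` as `i'^* g^* ker(O_X → i_* O_Z)`. -/
noncomputable def cmpIso (w : i' ≫ g = h ≫ i) [QuasiCompact i] :
    (Scheme.Modules.pullback h).obj (Omega.conormal i) ≅
      (Scheme.Modules.pullback i').obj ((Scheme.Modules.pullback g).obj
        (kernel (ClSub.unitToPush i))) :=
  (Scheme.Modules.pullback h).mapIso ((Scheme.Modules.pullback i).mapIso (idealModKerIso i)) ≪≫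
    (Scheme.Modules.pullbackComp h i).app _ ≪≫ (Scheme.Modules.pullbackCongr w.symm).app _ ≪≫
      ((Scheme.Modules.pullbackComp i' g).app _).symm

/-- The natural map `h^* C_{Z/X} → C_{Z'/X'}`. -/
noncomputable def conormalMap (w : i' ≫ g = h ≫ i) [QuasiCompact i] [QuasiCompact i'] :
    (Scheme.Modules.pullback h).obj (Omega.conormal i) ⟶ Omega.conormal i' :=
  (cmpIso w).hom ≫ (Scheme.Modules.pullback i').map (psi w) ≫
    ((Scheme.Modules.pullback i').mapIso (idealModKerIso i').symm).hom

/-- The conormal sheaf of a base change is a quotient of the pullback of the conormal sheaf. -/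
theorem epi_conormalMap (H : IsPullback i' h g i) [IsPreimmersion i] [QuasiCompact i]
    [QuasiCompact i'] : Epi (conormalMap H.w) := by
  have h1 := epi_pullback_map i' (psi H.w) (stalkLin_psi_surjective H)
  exact epi_comp' inferInstance (epi_comp' h1 inferInstance)

theorem isIso_conormalMap_of_flat (H : IsPullback i' h g i) [IsPreimmersion i] [QuasiCompact i]
    [QuasiCompact i'] [Flat g] : IsIso (conormalMap H.w) := by
  have := isIso_pullback_map i' (psi H.w) (fun z' =>
    ⟨stalkLin_psi_injective_of_flat H.w (i' z'), stalkLin_psi_surjective H z'⟩)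
  exact IsIso.comp_isIso' inferInstance (IsIso.comp_isIso' this inferInstance)

theorem isIso_conormalMap_of_section (H : IsPullback i' h g i) [IsPreimmersion i] [QuasiCompact i]
    [QuasiCompact i'] {f : X ⟶ Z} {q : X' ⟶ Z'} (H' : IsPullback g q f h) (hif : i ≫ f = 𝟙 Z) :
    IsIso (conormalMap H.w) := by
  have := isIso_pullback_map i' (psi H.w) (fun z' =>
    ⟨stalkLin_psi_injective_of_section H.w H' hif z', stalkLin_psi_surjective H z'⟩)
  exact IsIso.comp_isIso' inferInstance (IsIso.comp_isIso' this inferInstance)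

/-- A section of a morphism is a preimmersion. -/
lemma isPreimmersion_of_section {f : X ⟶ Z} (hif : i ≫ f = 𝟙 Z) : IsPreimmersion i := by
  have h1 : SurjectiveOnStalks (i ≫ f) := by rw [hif]; infer_instance
  have h2 : SurjectiveOnStalks i := SurjectiveOnStalks.of_comp i f
  refine { toSurjectiveOnStalks := h2, isEmbedding := ?_ }
  refine Topology.IsEmbedding.of_comp i.continuous f.continuous ?_
  have : f ∘ i = id := by
    funext z
    change f (i z) = z
    rw [← Scheme.Hom.comp_apply, hif]; rfl
  rw [this]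
  exact Topology.IsEmbedding.id

/-- A section of a quasi-separated morphism is quasi-compact. -/
lemma quasiCompact_of_section {f : X ⟶ Z} [QuasiSeparated f] (hif : i ≫ f = 𝟙 Z) :
    QuasiCompact i := by
  have : QuasiCompact (i ≫ f) := by rw [hif]; infer_instance
  exact QuasiCompact.of_comp i f

end Groth.Agent.Grpsch.ConormalIso
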