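import Groth.Agent.Smoothlim.ConormalRes
import Groth.Agent.CycB.PushStalk
import Groth.Agent.PerfC.FlatExact
import Groth.Agent.Fdesc.FlatBC

/-!
# Stalks of the kernel of `O_X → i_* O_Z` and its behaviour under base change
-/

set_option autoImplicit false
universe u
open CategoryTheory CategoryTheory.Limits AlgebraicGeometry TopologicalSpace

namespace Groth.Agent.Grpsch.ConormalStalk

open Groth.Agent.Smoothlim.ModKer Groth.Agent.CycB.StalkExact Groth.Agent.CycB.PushStalk
open Groth.Agent.Fdesc.PullbackStalk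

section stalk

variable {Z X : Scheme.{u}}

/-- The stalk of `ker (O_X → i_* O_Z)`, mapped to the local ring. -/
noncomputable def kap (i : Z ⟶ X) (x : X) :
    (kernel (ClSub.unitToPush i)).presheaf.stalk x →ₗ[X.presheaf.stalk x] X.presheaf.stalk x :=
  (unitStalk X x).symm.toLinearMap ∘ₗ stalkLin (kernel.ι (ClSub.unitToPush i)) x

lemma unitStalk_kap (i : Z ⟶ X) (x : X) (m : (kernel (ClSub.unitToPush i)).presheaf.stalk x) :
    unitStalk X x (kap i x m) = stalkLin (kernel.ι (ClSub.unitToPush i)) x m :=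
  (unitStalk X x).apply_symm_apply _

lemma kap_injective (i : Z ⟶ X) (x : X) : Function.Injective (kap i x) := by
  have : Mono (kernel.ι (ClSub.unitToPush i)) := equalizer.ι_mono
  exact (unitStalk X x).symm.injective.comp (stalkLin_injective _ x)

lemma pushStalk_unitToPush (i : Z ⟶ X) (z : Z) (a : X.presheaf.stalk (i z)) :
    pushStalk i (Coh.structureModule Z) z (stalkLin (ClSub.unitToPush i) (i z)
      (unitStalk X (i z) a)) = unitStalk Z z (i.stalkMap z a) := by
  obtain ⟨V, hV, s, rfl⟩ := X.presheaf.exists_germ_eq a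
  have h1 : unitStalk X (i z) (X.presheaf.germ V (i z) hV s) =
      (Coh.structureModule X).presheaf.germ V (i z) hV s := unitStalkLin_germ _ _ _ _
  rw [h1, stalkLin_germ, Scheme.Hom.germ_stalkMap_apply]
  erw [pushStalk_germ]
  exact (unitStalkLin_germ z (i ⁻¹ᵁ V) hV (i.app V s)).symm

lemma mem_range_kap_iff (i : Z ⟶ X) (hi : Topology.IsInducing i) (z : Z)
    (a : X.presheaf.stalk (i z)) :
    a ∈ LinearMap.range (kap i (i z)) ↔ i.stalkMap z a = 0 := by
  have hex : Function.Exact (stalkLin (kernel.ι (ClSub.unitToPush i)) (i z))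
      (stalkLin (ClSub.unitToPush i) (i z)) :=
    stalkLin_exact (ShortComplex.mk _ _ (kernel.condition (ClSub.unitToPush i)))
      (ShortComplex.exact_of_f_is_kernel _ (kernelIsKernel _)) (i z)
  have h1 : a ∈ LinearMap.range (kap i (i z)) ↔
      unitStalk X (i z) a ∈ Set.range (stalkLin (kernel.ι (ClSub.unitToPush i)) (i z)) := by
    constructor
    · rintro ⟨m, rfl⟩
      exact ⟨m, (unitStalk_kap i _ m).symm⟩
    · rintro ⟨m, hm⟩
      refine ⟨m, ?_⟩
      apply (unitStalk X (i z)).injective
      rw [unitStalk_kap, hm]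
  rw [h1, ← hex (unitStalk X (i z) a)]
  constructor
  · intro h
    apply (unitStalk Z z).injective
    rw [← pushStalk_unitToPush, h, map_zero, map_zero]
  · intro h
    apply (pushStalk_bijective i hi (Coh.structureModule Z) z).1
    rw [pushStalk_unitToPush, h, map_zero, map_zero]

end stalk

section adj

variable {X Y : Scheme.{u}}

/-- Stalks of adjoint morphisms. -/
lemma stalkLin_homEquiv_symm (f : X ⟶ Y) {M : Y.Modules} {N : X.Modules}
    (α : M ⟶ (Scheme.Modules.pushforward f).obj N) (x : X) (m : M.presheaf.stalk (f x)) :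
    stalkLin (((Scheme.Modules.pullbackPushforwardAdjunction f).homEquiv M N).symm α) x
      (canAdd f M x m) = pushStalk f N x (stalkLin α (f x) m) := by
  obtain ⟨V, hV, s, rfl⟩ := TopCat.Presheaf.exists_germ_eq M.presheaf m
  refine (congrArg _ (canAdd_germ f M x V hV s)).trans ?_
  rw [stalkLin_germ]
  erw [stalkLin_germ]
  rw [pushStalk_germ]
  have h : ((Scheme.Modules.pullbackPushforwardAdjunction f).homEquiv M N)
      (((Scheme.Modules.pullbackPushforwardAdjunction f).homEquiv M N).symm α) = α :=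
    Equiv.apply_symm_apply _ _
  rw [Adjunction.homEquiv_unit] at h
  have h2 := ConcreteCategory.congr_hom (congrArg (fun k => Scheme.Modules.Hom.app k V) h) s
  exact congrArg (N.presheaf.germ (f ⁻¹ᵁ V) x hV) h2

end adj

section psi

variable {Z X Z' X' : Scheme.{u}} {i : Z ⟶ X} {i' : Z' ⟶ X'} {g : X' ⟶ X} {h : Z' ⟶ Z}

lemma ι_unitToPush_comp (w : i' ≫ g = h ≫ i) :
    (kernel.ι (ClSub.unitToPush i) ≫ ClSub.unitToPush g) ≫
      (Scheme.Modules.pushforward g).map (ClSub.unitToPush i') = 0 := by
  apply eq_zero_of_app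
  intro U s
  change i'.app (g ⁻¹ᵁ U) (g.app U ((kernel.ι (ClSub.unitToPush i)).app U s)) = 0
  have h0 : i.app U ((kernel.ι (ClSub.unitToPush i)).app U s) = 0 := by
    have := kernel.condition (ClSub.unitToPush i)
    exact congr(($this).app U s)
  have h1 := Scheme.Hom.congr_app w U
  rw [Scheme.Hom.comp_app, Scheme.Hom.comp_app] at h1
  have h2 := congr(($h1) ((kernel.ι (ClSub.unitToPush i)).app U s))
  refine h2.trans ?_
  change Z'.presheaf.map _ (h.app _ (i.app U ((kernel.ι (ClSub.unitToPush i)).app U s))) = 0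
  rw [h0]
  erw [map_zero, map_zero]

/-- The natural map `g^* ker (O_X → i_* O_Z) → ker (O_X' → i'_* O_Z')`. -/
noncomputable def psi (w : i' ≫ g = h ≫ i) :
    (Scheme.Modules.pullback g).obj (kernel (ClSub.unitToPush i)) ⟶
      kernel (ClSub.unitToPush i') :=
  kernel.lift _ (((Scheme.Modules.pullbackPushforwardAdjunction g).homEquiv _ _).symm
    (kernel.ι (ClSub.unitToPush i) ≫ ClSub.unitToPush g)) (by
    apply ((Scheme.Modules.pullbackPushforwardAdjunction g).homEquiv _ _).injective
    rw [Adjunction.homEquiv_naturality_right, Equiv.apply_symm_apply, ι_unitToPush_comp w]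
    rw [Adjunction.homEquiv_unit, Functor.map_zero, comp_zero])

lemma kap_psi (w : i' ≫ g = h ≫ i) (x' : X')
    (m : (kernel (ClSub.unitToPush i)).presheaf.stalk (g x')) :
    kap i' x' (stalkLin (psi w) x' (canAdd g _ x' m)) = g.stalkMap x' (kap i (g x') m) := by
  apply (unitStalk X' x').injective
  rw [unitStalk_kap]
  have h1 : stalkLin (kernel.ι (ClSub.unitToPush i')) x'
      (stalkLin (psi w) x' (canAdd g _ x' m)) =
      stalkLin (psi w ≫ kernel.ι (ClSub.unitToPush i')) x' (canAdd g _ x' m) := by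
    rw [stalkLin_comp]; rfl
  rw [h1, psi, kernel.lift_ι, stalkLin_homEquiv_symm, stalkLin_comp]
  change pushStalk g _ x' (stalkLin (ClSub.unitToPush g) (g x')
    (stalkLin (kernel.ι (ClSub.unitToPush i)) (g x') m)) = _
  rw [← unitStalk_kap]
  exact pushStalk_unitToPush g x' _

end psi

end Groth.Agent.Grpsch.ConormalStalk
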