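import Mathlib.AlgebraicGeometry.Morphisms.SchemeTheoreticallyDominant
import Mathlib.AlgebraicGeometry.Morphisms.Separated
import Mathlib.AlgebraicGeometry.Group.Abelian
import Mathlib.CategoryTheory.Monoidal.Cartesian.Over

set_option autoImplicit false
universe u

/-!
The `n`-th power map of a group scheme over a field acts on tangent vectors at the identity
as multiplication by `n` (Eckmann–Hilton argument).
-/

open CategoryTheory Limits MonoidalCategory CartesianMonoidalCategory MonObj GrpObj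
  AlgebraicGeometry

namespace Groth.Agent.Grpsch.Cotangent

/-- Two morphisms to a separated scheme which agree after a scheme-theoretically dominant
morphism are equal. -/
theorem ext_of_isSchemeTheoreticallyDominant {W X Y Z : Scheme.{u}} {f g : X ⟶ Y}
    (s : Y ⟶ Z) [IsSeparated s] (h : f ≫ s = g ≫ s)
    (w : W ⟶ X) [IsSchemeTheoreticallyDominant w] (hU : w ≫ f = w ≫ g) : f = g := by
  let X' : Over Z := Over.mk (f ≫ s)
  let Y' : Over Z := Over.mk s
  let U' : Over Z := Over.mk (w ≫ f ≫ s)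
  let f' : X' ⟶ Y' := Over.homMk f
  let g' : X' ⟶ Y' := Over.homMk g
  let w' : U' ⟶ X' := Over.homMk w
  have : IsSeparated Y'.hom := ‹_›
  let l : U' ⟶ equalizer f' g' := equalizer.lift w' (by ext1; exact hU)
  have hl : l.left ≫ (equalizer.ι f' g').left = w := by
    rw [← Over.comp_left, equalizer.lift_ι]
    rfl
  have hker : Scheme.Hom.ker (Y := X) (equalizer.ι f' g').left = ⊥ := by
    have h1 := Scheme.Hom.le_ker_comp l.left (equalizer.ι f' g').left
    rw [eq_bot_iff]
    refine h1.trans ?_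
    have h2 := IsSchemeTheoreticallyDominant.ker_eq_bot w
    rw [← hl] at h2
    exact h2.le
  have : IsIso (equalizer.ι f' g').left :=
    (IsClosedImmersion.isIso_iff_ker_eq_bot).mpr hker
  rw [← cancel_epi (equalizer.ι f' g').left]
  exact congr($(equalizer.condition f' g').left)

section Algebra

variable {K : Type u} [Field K] {Q : Type u} [CommRing Q] [Algebra K Q] (ε : Q →ₐ[K] K)
  (hε : ∀ x y, ε x = 0 → ε y = 0 → x * y = 0)

/-- The endomorphism `c + x ↦ c + n x` of an augmented algebra with square zero kernel. -/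
def mulMap (n : ℕ) : Q →ₐ[K] Q where
  toFun a := algebraMap K Q (ε a) + n • (a - algebraMap K Q (ε a))
  map_one' := by simp
  map_mul' a b := by
    have h := hε (a - algebraMap K Q (ε a)) (b - algebraMap K Q (ε b)) (by simp) (by simp)
    simp only [map_mul, nsmul_eq_mul]
    linear_combination (n - n ^ 2 : Q) * h
  map_zero' := by simp
  map_add' a b := by
    simp only [map_add, nsmul_eq_mul]
    ring
  commutes' c := by simp

theorem mulMap_apply (n : ℕ) (a : Q) :
    mulMap ε hε n a = algebraMap K Q (ε a) + n • (a - algebraMap K Q (ε a)) := rfl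

/-- The fibre product `Q ×_K Q`. -/
abbrev Q2 : Subalgebra K (Q × Q) :=
  AlgHom.equalizer (ε.comp (AlgHom.fst K Q Q)) (ε.comp (AlgHom.snd K Q Q))

/-- Pairs of algebra maps with the same augmentation. -/
def pair (φ ψ : Q →ₐ[K] Q) (h : ∀ a, ε (φ a) = ε (ψ a)) : Q →ₐ[K] Q2 ε :=
  (φ.prod ψ).codRestrict _ fun a => h a

def p1 : Q2 ε →ₐ[K] Q := (AlgHom.fst K Q Q).comp (Q2 ε).val

def p2 : Q2 ε →ₐ[K] Q := (AlgHom.snd K Q Q).comp (Q2 ε).val

/-- Addition `Q ×_K Q → Q`. -/
def sumMap : Q2 ε →ₐ[K] Q where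
  toFun z := z.1.1 + z.1.2 - algebraMap K Q (ε z.1.1)
  map_one' := by simp
  map_mul' a b := by
    have ha : ε a.1.1 = ε a.1.2 := a.2
    have hb : ε b.1.1 = ε b.1.2 := b.2
    have h1 := hε (a.1.1 - algebraMap K Q (ε a.1.1)) (b.1.2 - algebraMap K Q (ε b.1.1))
      (by simp) (by simp [hb])
    have h2 := hε (a.1.2 - algebraMap K Q (ε a.1.1)) (b.1.1 - algebraMap K Q (ε b.1.1))
      (by simp [ha]) (by simp)
    simp only [MulMemClass.coe_mul, Prod.fst_mul, Prod.snd_mul, map_mul]
    linear_combination - h1 - h2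
  map_zero' := by simp
  map_add' a b := by
    simp only [AddMemClass.coe_add, Prod.fst_add, Prod.snd_add, map_add]
    ring
  commutes' c := by simp

theorem sumMap_comp_pair (φ ψ : Q →ₐ[K] Q) (h : ∀ a, ε (φ a) = ε (ψ a)) (a : Q) :
    sumMap ε hε (pair ε φ ψ h a) = φ a + ψ a - algebraMap K Q (ε (φ a)) := rfl

end Algebra

section Spec

variable {K : Type u} [Field K]

/-- The spectrum of a `K`-algebra as a scheme over `Spec K`. -/
noncomputable abbrev Sp (K : Type u) [Field K] (Q : Type u) [CommRing Q] [Algebra K Q] :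
    Over (Spec (CommRingCat.of K)) :=
  Over.mk (Spec.map (CommRingCat.ofHom (algebraMap K Q)))

noncomputable def SpMap {Q Q' : Type u} [CommRing Q] [Algebra K Q] [CommRing Q'] [Algebra K Q']
    (φ : Q →ₐ[K] Q') : Sp K Q' ⟶ Sp K Q :=
  Over.homMk (Spec.map (CommRingCat.ofHom φ.toRingHom)) (by
    simp only [Over.mk_left, Over.mk_hom]
    rw [← Spec.map_comp, ← CommRingCat.ofHom_comp]
    congr 2
    exact φ.comp_algebraMap)

theorem SpMap_id {Q : Type u} [CommRing Q] [Algebra K Q] : SpMap (AlgHom.id K Q) = 𝟙 _ := by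
  ext1
  exact Spec.map_id _

theorem SpMap_comp {Q Q' Q'' : Type u} [CommRing Q] [Algebra K Q] [CommRing Q'] [Algebra K Q']
    [CommRing Q''] [Algebra K Q''] (φ : Q →ₐ[K] Q') (ψ : Q' →ₐ[K] Q'') :
    SpMap (ψ.comp φ) = SpMap ψ ≫ SpMap φ := by
  ext1
  exact Spec.map_comp (CommRingCat.ofHom φ.toRingHom) (CommRingCat.ofHom ψ.toRingHom)

theorem sp_hom_ext (A : Over (Spec (CommRingCat.of K))) [IsSeparated A.hom] {Q : Type u}
    [CommRing Q] [Algebra K Q] (ε : Q →ₐ[K] K) (u v : Sp K (Q2 ε) ⟶ A)
    (h1 : SpMap (p1 ε) ≫ u = SpMap (p1 ε) ≫ v) (h2 : SpMap (p2 ε) ≫ u = SpMap (p2 ε) ≫ v) :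
    u = v := by
  let j : (Q2 ε) →+* Q × Q := (Q2 ε).subtype
  have hdom : IsSchemeTheoreticallyDominant (Spec.map (CommRingCat.ofHom j)) := by
    have hinj : Function.Injective j := Subtype.val_injective
    rw [isSchemeTheoreticallyDominant_iff, Scheme.ker_of_isAffine]
    have h3 : RingHom.ker (Spec.map (CommRingCat.ofHom j)).appTop.hom = ⊥ := by
      rw [← RingHom.injective_iff_ker_eq_bot]
      have h4 := Scheme.ΓSpecIso_naturality (CommRingCat.ofHom j)
      have h5 : (Spec.map (CommRingCat.ofHom j)).appTop =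
        (Scheme.ΓSpecIso _).hom ≫ CommRingCat.ofHom j ≫ (Scheme.ΓSpecIso _).inv := by
          rw [← Category.assoc, ← h4, Category.assoc, Iso.hom_inv_id, Category.comp_id]
      rw [h5]
      intro x y hxy
      simp only [CommRingCat.hom_comp, RingHom.comp_apply] at hxy
      have h6 := (ConcreteCategory.bijective_of_isIso (Scheme.ΓSpecIso
        (CommRingCat.of (Q × Q))).inv).1 hxy
      exact (ConcreteCategory.bijective_of_isIso (Scheme.ΓSpecIso
        (CommRingCat.of (Q2 ε))).hom).1 (hinj h6)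
    rw [h3]
    apply Scheme.IdealSheafData.ext_of_isAffine
    simp [Ideal.map_bot]
  ext1
  refine ext_of_isSchemeTheoreticallyDominant A.hom
    ((Over.w u).trans (Over.w v).symm) (Spec.map (CommRingCat.ofHom j)) ?_
  rw [← cancel_epi (coprodSpec Q Q)]
  apply coprod.hom_ext
  · rw [coprodSpec_inl_assoc, coprodSpec_inl_assoc, ← Category.assoc, ← Category.assoc,
      ← Spec.map_comp]
    exact congr(($h1).left)
  · rw [coprodSpec_inr_assoc, coprodSpec_inr_assoc, ← Category.assoc, ← Category.assoc,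
      ← Spec.map_comp]
    exact congr(($h2).left)

/-- The `n`-th power of a tangent vector `t` at the identity (or more generally of a `Q`-valued
point reducing to the identity, `Q` a square-zero augmented `K`-algebra) is the
composite of `t` with the endomorphism `c + x ↦ c + n x` of `Q`. -/
theorem mulMap_comp (A : Over (Spec (CommRingCat.of K))) [GrpObj A] [IsSeparated A.hom]
    {Q : Type u} [CommRing Q] [Algebra K Q] (ε : Q →ₐ[K] K)
    (hε : ∀ x y, ε x = 0 → ε y = 0 → x * y = 0) (t : Sp K Q ⟶ A) (ht : SpMap ε ≫ t = 1) (n : ℕ) :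
    SpMap (mulMap ε hε n) ≫ t = t ^ n := by
  have h0 : SpMap (mulMap ε hε 0) ≫ t = 1 := by
    have h1 : mulMap ε hε 0 = (Algebra.ofId K Q).comp ε := by
      ext a
      simp [mulMap_apply, Algebra.ofId_apply]
    rw [h1, SpMap_comp, Category.assoc, ht, MonObj.comp_one]
  induction n with
  | zero => rw [h0, _root_.pow_zero]
  | succ n ih =>
    have hp : ∀ a, ε (mulMap ε hε n a) = ε (AlgHom.id K Q a) := by
      intro a
      simp [mulMap_apply]
    have hi1 : ∀ a, ε (AlgHom.id K Q a) = ε (mulMap ε hε 0 a) := by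
      intro a
      simp [mulMap_apply]
    have h2 : mulMap ε hε (n + 1) =
        (sumMap ε hε).comp (pair ε (mulMap ε hε n) (AlgHom.id K Q) hp) := by
      ext a
      rw [AlgHom.comp_apply, sumMap_comp_pair, hp]
      simp [mulMap_apply]
      ring
    let i1 : Q →ₐ[K] Q2 ε := pair ε (AlgHom.id K Q) (mulMap ε hε 0) hi1
    let i2 : Q →ₐ[K] Q2 ε := pair ε (mulMap ε hε 0) (AlgHom.id K Q) (fun a => (hi1 a).symm)
    have hu : SpMap (pair ε (mulMap ε hε n) (AlgHom.id K Q) hp) ≫ t =
        (SpMap i1 ≫ (t ^ n)) * (SpMap i2 ≫ t) := by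
      apply sp_hom_ext A ε
      · rw [MonObj.comp_mul, ← Category.assoc, ← Category.assoc, ← Category.assoc, ← SpMap_comp,
          ← SpMap_comp, ← SpMap_comp]
        have e1 : (p1 ε).comp (pair ε (mulMap ε hε n) (AlgHom.id K Q) hp) = mulMap ε hε n := rfl
        have e2 : (p1 ε).comp i1 = AlgHom.id K Q := rfl
        have e3 : (p1 ε).comp i2 = mulMap ε hε 0 := rfl
        rw [e1, e2, e3, ih, SpMap_id, Category.id_comp, h0, _root_.mul_one]
      · rw [MonObj.comp_mul, ← Category.assoc, ← Category.assoc, ← Category.assoc, ← SpMap_comp,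
          ← SpMap_comp, ← SpMap_comp]
        have e1 : (p2 ε).comp (pair ε (mulMap ε hε n) (AlgHom.id K Q) hp) = AlgHom.id K Q := rfl
        have e2 : (p2 ε).comp i1 = mulMap ε hε 0 := rfl
        have e3 : (p2 ε).comp i2 = AlgHom.id K Q := rfl
        rw [e1, e2, e3, MonObj.comp_pow, h0, SpMap_id, Category.id_comp, _root_.one_pow,
          _root_.one_mul]
    rw [h2, SpMap_comp, Category.assoc, hu, MonObj.comp_mul, ← Category.assoc, ← Category.assoc,
      ← SpMap_comp, ← SpMap_comp]
    have e1 : (sumMap ε hε).comp i1 = AlgHom.id K Q := by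
      ext a
      rw [AlgHom.comp_apply]
      change sumMap ε hε (pair ε _ _ _ a) = _
      rw [sumMap_comp_pair]
      simp [mulMap_apply]
    have e2 : (sumMap ε hε).comp i2 = AlgHom.id K Q := by
      ext a
      rw [AlgHom.comp_apply]
      change sumMap ε hε (pair ε _ _ _ a) = _
      rw [sumMap_comp_pair]
      simp [mulMap_apply]
    rw [e1, e2, SpMap_id, Category.id_comp, Category.id_comp, _root_.pow_succ]

/-- If `n = 0` in `K` then every tangent vector at the identity is killed by `n`. -/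
theorem pow_eq_one (A : Over (Spec (CommRingCat.of K))) [GrpObj A] [IsSeparated A.hom]
    {Q : Type u} [CommRing Q] [Algebra K Q] (ε : Q →ₐ[K] K)
    (hε : ∀ x y, ε x = 0 → ε y = 0 → x * y = 0) (t : Sp K Q ⟶ A) (ht : SpMap ε ≫ t = 1) (n : ℕ)
    (hn : (n : K) = 0) : t ^ n = 1 := by
  have h1 : mulMap ε hε n = mulMap ε hε 0 := by
    ext a
    have : (n : Q) = 0 := by
      rw [← map_natCast (algebraMap K Q), hn, map_zero]
    simp [mulMap_apply, this]
  rw [← mulMap_comp A ε hε t ht n, h1, mulMap_comp A ε hε t ht 0, _root_.pow_zero]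

end Spec

end Groth.Agent.Grpsch.Cotangent
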