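import Mathlib.RingTheory.Flat.Basic
import Mathlib.RingTheory.LocalRing.ResidueField.Basic
import Mathlib.LinearAlgebra.TensorProduct.RightExactness
import Mathlib.LinearAlgebra.Basis.VectorSpace
import Mathlib.LinearAlgebra.DirectSum.Finsupp
import Mathlib.RingTheory.LocalRing.MaximalIdeal.Basic
import Mathlib.Algebra.Module.Torsion.Basic

/-!
# Algebra for the theorem of the cube (deformation step)

`A` local ring, `ε : A` with annihilator the maximal ideal.
-/

set_option autoImplicit false
universe u v w u'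

open TensorProduct IsLocalRing

namespace Groth.Agent.Grpsch.CubeAlg

variable {A : Type u} [CommRing A] [IsLocalRing A] (ε : A)
  (hε : ∀ a : A, a * ε = 0 ↔ a ∈ maximalIdeal A)

include hε in
lemma smul_eq_zero_of_mem {R : Type v} [AddCommGroup R] [Module A R]
    (r : R) (hr : r ∈ maximalIdeal A • (⊤ : Submodule A R)) : ε • r = 0 := by
  refine Submodule.smul_induction_on hr (fun a ha n _ => ?_) (fun x y hx hy => ?_)
  · rw [smul_smul, mul_comm, (hε a).mpr ha, zero_smul]
  · rw [smul_add, hx, hy, add_zero]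

include hε in
/-- If `R` is flat over `A` and `ε • r = 0` then `r ∈ 𝔪 R`. -/
lemma mem_smul_top_of_smul_eq_zero {R : Type v} [AddCommGroup R] [Module A R] [Module.Flat A R]
    (r : R) (hr : ε • r = 0) : r ∈ maximalIdeal A • (⊤ : Submodule A R) := by
  have hex : Function.Exact (maximalIdeal A).subtype (LinearMap.lsmul A A ε) := by
    intro a
    simp only [LinearMap.lsmul_apply, smul_eq_mul, Submodule.coe_subtype, Subtype.range_coe_subtype,
      SetLike.setOfPred_mem_eq, SetLike.mem_coe]
    rw [mul_comm, hε]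
  have h1 := (Module.Flat.lTensor_exact R hex (r ⊗ₜ 1)).mp (by
    rw [LinearMap.lTensor_tmul]
    simp only [LinearMap.lsmul_apply, smul_eq_mul, mul_one]
    rw [← mul_one ε, ← smul_eq_mul, ← TensorProduct.smul_tmul, hr, TensorProduct.zero_tmul])
  obtain ⟨z, hz⟩ := h1
  have h2 : r = TensorProduct.rid A R ((maximalIdeal A).subtype.lTensor R z) := by
    rw [hz]; simp
  rw [h2]
  clear hz h2
  induction z with
  | zero => simp
  | tmul x y =>
    rw [LinearMap.lTensor_tmul, TensorProduct.rid_tmul]
    exact Submodule.smul_mem_smul y.2 trivial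
  | add x y hx hy => rw [map_add, map_add]; exact Submodule.add_mem _ hx hy

include hε in
lemma smul_eq_zero_iff {R : Type v} [AddCommGroup R] [Module A R] [Module.Flat A R] (r : R) :
    ε • r = 0 ↔ r ∈ maximalIdeal A • (⊤ : Submodule A R) :=
  ⟨mem_smul_top_of_smul_eq_zero ε hε r, smul_eq_zero_of_mem ε hε r⟩

include hε in
/-- An element of `B ⊗ N` (`N` killed by `𝔪`, `B` flat) all of whose images under functionals with
values in `A ε` vanish, vanishes. -/
lemma eq_zero_of_forall {N : Type w} [AddCommGroup N] [Module A N]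
    (hN : Module.IsTorsionBySet A N (maximalIdeal A)) {B : Type v} [AddCommGroup B] [Module A B]
    [Module.Flat A B] (t : B ⊗[A] N)
    (h : ∀ μ : N →ₗ[A] A, (∀ m, ∃ a, μ m = a * ε) →
      (TensorProduct.rid A B) (μ.lTensor B t) = 0) : t = 0 := by
  classical
  let _ := hN.module
  have : IsScalarTower A (A ⧸ maximalIdeal A) N := hN.isScalarTower
  let _ : Field (A ⧸ maximalIdeal A) := Ideal.Quotient.field _
  let b := Module.Basis.ofVectorSpace (A ⧸ maximalIdeal A) N
  set ι := Module.Basis.ofVectorSpaceIndex (A ⧸ maximalIdeal A) N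
  let g : (ι →₀ A) →ₗ[A] N := Finsupp.linearCombination A b
  have hg : Function.Surjective g := by
    intro n
    have h1 := b.linearCombination_repr n
    choose f hf using fun c : A ⧸ maximalIdeal A => Ideal.Quotient.mk_surjective c
    refine ⟨(b.repr n).mapRange (fun c => if c = 0 then 0 else f c) (by simp), ?_⟩
    simp only [g]
    rw [Finsupp.linearCombination_apply, Finsupp.sum_mapRange_index (by simp)]
    conv_rhs => rw [← h1, Finsupp.linearCombination_apply]
    refine Finsupp.sum_congr fun i hi => ?_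
    rw [if_neg (by simpa using hi)]
    conv_rhs => rw [← hf (b.repr n i)]
    rfl
  obtain ⟨z, rfl⟩ := LinearMap.lTensor_surjective B hg t
  obtain ⟨y, rfl⟩ := (finsuppScalarRight A A B ι).symm.surjective z
  -- the functionals
  let q : (A ⧸ maximalIdeal A) →ₗ[A] A :=
    Submodule.liftQ (maximalIdeal A) (LinearMap.toSpanSingleton A A ε) (by
      intro a ha
      rw [LinearMap.mem_ker, LinearMap.toSpanSingleton_apply, smul_eq_mul]
      exact (hε a).mpr ha)
  let μ : ι → (N →ₗ[A] A) := fun s => q ∘ₗ (b.coord s).restrictScalars A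
  have hμ : ∀ s m, ∃ a, μ s m = a * ε := by
    intro s m
    obtain ⟨a, ha⟩ := Ideal.Quotient.mk_surjective (b.coord s m)
    refine ⟨a, ?_⟩
    change q (b.coord s m) = _
    rw [← ha]
    rfl
  have hμb : ∀ s s', μ s (b s') = if s' = s then ε else 0 := by
    intro s s'
    change q (b.coord s (b s')) = _
    rw [Module.Basis.coord_apply, Module.Basis.repr_self, Finsupp.single_apply]
    split_ifs
    · change q (Ideal.Quotient.mk _ 1) = _
      change (1 : A) • ε = ε
      rw [one_smul]
    · exact map_zero q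
  have key : ∀ (y : ι →₀ B) (s : ι), (TensorProduct.rid A B) ((μ s).lTensor B
      (g.lTensor B ((finsuppScalarRight A A B ι).symm y))) = ε • y s := by
    intro y s
    induction y using Finsupp.induction_linear with
    | zero => simp
    | add x y hx hy => simp only [map_add, hx, hy, Finsupp.add_apply, smul_add]
    | single i c =>
      rw [finsuppScalarRight_symm_apply_single, LinearMap.lTensor_tmul, LinearMap.lTensor_tmul]
      simp only [g, Finsupp.linearCombination_single, one_smul, hμb, TensorProduct.rid_tmul,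
        Finsupp.single_apply]
      split_ifs <;> simp
  have hy : ∀ s, y s ∈ maximalIdeal A • (⊤ : Submodule A B) := fun s =>
    mem_smul_top_of_smul_eq_zero ε hε _ ((key y s).symm.trans (h (μ s) (hμ s)))
  have htors : ∀ (c : B) (n : N), c ∈ maximalIdeal A • (⊤ : Submodule A B) →
      c ⊗ₜ[A] n = 0 := by
    intro c n hc
    refine Submodule.smul_induction_on hc (fun a ha m _ => ?_) (fun x y hx hy => ?_)
    · rw [TensorProduct.smul_tmul]
      have : a • n = 0 := @hN n ⟨a, ha⟩
      rw [this, TensorProduct.tmul_zero]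
    · rw [TensorProduct.add_tmul, hx, hy, add_zero]
  rw [← y.sum_single, Finsupp.sum, map_sum, map_sum]
  refine Finset.sum_eq_zero fun s _ => ?_
  rw [finsuppScalarRight_symm_apply_single, LinearMap.lTensor_tmul]
  exact htors _ _ (hy s)

include hε in
/-- Main algebraic lemma. -/
lemma exists_smul_eq {M₁ : Type v} {M₂ : Type w} [AddCommGroup M₁] [Module A M₁]
    [AddCommGroup M₂] [Module A M₂]
    (δ : M₁ →ₗ[A] M₂) {B : Type u'} [AddCommGroup B] [Module A B] [Module.Flat A B]
    (t : B ⊗[A] M₂)
    (h : ∀ μ : M₂ →ₗ[A] A, μ ∘ₗ δ = 0 → (∀ m, ∃ a, μ m = a * ε) →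
      (TensorProduct.rid A B) (μ.lTensor B t) = 0) :
    ∃ b : B ⊗[A] M₁, ε • t = ε • (δ.lTensor B b) := by
  set K : Submodule A M₂ := LinearMap.range δ ⊔ maximalIdeal A • (⊤ : Submodule A M₂) with hK
  have hN : Module.IsTorsionBySet A (M₂ ⧸ K) (maximalIdeal A) := by
    intro n a
    obtain ⟨m, rfl⟩ := K.mkQ_surjective n
    have : (a : A) • m ∈ K := Submodule.mem_sup_right (Submodule.smul_mem_smul a.2 trivial)
    change (a : A) • K.mkQ m = 0
    rw [← map_smul]
    exact (Submodule.Quotient.mk_eq_zero K).mpr this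
  have h0 : K.mkQ.lTensor B t = 0 := by
    refine eq_zero_of_forall ε hε hN _ fun μ hμ => ?_
    have := h (μ ∘ₗ K.mkQ) (by
      ext m
      have h1 : K.mkQ (δ m) = 0 := by
        simpa using (Submodule.mem_sup_left (LinearMap.mem_range_self δ m) : δ m ∈ K)
      simp only [LinearMap.comp_apply, h1, map_zero, LinearMap.zero_apply]) (fun m => hμ _)
    rwa [LinearMap.lTensor_comp, LinearMap.comp_apply] at this
  have hex : Function.Exact (K.subtype.lTensor B) (K.mkQ.lTensor B) :=
    lTensor_exact B (LinearMap.exact_subtype_mkQ K) K.mkQ_surjective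
  obtain ⟨z, rfl⟩ := (hex t).mp h0
  clear h0 h
  induction z with
  | zero => exact ⟨0, by simp⟩
  | tmul x y =>
    obtain ⟨y, hy⟩ := y
    obtain ⟨_, ⟨m, rfl⟩, n, hn, rfl⟩ := Submodule.mem_sup.mp hy
    refine ⟨x ⊗ₜ m, ?_⟩
    rw [LinearMap.lTensor_tmul, LinearMap.lTensor_tmul, Submodule.subtype_apply,
      TensorProduct.tmul_add, smul_add]
    have : ε • (x ⊗ₜ[A] n) = 0 := by
      rw [← TensorProduct.tmul_smul, smul_eq_zero_of_mem ε hε n hn, TensorProduct.tmul_zero]
    rw [this, add_zero]
  | add x y hx hy =>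
    obtain ⟨a, ha⟩ := hx
    obtain ⟨b, hb⟩ := hy
    exact ⟨a + b, by rw [map_add, map_add, smul_add, smul_add, ha, hb]⟩

end Groth.Agent.Grpsch.CubeAlg
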