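import Groth.Agent.Grpsch.CubeSec
import Mathlib.LinearAlgebra.TensorProduct.Pi

/-!
# The cocycle lemma for the theorem of the cube
-/

set_option autoImplicit false
universe u v w u'

open AlgebraicGeometry CategoryTheory Limits TensorProduct IsLocalRing

namespace Groth.Agent.Grpsch.CubeCocycle

section Algebra

variable {R : Type u} [CommRing R]

lemma pi_bijective {κ : Type v} [Finite κ] {B : Type w} [AddCommGroup B] [Module R B]
    (N : κ → Type u') [∀ k, AddCommGroup (N k)] [∀ k, Module R (N k)]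
    (C : κ → Type*) [∀ k, AddCommGroup (C k)] [∀ k, Module R (C k)]
    (m : ∀ k, B ⊗[R] N k →ₗ[R] C k) (hm : ∀ k, Function.Bijective (m k)) :
    Function.Bijective (fun (t : B ⊗[R] (∀ k, N k)) (k : κ) =>
      m k ((LinearMap.proj k).lTensor B t)) := by
  classical
  have := Fintype.ofFinite κ
  have h1 : (fun (t : B ⊗[R] (∀ k, N k)) (k : κ) => m k ((LinearMap.proj k).lTensor B t)) =
      (fun (z : ∀ k, B ⊗[R] N k) (k : κ) => m k (z k)) ∘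
        (TensorProduct.piRight R R B N) := by
    funext t
    funext k
    simp only [Function.comp_apply]
    congr 1
    induction t with
    | zero => simp
    | tmul x y => simp
    | add x y hx hy => rw [map_add, hx, hy, map_add]; rfl
  rw [h1]
  refine Function.Bijective.comp ?_ (TensorProduct.piRight R R B N).bijective
  exact Function.Bijective.piMap hm

/-- `b ⊗ m ↦ μ m • b`. -/
noncomputable def Fun {M : Type w} [AddCommGroup M] [Module R M] (B : Type v) [AddCommGroup B]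
    [Module R B] (μ : M →ₗ[R] R) : B ⊗[R] M →ₗ[R] B :=
  (TensorProduct.rid R B).toLinearMap ∘ₗ μ.lTensor B

lemma Fun_tmul {M : Type w} [AddCommGroup M] [Module R M] {B : Type v} [AddCommGroup B]
    [Module R B] (μ : M →ₗ[R] R) (b : B) (m : M) : Fun B μ (b ⊗ₜ m) = μ m • b := by
  simp [Fun]

variable [IsLocalRing R] (ε : R) (hε : ∀ a : R, a * ε = 0 ↔ a ∈ maximalIdeal R)

include hε in
lemma Fun_eq_zero {M : Type w} [AddCommGroup M] [Module R M] {B : Type v} [AddCommGroup B]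
    [Module R B] (μ : M →ₗ[R] R) (hμ : ∀ m, ∃ a, μ m = a * ε) [Module.Flat R (B ⊗[R] M)]
    (t : B ⊗[R] M) (ht : ε • t = 0) : Fun B μ t = 0 := by
  have h1 : ∀ t : B ⊗[R] M, ∃ b : B, Fun B μ t = ε • b := by
    intro t
    induction t with
    | zero => exact ⟨0, by simp⟩
    | tmul x y =>
      obtain ⟨a, ha⟩ := hμ y
      exact ⟨a • x, by rw [Fun_tmul, ha, smul_smul, mul_comm]⟩
    | add x y hx hy =>
      obtain ⟨a, ha⟩ := hx
      obtain ⟨b, hb⟩ := hy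
      exact ⟨a + b, by rw [map_add, ha, hb, smul_add]⟩
  refine Submodule.smul_induction_on
    (CubeAlg.mem_smul_top_of_smul_eq_zero ε hε t ht) (fun a ha n _ => ?_) (fun x y hx hy => ?_)
  · obtain ⟨b, hb⟩ := h1 n
    rw [map_smul, hb, smul_smul, (hε a).mpr ha, zero_smul]
  · rw [map_add, hx, hy, add_zero]

include hε in
lemma map_eq_zero {M : Type w} [AddCommGroup M] [Module R M]
    (μ : M →ₗ[R] R) (hμ : ∀ m, ∃ a, μ m = a * ε) [Module.Flat R M]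
    (t : M) (ht : ε • t = 0) : μ t = 0 := by
  refine Submodule.smul_induction_on
    (CubeAlg.mem_smul_top_of_smul_eq_zero ε hε t ht) (fun a ha n _ => ?_) (fun x y hx hy => ?_)
  · obtain ⟨b, hb⟩ := hμ n
    rw [map_smul, hb, smul_eq_mul, mul_left_comm, (hε a).mpr ha, mul_zero]
  · rw [map_add, hx, hy, add_zero]

end Algebra

open CubeSec

variable {S X Y P : Scheme.{u}}

lemma sec_glue (f : X ⟶ S) {ι : Type*} (U : ι → X.Opens) (hU : ⨆ i, U i = ⊤)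
    (s : ∀ i, Sec f (U i))
    (h : ∀ i k, res f (inf_le_left : U i ⊓ U k ≤ U i) (s i) = res f inf_le_right (s k)) :
    ∃ t : Sec f ⊤, ∀ i, res f le_top t = s i :=
  (TopCat.Sheaf.existsUnique_gluing' X.sheaf U ⊤
    (fun _ => homOfLE le_top) hU.ge s (by intro i k; exact h i k)).exists

variable {q₁ : P ⟶ X} {q₂ : P ⟶ Y} {pX : X ⟶ S} {pY : Y ⟶ S} {p : P ⟶ S}
  (h₁ : q₁ ≫ pX = p) (h₂ : q₂ ≫ pY = p)

lemma inf_mono_left {U U' : X.Opens} (V : Y.Opens) (h : U' ≤ U) :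
    q₁ ⁻¹ᵁ U' ⊓ q₂ ⁻¹ᵁ V ≤ q₁ ⁻¹ᵁ U ⊓ q₂ ⁻¹ᵁ V :=
  inf_le_inf_right _ (q₁.preimage_mono h)

lemma inf_mono_right (U : X.Opens) {V V' : Y.Opens} (h : V' ≤ V) :
    q₁ ⁻¹ᵁ U ⊓ q₂ ⁻¹ᵁ V' ≤ q₁ ⁻¹ᵁ U ⊓ q₂ ⁻¹ᵁ V :=
  inf_le_inf_left _ (q₂.preimage_mono h)

/-- The external product `Sec U ⊗ Sec V → Sec (q₁⁻¹ U ∩ q₂⁻¹ V)`. -/
noncomputable abbrev mm (U : X.Opens) (V : Y.Opens) :
    Sec pX U ⊗[Γ(S, ⊤)] Sec pY V →ₗ[Γ(S, ⊤)] Sec p (q₁ ⁻¹ᵁ U ⊓ q₂ ⁻¹ᵁ V) :=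
  (mul q₁ q₂ h₁ h₂ (U := U) (V := V) inf_le_left inf_le_right).toLinearMap

lemma mm_tmul (U : X.Opens) (V : Y.Opens) (a : Sec pX U) (b : Sec pY V) :
    mm h₁ h₂ U V (a ⊗ₜ b) = pull q₁ h₁ inf_le_left a * pull q₂ h₂ inf_le_right b := rfl

lemma res_mm_left {U U' : X.Opens} (V : Y.Opens) (h : U' ≤ U) (t : Sec pX U ⊗[Γ(S, ⊤)] Sec pY V) :
    res p (inf_mono_left V h) (mm h₁ h₂ U V t) =
      mm h₁ h₂ U' V ((res pX h).toLinearMap.rTensor _ t) := by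
  induction t with
  | zero => simp
  | tmul x y =>
    rw [LinearMap.rTensor_tmul, mm_tmul, mm_tmul, map_mul, res_pull, res_pull,
      AlgHom.toLinearMap_apply, pull_res]
  | add x y hx hy => rw [map_add, map_add, map_add, map_add, hx, hy]

lemma res_mm_right (U : X.Opens) {V V' : Y.Opens} (h : V' ≤ V)
    (t : Sec pX U ⊗[Γ(S, ⊤)] Sec pY V) :
    res p (inf_mono_right U h) (mm h₁ h₂ U V t) =
      mm h₁ h₂ U V' ((res pY h).toLinearMap.lTensor _ t) := by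
  induction t with
  | zero => simp
  | tmul x y =>
    rw [LinearMap.lTensor_tmul, mm_tmul, mm_tmul, map_mul, res_pull, res_pull,
      AlgHom.toLinearMap_apply, pull_res]
  | add x y hx hy => rw [map_add, map_add, map_add, map_add, hx, hy]

lemma res_Fun {M : Type w} [AddCommGroup M] [Module Γ(S, ⊤) M] (μ : M →ₗ[Γ(S, ⊤)] Γ(S, ⊤))
    {U U' : X.Opens} (h : U' ≤ U) (t : Sec pX U ⊗[Γ(S, ⊤)] M) :
    res pX h (Fun _ μ t) = Fun _ μ ((res pX h).toLinearMap.rTensor M t) := by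
  induction t with
  | zero => simp
  | tmul x y => rw [LinearMap.rTensor_tmul, Fun_tmul, Fun_tmul, map_smul]; rfl
  | add x y hx hy => rw [map_add, map_add, map_add, map_add, hx, hy]

/-- Evaluation along a section of `pX`. -/
noncomputable def ev {x : S ⟶ X} (hx : x ≫ pX = 𝟙 S) {U : X.Opens} (hxU : ⊤ ≤ x ⁻¹ᵁ U) :
    Sec pX U →ₐ[Γ(S, ⊤)] Γ(S, ⊤) :=
  { ((x.appLE U ⊤ hxU).hom : Γ(X, U) →+* Γ(S, ⊤)) with
    commutes' := fun r => by
      have h1 := Scheme.Hom.appLE_comp_appLE x pX ⊤ U ⊤ le_top hxU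
      have h2 : (x ≫ pX).appLE ⊤ ⊤ (hxU.trans (x.preimage_mono le_top)) = 𝟙 _ := by
        rw! [hx]
        simp only [Scheme.Hom.appLE, Scheme.Hom.id_app]
        exact S.presheaf.map_id _
      exact congr(($(h1.trans h2)).hom r) }

lemma ev_res {x : S ⟶ X} (hx : x ≫ pX = 𝟙 S) {U U' : X.Opens} (h : U' ≤ U)
    (hxU : ⊤ ≤ x ⁻¹ᵁ U') (a : Sec pX U) :
    ev hx hxU (res pX h a) = ev hx (hxU.trans (x.preimage_mono h)) a :=
  congr(($(Scheme.Hom.map_appLE x (U := U') (U' := U) (V := ⊤) hxU (homOfLE h).op)).hom a)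

/-- The linear map `Sec pX U ⊗ M → M` given by evaluation along a section. -/
noncomputable def theta {M : Type w} [AddCommGroup M] [Module Γ(S, ⊤) M] {x : S ⟶ X}
    (hx : x ≫ pX = 𝟙 S) {U : X.Opens} (hxU : ⊤ ≤ x ⁻¹ᵁ U) :
    Sec pX U ⊗[Γ(S, ⊤)] M →ₗ[Γ(S, ⊤)] M :=
  (TensorProduct.lid Γ(S, ⊤) M).toLinearMap ∘ₗ (ev hx hxU).toLinearMap.rTensor M

lemma theta_tmul {M : Type w} [AddCommGroup M] [Module Γ(S, ⊤) M] {x : S ⟶ X}
    (hx : x ≫ pX = 𝟙 S) {U : X.Opens} (hxU : ⊤ ≤ x ⁻¹ᵁ U) (a : Sec pX U) (m : M) :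
    theta hx hxU (a ⊗ₜ m) = ev hx hxU a • m := by
  simp [theta]

lemma ev_Fun {M : Type w} [AddCommGroup M] [Module Γ(S, ⊤) M] (μ : M →ₗ[Γ(S, ⊤)] Γ(S, ⊤))
    {x : S ⟶ X} (hx : x ≫ pX = 𝟙 S) {U : X.Opens} (hxU : ⊤ ≤ x ⁻¹ᵁ U)
    (t : Sec pX U ⊗[Γ(S, ⊤)] M) : ev hx hxU (Fun _ μ t) = μ (theta hx hxU t) := by
  induction t with
  | zero => simp
  | tmul a m =>
    rw [Fun_tmul, theta_tmul, map_smul, map_smul, smul_eq_mul, smul_eq_mul, mul_comm]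
  | add a b ha hb => rw [map_add, map_add, map_add, map_add, ha, hb]

lemma theta_lTensor {M : Type w} {N : Type u'} [AddCommGroup M] [Module Γ(S, ⊤) M] [AddCommGroup N]
    [Module Γ(S, ⊤) N] (φ : M →ₗ[Γ(S, ⊤)] N)
    {x : S ⟶ X} (hx : x ≫ pX = 𝟙 S) {U : X.Opens} (hxU : ⊤ ≤ x ⁻¹ᵁ U)
    (t : Sec pX U ⊗[Γ(S, ⊤)] M) : theta hx hxU (φ.lTensor _ t) = φ (theta hx hxU t) := by
  induction t with
  | zero => simp
  | tmul a m => rw [LinearMap.lTensor_tmul, theta_tmul, theta_tmul, map_smul]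
  | add a b ha hb => rw [map_add, map_add, map_add, map_add, ha, hb]

/-- Pullback along `s : Y ⟶ P`, the base change of the section `x`. -/
lemma pull_mm {x : S ⟶ X} (hx : x ≫ pX = 𝟙 S) {U : X.Opens} (hxU : ⊤ ≤ x ⁻¹ᵁ U) {V : Y.Opens}
    (s : Y ⟶ P) (hs₁ : s ≫ q₁ = pY ≫ x) (hs₂ : s ≫ q₂ = 𝟙 Y) (hs : s ≫ p = pY)
    (hV : V ≤ s ⁻¹ᵁ (q₁ ⁻¹ᵁ U ⊓ q₂ ⁻¹ᵁ V)) (t : Sec pX U ⊗[Γ(S, ⊤)] Sec pY V) :
    pull s hs hV (mm h₁ h₂ U V t) = theta hx hxU t := by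
  induction t with
  | zero => simp
  | tmul a m =>
    rw [mm_tmul, theta_tmul, map_mul, pull_pull, pull_pull, Algebra.smul_def]
    congr 1
    · -- the first factor
      have e1 := Scheme.Hom.appLE_comp_appLE pY x U ⊤ V hxU le_top
      have e2 : (s ≫ q₁).appLE U V (hV.trans (s.preimage_mono inf_le_left)) =
          (pY ≫ x).appLE U V (le_top.trans (pY.preimage_mono hxU)) := by
        congr 1
      exact congr(($(e2.trans e1.symm)).hom a)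
    · have e2 : (s ≫ q₂).appLE V V (hV.trans (s.preimage_mono inf_le_right)) = 𝟙 _ := by
        rw! [hs₂]
        simp only [Scheme.Hom.appLE, Scheme.Hom.id_app]
        exact Y.presheaf.map_id _
      exact congr(($e2).hom m)
  | add a b ha hb => rw [map_add, map_add, map_add, ha, hb]

section Main

variable {κ : Type v} (V : κ → Y.Opens)

/-- The coboundary `(b_j) ↦ (b_j - b_l)_{jl}`. -/
noncomputable def cobd (pY : Y ⟶ S) : (∀ j, Sec pY (V j)) →ₗ[Γ(S, ⊤)]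
    (∀ r : κ × κ, Sec pY (V r.1 ⊓ V r.2)) :=
  LinearMap.pi fun r =>
    (res pY (inf_le_left : V r.1 ⊓ V r.2 ≤ V r.1)).toLinearMap ∘ₗ LinearMap.proj r.1 -
    (res pY (inf_le_right : V r.1 ⊓ V r.2 ≤ V r.2)).toLinearMap ∘ₗ LinearMap.proj r.2

lemma proj_cobd (r : κ × κ) : LinearMap.proj r ∘ₗ cobd V pY =
    (res pY (inf_le_left : V r.1 ⊓ V r.2 ≤ V r.1)).toLinearMap ∘ₗ LinearMap.proj r.1 -
    (res pY (inf_le_right : V r.1 ⊓ V r.2 ≤ V r.2)).toLinearMap ∘ₗ LinearMap.proj r.2 := rfl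

lemma mm_cobd (U : X.Opens) (r : κ × κ) (t : Sec pX U ⊗[Γ(S, ⊤)] (∀ j, Sec pY (V j))) :
    mm h₁ h₂ U (V r.1 ⊓ V r.2) ((LinearMap.proj r).lTensor _ ((cobd V pY).lTensor _ t)) =
      res p (inf_mono_right U inf_le_left) (mm h₁ h₂ U (V r.1) ((LinearMap.proj r.1).lTensor _ t)) -
      res p (inf_mono_right U inf_le_right)
        (mm h₁ h₂ U (V r.2) ((LinearMap.proj r.2).lTensor _ t)) := by
  have h3 : (LinearMap.proj r).lTensor (Sec pX U) ((cobd V pY).lTensor _ t) =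
      (res pY (inf_le_left : V r.1 ⊓ V r.2 ≤ V r.1)).toLinearMap.lTensor _
        ((LinearMap.proj r.1).lTensor _ t) -
      (res pY (inf_le_right : V r.1 ⊓ V r.2 ≤ V r.2)).toLinearMap.lTensor _
        ((LinearMap.proj r.2).lTensor _ t) := by
    rw [← LinearMap.lTensor_comp_apply, ← LinearMap.lTensor_comp_apply,
      ← LinearMap.lTensor_comp_apply, ← LinearMap.sub_apply, ← LinearMap.lTensor_sub, proj_cobd]
  rw [h3, map_sub, res_mm_right, res_mm_right]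

omit h₁ h₂ in
lemma lTensor_rTensor_comm {R : Type u} [CommRing R] {A B : Type v} {M : Type w} {N : Type u'}
    [AddCommGroup A] [AddCommGroup B] [AddCommGroup M] [AddCommGroup N] [Module R A] [Module R B]
    [Module R M] [Module R N] (φ : A →ₗ[R] B) (ψ : M →ₗ[R] N) (t : A ⊗[R] M) :
    ψ.lTensor B (φ.rTensor M t) = φ.rTensor N (ψ.lTensor A t) := by
  induction t with
  | zero => simp
  | tmul a m => simp
  | add a b ha hb => rw [map_add, map_add, map_add, map_add, ha, hb]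

variable [IsAffine S] [IsLocalRing Γ(S, ⊤)] (ε : Γ(S, ⊤))
  (hε : ∀ a : Γ(S, ⊤), a * ε = 0 ↔ a ∈ maximalIdeal Γ(S, ⊤))

include hε h₁ h₂ in
theorem cocycle [Finite κ] (H : IsPullback q₁ q₂ pX pY) [Flat pX] [Flat pY] {ι : Type v}
    (U : ι → X.Opens) (hU : ∀ i, IsAffineOpen (U i)) (hV : ∀ j, IsAffineOpen (V j))
    (hUU : ∀ i k, IsAffineOpen (U i ⊓ U k)) (hVV : ∀ j l, IsAffineOpen (V j ⊓ V l))
    (hUtop : ⨆ i, U i = ⊤)
    (hX : Function.Surjective (algebraMap Γ(S, ⊤) (Sec pX ⊤)))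
    (c : ∀ (i : ι) (r : κ × κ), Sec p (q₁ ⁻¹ᵁ U i ⊓ q₂ ⁻¹ᵁ (V r.1 ⊓ V r.2)))
    (d : ∀ (i k : ι) (j : κ), Sec p (q₁ ⁻¹ᵁ (U i ⊓ U k) ⊓ q₂ ⁻¹ᵁ (V j)))
    (hcd : ∀ i k (r : κ × κ), ε • (res p (inf_mono_left _ inf_le_left) (c i r) -
      res p (inf_mono_left _ inf_le_right) (c k r) -
      (res p (inf_mono_right _ inf_le_left) (d i k r.1) -
        res p (inf_mono_right _ inf_le_right) (d i k r.2)) :
        Sec p (q₁ ⁻¹ᵁ (U i ⊓ U k) ⊓ q₂ ⁻¹ᵁ (V r.1 ⊓ V r.2))) = 0)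
    (x : S ⟶ X) (hx : x ≫ pX = 𝟙 S) (i₀ : ι) (hx₀ : ⊤ ≤ x ⁻¹ᵁ U i₀)
    (s : Y ⟶ P) (hs₁ : s ≫ q₁ = pY ≫ x) (hs₂ : s ≫ q₂ = 𝟙 Y) (hs : s ≫ p = pY)
    (hsV : ∀ r : κ × κ, V r.1 ⊓ V r.2 ≤ s ⁻¹ᵁ (q₁ ⁻¹ᵁ U i₀ ⊓ q₂ ⁻¹ᵁ (V r.1 ⊓ V r.2)))
    (b₀ : ∀ j, Sec pY (V j))
    (hb₀ : ∀ r : κ × κ, ε • (pull s hs (hsV r) (c i₀ r) -
      (res pY inf_le_left (b₀ r.1) - res pY inf_le_right (b₀ r.2))) = 0)
    (i : ι) : ∃ b : ∀ j, Sec p (q₁ ⁻¹ᵁ U i ⊓ q₂ ⁻¹ᵁ V j), ∀ r : κ × κ,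
      ε • (c i r - (res p (inf_mono_right _ inf_le_left) (b r.1) -
        res p (inf_mono_right _ inf_le_right) (b r.2))) = 0 := by
  classical
  have := Fintype.ofFinite κ
  have hmm : ∀ (U' : X.Opens) (V' : Y.Opens), IsAffineOpen U' → IsAffineOpen V' →
      Function.Bijective (mm h₁ h₂ U' V') := fun U' V' hU' hV' => mul_bijective q₁ q₂ h₁ h₂ H hU' hV'
  -- the two families of comparison maps
  have hT2 : ∀ U' : X.Opens, IsAffineOpen U' → Function.Bijective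
      (fun (t : Sec pX U' ⊗[Γ(S, ⊤)] (∀ r : κ × κ, Sec pY (V r.1 ⊓ V r.2))) (r : κ × κ) =>
        mm h₁ h₂ U' (V r.1 ⊓ V r.2) ((LinearMap.proj r).lTensor _ t)) := fun U' hU' =>
    pi_bijective (fun r : κ × κ => Sec pY (V r.1 ⊓ V r.2))
      (fun r => Sec p (q₁ ⁻¹ᵁ U' ⊓ q₂ ⁻¹ᵁ (V r.1 ⊓ V r.2))) _
      (fun r => hmm _ _ hU' (hVV r.1 r.2))
  have hT1 : ∀ U' : X.Opens, IsAffineOpen U' → Function.Bijective
      (fun (t : Sec pX U' ⊗[Γ(S, ⊤)] (∀ j : κ, Sec pY (V j))) (j : κ) =>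
        mm h₁ h₂ U' (V j) ((LinearMap.proj j).lTensor _ t)) := fun U' hU' =>
    pi_bijective (fun j : κ => Sec pY (V j))
      (fun j => Sec p (q₁ ⁻¹ᵁ U' ⊓ q₂ ⁻¹ᵁ (V j))) _ (fun j => hmm _ _ hU' (hV j))
  choose t ht using fun i => (hT2 (U i) (hU i)).2 (c i)
  choose t' ht' using fun i k => (hT1 (U i ⊓ U k) (hUU i k)).2 (d i k)
  replace ht : ∀ i r, mm h₁ h₂ (U i) (V r.1 ⊓ V r.2) ((LinearMap.proj r).lTensor _ (t i)) = c i r :=
    fun i r => congrFun (ht i) r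
  replace ht' : ∀ i k j, mm h₁ h₂ (U i ⊓ U k) (V j) ((LinearMap.proj j).lTensor _ (t' i k)) =
    d i k j := fun i k j => congrFun (ht' i k) j
  have hflatY : ∀ r : κ × κ, Module.Flat Γ(S, ⊤) (Sec pY (V r.1 ⊓ V r.2)) :=
    fun r => flat_sec pY (hVV _ _)
  have hflatM : Module.Flat Γ(S, ⊤) (∀ r : κ × κ, Sec pY (V r.1 ⊓ V r.2)) :=
    Module.Flat.of_linearEquiv (DirectSum.linearEquivFunOnFintype Γ(S, ⊤) (κ × κ)
      (fun r => Sec pY (V r.1 ⊓ V r.2))).symm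
  have key : ∀ μ : (∀ r : κ × κ, Sec pY (V r.1 ⊓ V r.2)) →ₗ[Γ(S, ⊤)] Γ(S, ⊤),
      μ ∘ₗ cobd V pY = 0 → (∀ m, ∃ a, μ m = a * ε) → ∀ i, Fun _ μ (t i) = 0 := by
    intro μ hμ hμε
    -- the functions glue
    have hcompat : ∀ i k, res pX (inf_le_left : U i ⊓ U k ≤ U i) (Fun _ μ (t i)) =
        res pX inf_le_right (Fun _ μ (t k)) := by
      intro i k
      rw [res_Fun, res_Fun]
      have hfl : Module.Flat Γ(S, ⊤) (Sec pX (U i ⊓ U k)) := flat_sec pX (hUU i k)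
      have h0 : ε • ((res pX (inf_le_left : U i ⊓ U k ≤ U i)).toLinearMap.rTensor _ (t i) -
          (res pX (inf_le_right : U i ⊓ U k ≤ U k)).toLinearMap.rTensor _ (t k) -
          (cobd V pY).lTensor _ (t' i k)) = 0 := by
        apply (hT2 (U i ⊓ U k) (hUU i k)).1
        funext r
        have h3 := hcd i k r
        rw [← ht i r, ← ht k r, ← ht' i k r.1, ← ht' i k r.2, res_mm_left, res_mm_left,
          ← mm_cobd, ← lTensor_rTensor_comm, ← lTensor_rTensor_comm] at h3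
        simpa only [map_smul, map_sub, map_zero] using h3
      have h1 := Fun_eq_zero ε hε μ hμε _ h0
      rw [map_sub, map_sub] at h1
      have h2 : Fun _ μ ((cobd V pY).lTensor (Sec pX (U i ⊓ U k)) (t' i k)) = 0 := by
        rw [Fun, LinearMap.comp_apply, ← LinearMap.comp_apply (μ.lTensor _),
          ← LinearMap.lTensor_comp, hμ]
        simp
      rw [h2, sub_zero, sub_eq_zero] at h1
      exact h1
    obtain ⟨f, hf⟩ := sec_glue pX U hUtop _ hcompat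
    obtain ⟨a, rfl⟩ := hX f
    have h3 : a = ev hx hx₀ (Fun _ μ (t i₀)) := by
      rw [← hf i₀, AlgHom.commutes, AlgHom.commutes]
      rfl
    have h4 : theta hx hx₀ (t i₀) = fun r => pull s hs (hsV r) (c i₀ r) := by
      funext r
      rw [← ht i₀ r, pull_mm h₁ h₂ hx hx₀ s hs₁ hs₂ hs, theta_lTensor]
      rfl
    have h5 : μ (theta hx hx₀ (t i₀)) = 0 := by
      have h6 : μ (theta hx hx₀ (t i₀) - cobd V pY b₀) = 0 := by
        refine map_eq_zero ε hε μ hμε _ ?_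
        funext r
        rw [h4]
        exact hb₀ r
      have h7 : μ (cobd V pY b₀) = 0 := congr($hμ b₀)
      rw [map_sub, h7, sub_zero] at h6
      exact h6
    have h8 : a = 0 := by rw [h3, ev_Fun, h5]
    intro i
    rw [← hf i, h8, map_zero, map_zero]
  have hfl : Module.Flat Γ(S, ⊤) (Sec pX (U i)) := flat_sec pX (hU i)
  obtain ⟨b, hb⟩ := CubeAlg.exists_smul_eq ε hε (cobd V pY) (t i) (fun μ h h' => key μ h h' i)
  refine ⟨fun j => mm h₁ h₂ (U i) (V j) ((LinearMap.proj j).lTensor _ b), fun r => ?_⟩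
  rw [← mm_cobd, ← ht i r, ← map_sub, ← map_sub, ← map_smul, ← map_smul, smul_sub, hb, sub_self,
    map_zero, map_zero]

end Main

end Groth.Agent.Grpsch.CubeCocycle
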