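import Groth.Agent.Grpsch.CubeDeform
import Mathlib.AlgebraicGeometry.Geometrically.Integral
import Mathlib.AlgebraicGeometry.Fiber

/-!
# Triviality of modules and base change of the situation of the theorem of the cube
-/

set_option autoImplicit false
universe u v

open AlgebraicGeometry CategoryTheory Limits
open Groth.Agent.Fdesc Groth.Agent.Fdesc.LocGen

namespace Groth.Agent.Grpsch.CubeData

section Triv

variable {X Y Z : Scheme.{u}}

/-- `M` is isomorphic to the structure module. -/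
def Triv (M : X.Modules) : Prop := Nonempty (M ≅ Coh.structureModule X)

lemma triv_iff {M : X.Modules} : Triv M ↔ ∃ m : Γ(M, ⊤), IsGen m := by
  constructor
  · rintro ⟨e⟩
    exact ⟨sec e.inv ⊤, (isIso_iff_isGen e.inv).mp inferInstance⟩
  · rintro ⟨m, hm⟩
    have h1 : IsIso (homOf m) := (isIso_iff_isGen _).mpr (by simpa using hm)
    exact ⟨(asIso (homOf m)).symm⟩

lemma Triv.of_iso {M N : X.Modules} (e : M ≅ N) (h : Triv N) : Triv M := by
  obtain ⟨i⟩ := h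
  exact ⟨e ≪≫ i⟩

lemma triv_congr_iso {M N : X.Modules} (e : M ≅ N) : Triv M ↔ Triv N :=
  ⟨Triv.of_iso e.symm, Triv.of_iso e⟩

lemma Triv.pullback (f : X ⟶ Y) {M : Y.Modules} (h : Triv M) :
    Triv ((Scheme.Modules.pullback f).obj M) := by
  obtain ⟨m, hm⟩ := triv_iff.mp h
  exact triv_iff.mpr ⟨_, hm.pullTop f⟩

lemma triv_comp (f : X ⟶ Y) (g : Y ⟶ Z) (M : Z.Modules) :
    Triv ((Scheme.Modules.pullback (f ≫ g)).obj M) ↔
      Triv ((Scheme.Modules.pullback f).obj ((Scheme.Modules.pullback g).obj M)) :=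
  triv_congr_iso ((Scheme.Modules.pullbackComp f g).app M).symm

lemma triv_congr {f g : X ⟶ Y} (h : f = g) (M : Y.Modules) :
    Triv ((Scheme.Modules.pullback f).obj M) ↔ Triv ((Scheme.Modules.pullback g).obj M) := by
  subst h; rfl

lemma triv_square {W : Scheme.{u}} {f : X ⟶ Y} {g : Y ⟶ Z} {f' : X ⟶ W} {g' : W ⟶ Z}
    (h : f ≫ g = f' ≫ g') (M : Z.Modules)
    (hM : Triv ((Scheme.Modules.pullback g).obj M)) :
    Triv ((Scheme.Modules.pullback f').obj ((Scheme.Modules.pullback g').obj M)) := by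
  rw [← triv_comp, ← triv_congr h, triv_comp]
  exact hM.pullback f

lemma triv_id (M : X.Modules) : Triv ((Scheme.Modules.pullback (𝟙 X)).obj M) ↔ Triv M :=
  triv_congr_iso ((Scheme.Modules.pullbackId X).app M)

lemma triv_of_pullback_iso (f : X ⟶ Y) [IsIso f] {M : Y.Modules}
    (h : Triv ((Scheme.Modules.pullback f).obj M)) : Triv M := by
  have h1 := h.pullback (inv f)
  rw [← triv_comp, triv_congr (IsIso.inv_hom_id f), triv_id] at h1
  exact h1

end Triv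


/-- The situation of the theorem of the cube: `P = X ×_S Y` with sections. -/
structure Data (S : Scheme.{u}) where
  X : Scheme.{u}
  Y : Scheme.{u}
  P : Scheme.{u}
  q₁ : P ⟶ X
  q₂ : P ⟶ Y
  pX : X ⟶ S
  pY : Y ⟶ S
  H : IsPullback q₁ q₂ pX pY
  x : S ⟶ X
  y : S ⟶ Y
  hx : x ≫ pX = 𝟙 S
  hy : y ≫ pY = 𝟙 S
  s : Y ⟶ P
  s' : X ⟶ P
  hs₁ : s ≫ q₁ = pY ≫ x
  hs₂ : s ≫ q₂ = 𝟙 Y
  hs'₁ : s' ≫ q₁ = 𝟙 X
  hs'₂ : s' ≫ q₂ = pX ≫ y

namespace Data

variable {S T : Scheme.{u}} (D : Data S)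

/-- The projection to the base. -/
abbrev p : D.P ⟶ S := D.q₁ ≫ D.pX

lemma q₂_pY : D.q₂ ≫ D.pY = D.p := D.H.w.symm

lemma s_p : D.s ≫ D.p = D.pY := by
  rw [← D.q₂_pY, reassoc_of% D.hs₂]

lemma s'_p : D.s' ≫ D.p = D.pX := by
  rw [p, reassoc_of% D.hs'₁]

lemma y_s_p : (D.y ≫ D.s) ≫ D.p = 𝟙 S := by
  rw [Category.assoc, D.s_p, D.hy]

/-- Finiteness, flatness and geometric integrality. -/
structure Good : Prop where
  flatX : Flat D.pX
  properX : IsProper D.pX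
  lfpX : LocallyOfFinitePresentation D.pX
  giX : GeometricallyIntegral D.pX
  flatY : Flat D.pY
  properY : IsProper D.pY
  lfpY : LocallyOfFinitePresentation D.pY
  giY : GeometricallyIntegral D.pY

lemma isPullback_baseChange {X Y P X' Y' P' : Scheme.{u}} {q₁ : P ⟶ X} {q₂ : P ⟶ Y}
    {pX : X ⟶ S} {pY : Y ⟶ S} (H : IsPullback q₁ q₂ pX pY) {a : T ⟶ S}
    {aX : X' ⟶ X} {pX' : X' ⟶ T} (HX : IsPullback aX pX' pX a)
    {aY : Y' ⟶ Y} {pY' : Y' ⟶ T} (HY : IsPullback aY pY' pY a)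
    {aP : P' ⟶ P} {p' : P' ⟶ T} (HP : IsPullback aP p' (q₁ ≫ pX) a)
    {Q₁ : P' ⟶ X'} (h₁ : Q₁ ≫ aX = aP ≫ q₁) (h₁' : Q₁ ≫ pX' = p')
    {Q₂ : P' ⟶ Y'} (h₂ : Q₂ ≫ aY = aP ≫ q₂) (h₂' : Q₂ ≫ pY' = p') :
    IsPullback Q₁ Q₂ pX' pY' := by
  -- the square `P' → X'` over `P → X`
  have e1 : IsPullback aP Q₁ q₁ aX := IsPullback.of_bot (by rw [h₁']; exact HP) h₁.symm HX
  have e2 := e1.paste_horiz H.flip
  rw [← h₂, HX.w] at e2
  exact (IsPullback.of_right e2 (h₂'.trans h₁'.symm) HY).flip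

/-- Base change of `q₁`. -/
noncomputable def bq₁ (a : T ⟶ S) : pullback (D.q₁ ≫ D.pX) a ⟶ pullback D.pX a :=
  pullback.lift (pullback.fst _ _ ≫ D.q₁) (pullback.snd _ _)
    (by rw [Category.assoc, pullback.condition])

/-- Base change of `q₂`. -/
noncomputable def bq₂ (a : T ⟶ S) : pullback (D.q₁ ≫ D.pX) a ⟶ pullback D.pY a :=
  pullback.lift (pullback.fst _ _ ≫ D.q₂) (pullback.snd _ _)
    (by rw [Category.assoc, D.q₂_pY, pullback.condition])

/-- Base change of `x`. -/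
noncomputable def bx (a : T ⟶ S) : T ⟶ pullback D.pX a :=
  pullback.lift (a ≫ D.x) (𝟙 T) (by rw [Category.assoc, D.hx, Category.comp_id, Category.id_comp])

/-- Base change of `y`. -/
noncomputable def bY (a : T ⟶ S) : T ⟶ pullback D.pY a :=
  pullback.lift (a ≫ D.y) (𝟙 T) (by rw [Category.assoc, D.hy, Category.comp_id, Category.id_comp])

/-- Base change of `s`. -/
noncomputable def bs (a : T ⟶ S) : pullback D.pY a ⟶ pullback (D.q₁ ≫ D.pX) a :=
  pullback.lift (pullback.fst _ _ ≫ D.s) (pullback.snd _ _)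
    (by rw [Category.assoc, D.s_p, pullback.condition])

/-- Base change of `s'`. -/
noncomputable def bs' (a : T ⟶ S) : pullback D.pX a ⟶ pullback (D.q₁ ≫ D.pX) a :=
  pullback.lift (pullback.fst _ _ ≫ D.s') (pullback.snd _ _)
    (by rw [Category.assoc, D.s'_p, pullback.condition])

@[reassoc (attr := simp)]
lemma bq₁_fst (a : T ⟶ S) : D.bq₁ a ≫ pullback.fst _ _ = pullback.fst _ _ ≫ D.q₁ :=
  pullback.lift_fst _ _ _

@[reassoc (attr := simp)]
lemma bq₁_snd (a : T ⟶ S) : D.bq₁ a ≫ pullback.snd _ _ = pullback.snd _ _ :=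
  pullback.lift_snd _ _ _

@[reassoc (attr := simp)]
lemma bq₂_fst (a : T ⟶ S) : D.bq₂ a ≫ pullback.fst _ _ = pullback.fst _ _ ≫ D.q₂ :=
  pullback.lift_fst _ _ _

@[reassoc (attr := simp)]
lemma bq₂_snd (a : T ⟶ S) : D.bq₂ a ≫ pullback.snd _ _ = pullback.snd _ _ :=
  pullback.lift_snd _ _ _

@[reassoc (attr := simp)]
lemma bx_fst (a : T ⟶ S) : D.bx a ≫ pullback.fst _ _ = a ≫ D.x := pullback.lift_fst _ _ _

@[reassoc (attr := simp)]
lemma bx_snd (a : T ⟶ S) : D.bx a ≫ pullback.snd _ _ = 𝟙 _ := pullback.lift_snd _ _ _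

@[reassoc (attr := simp)]
lemma bY_fst (a : T ⟶ S) : D.bY a ≫ pullback.fst _ _ = a ≫ D.y := pullback.lift_fst _ _ _

@[reassoc (attr := simp)]
lemma bY_snd (a : T ⟶ S) : D.bY a ≫ pullback.snd _ _ = 𝟙 _ := pullback.lift_snd _ _ _

@[reassoc (attr := simp)]
lemma bs_fst (a : T ⟶ S) : D.bs a ≫ pullback.fst _ _ = pullback.fst _ _ ≫ D.s :=
  pullback.lift_fst _ _ _

@[reassoc (attr := simp)]
lemma bs_snd (a : T ⟶ S) : D.bs a ≫ pullback.snd _ _ = pullback.snd _ _ :=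
  pullback.lift_snd _ _ _

@[reassoc (attr := simp)]
lemma bs'_fst (a : T ⟶ S) : D.bs' a ≫ pullback.fst _ _ = pullback.fst _ _ ≫ D.s' :=
  pullback.lift_fst _ _ _

@[reassoc (attr := simp)]
lemma bs'_snd (a : T ⟶ S) : D.bs' a ≫ pullback.snd _ _ = pullback.snd _ _ :=
  pullback.lift_snd _ _ _

lemma bs_bq₁ (a : T ⟶ S) : D.bs a ≫ D.bq₁ a = pullback.snd _ _ ≫ D.bx a := by
  apply pullback.hom_ext
  · simp only [Category.assoc, bq₁_fst, bs_fst_assoc, bx_fst, D.hs₁]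
    rw [pullback.condition_assoc]
  · simp

lemma bs_bq₂ (a : T ⟶ S) : D.bs a ≫ D.bq₂ a = 𝟙 _ := by
  apply pullback.hom_ext
  · simp [D.hs₂]
  · simp

lemma bs'_bq₁ (a : T ⟶ S) : D.bs' a ≫ D.bq₁ a = 𝟙 _ := by
  apply pullback.hom_ext
  · simp [D.hs'₁]
  · simp

lemma bs'_bq₂ (a : T ⟶ S) : D.bs' a ≫ D.bq₂ a = pullback.snd _ _ ≫ D.bY a := by
  apply pullback.hom_ext
  · simp only [Category.assoc, bq₂_fst, bs'_fst_assoc, bY_fst, D.hs'₂]
    rw [pullback.condition_assoc]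
  · simp

/-- Base change of the situation. -/
@[simps X Y P q₁ q₂ pX pY x y s s']
noncomputable def baseChange (a : T ⟶ S) : Data T where
  X := pullback D.pX a
  Y := pullback D.pY a
  P := pullback (D.q₁ ≫ D.pX) a
  q₁ := D.bq₁ a
  q₂ := D.bq₂ a
  pX := pullback.snd _ _
  pY := pullback.snd _ _
  H := isPullback_baseChange D.H (.of_hasPullback _ _) (.of_hasPullback _ _)
    (.of_hasPullback _ _) (D.bq₁_fst a) (D.bq₁_snd a) (D.bq₂_fst a) (D.bq₂_snd a)
  x := D.bx a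
  y := D.bY a
  hx := D.bx_snd a
  hy := D.bY_snd a
  s := D.bs a
  s' := D.bs' a
  hs₁ := D.bs_bq₁ a
  hs₂ := D.bs_bq₂ a
  hs'₁ := D.bs'_bq₁ a
  hs'₂ := D.bs'_bq₂ a

variable {D} in
lemma Good.baseChange (h : D.Good) (a : T ⟶ S) : (D.baseChange a).Good where
  flatX := have := h.flatX; inferInstanceAs (Flat (pullback.snd D.pX a))
  properX := have := h.properX; inferInstanceAs (IsProper (pullback.snd D.pX a))
  lfpX := have := h.lfpX; inferInstanceAs (LocallyOfFinitePresentation (pullback.snd D.pX a))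
  giX := have := h.giX; inferInstanceAs (GeometricallyIntegral (pullback.snd D.pX a))
  flatY := have := h.flatY; inferInstanceAs (Flat (pullback.snd D.pY a))
  properY := have := h.properY; inferInstanceAs (IsProper (pullback.snd D.pY a))
  lfpY := have := h.lfpY; inferInstanceAs (LocallyOfFinitePresentation (pullback.snd D.pY a))
  giY := have := h.giY; inferInstanceAs (GeometricallyIntegral (pullback.snd D.pY a))

end Data

end Groth.Agent.Grpsch.CubeData
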