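import Groth.Agent.Grpsch.CubeLift

/-!
# The deformation lemma for the theorem of the cube

`deform`: a line bundle on `X ×_S Y` (`S` local) trivial on two sections and modulo a small
ideal `(ε)`, `Ann ε = 𝔪`, is trivial.
-/

set_option autoImplicit false
universe u v

open AlgebraicGeometry CategoryTheory Limits TensorProduct IsLocalRing
open Groth.Agent.Fdesc Groth.Agent.Fdesc.LocGen

namespace Groth.Agent.Grpsch.CubeDeform
open CubeSec CubeLift CubeCocycle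

variable {S X Y P : Scheme.{u}} {q₁ : P ⟶ X} {q₂ : P ⟶ Y} {pX : X ⟶ S} {pY : Y ⟶ S}

lemma isAffineOpen_box (H : IsPullback q₁ q₂ pX pY) [IsAffine S] {U : X.Opens} {V : Y.Opens}
    (hU : IsAffineOpen U) (hV : IsAffineOpen V) : IsAffineOpen (q₁ ⁻¹ᵁ U ⊓ q₂ ⁻¹ᵁ V) := by
  have : IsAffine (⊤ : S.Opens).toScheme := isAffineOpen_top S
  have : IsAffine U.toScheme := hU
  have : IsAffine V.toScheme := hV
  exact .of_isIso (Scheme.Hom.isPullback_resLE H (US := ⊤) (UT := V) (UX := U) le_top le_top rfl).isoPullback.hom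

lemma surjective_appLE (H : IsPullback q₁ q₂ pX pY) [IsAffine S] [Flat pX] [QuasiCompact pY]
    [QuasiSeparated pY] (hY : Function.Surjective pY.appTop.hom) {U : X.Opens}
    (hU : IsAffineOpen U) :
    Function.Surjective (q₁.appLE U (q₁ ⁻¹ᵁ U) le_rfl).hom := by
  have hc : CompactSpace Y := QuasiCompact.compactSpace_of_compactSpace pY
  have hq : QuasiSeparatedSpace Y := quasiSeparatedSpace_of_quasiSeparated pY
  have h1 := isIso_pushoutSection_of_isQuasiSeparated_of_flat_right H.flip (US := ⊤) (UT := U)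
    (UX := ⊤) (UY := q₁ ⁻¹ᵁ U) le_top le_top (by simp)
    (isAffineOpen_top S) hU (by exact isCompact_univ) (by exact isQuasiSeparated_univ)
  have h2 := (isIso_pushoutSection_iff H.flip _ _ _).mp h1
  have h3 := (Flat2D.ThickRed.surjective_and_ker_of_isPushout h2.flip (by
    have h4 : pY.appLE ⊤ ⊤ le_top = pY.appTop := by
      rw [Scheme.Hom.appTop, Scheme.Hom.app_eq_appLE]; rfl
    rw [h4]
    exact hY)).1
  exact h3

section Global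

variable {L : P.Modules} {s' : X ⟶ P} (hs' : s' ≫ q₁ = 𝟙 X)

include hs' in
lemma le_pre (U : X.Opens) : U ≤ s' ⁻¹ᵁ (q₁ ⁻¹ᵁ U) := by
  rw [← Scheme.Hom.comp_preimage, hs']
  exact le_rfl

include hs' in
lemma appLE_section (U : X.Opens) (a : Γ(X, U)) :
    (s'.appLE (q₁ ⁻¹ᵁ U) U (le_pre hs' U)).hom ((q₁.appLE U (q₁ ⁻¹ᵁ U) le_rfl).hom a) = a := by
  have e2 : (s' ≫ q₁).appLE U U (by rw [hs']; exact le_rfl) = 𝟙 _ := by
    rw! [hs']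
    simp only [Scheme.Hom.appLE, Scheme.Hom.id_app]
    exact X.presheaf.map_id _
  exact congr(($((Scheme.Hom.appLE_comp_appLE s' q₁ U (q₁ ⁻¹ᵁ U) U le_rfl (le_pre hs' U)).trans
    e2)).hom a)

/-- The restriction along `s'` of a section over `q₁⁻¹ U`. -/
noncomputable def rst (L : P.Modules) (U : X.Opens) (n : Γ(L, q₁ ⁻¹ᵁ U)) :
    Γ((Scheme.Modules.pullback s').obj L, U) :=
  LocGen.res _ (le_pre hs' U) (pullSec s' n)

lemma rst_smul (U : X.Opens) (a : Γ(P, q₁ ⁻¹ᵁ U)) (n : Γ(L, q₁ ⁻¹ᵁ U)) :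
    rst hs' L U (a • n) = ((s'.appLE (q₁ ⁻¹ᵁ U) U (le_pre hs' U)).hom a) • rst hs' L U n := by
  rw [rst, pullSec_smul, res_smul]
  rfl

lemma isGen_rst {U : X.Opens} {n : Γ(L, q₁ ⁻¹ᵁ U)} (hn : IsGen n) : IsGen (rst hs' L U n) :=
  (hn.pullSec s').res _

lemma res_rst {U V : X.Opens} (h : V ≤ U) (n : Γ(L, q₁ ⁻¹ᵁ U)) :
    LocGen.res _ h (rst hs' L U n) = rst hs' L V (LocGen.res L (q₁.preimage_mono h) n) := by
  rw [rst, rst, ← res_pullSec, LocGen.res_res, LocGen.res_res]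

lemma eq_of_rst (H : IsPullback q₁ q₂ pX pY) [IsAffine S] [Flat pX] [QuasiCompact pY]
    [QuasiSeparated pY] (hY : Function.Surjective pY.appTop.hom) {U : X.Opens}
    (hU : IsAffineOpen U) {n m : Γ(L, q₁ ⁻¹ᵁ U)} (hm : IsGen m)
    (h : rst hs' L U n = rst hs' L U m) : n = m := by
  obtain ⟨a, rfl⟩ := hm.exists_eq n
  obtain ⟨b, rfl⟩ := surjective_appLE H hY hU a
  rw [rst_smul, appLE_section hs'] at h
  have h1 : b = 1 := (isGen_rst hs' hm).ext (by rw [h, one_smul])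
  rw [h1, map_one, one_smul]

include hs' in
theorem exists_isGen_of_forall (H : IsPullback q₁ q₂ pX pY) [IsAffine S] [Flat pX]
    [QuasiCompact pY] [QuasiSeparated pY] (hY : Function.Surjective pY.appTop.hom)
    {τ' : Γ((Scheme.Modules.pullback s').obj L, ⊤)} (hτ' : IsGen τ') {ι : Type*}
    (U : ι → X.Opens) (hUU : ∀ i k, IsAffineOpen (U i ⊓ U k))
    (hUtop : ⨆ i, U i = ⊤) (σ : ∀ i, Γ(L, q₁ ⁻¹ᵁ U i)) (hσ : ∀ i, IsGen (σ i)) :
    ∃ m : Γ(L, ⊤), IsGen m := by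
  -- normalise
  have h1 : ∀ i, ∃ n : Γ(L, q₁ ⁻¹ᵁ U i), IsGen n ∧ rst hs' L (U i) n = LocGen.res _ le_top τ' := by
    intro i
    obtain ⟨w, hw, hw'⟩ := (isGen_rst hs' (hσ i)).exists_unit (hτ'.res (le_top : U i ≤ ⊤))
    refine ⟨(q₁.appLE (U i) (q₁ ⁻¹ᵁ (U i)) le_rfl).hom w • σ i,
      (hσ i).unit_smul (hw.map (q₁.appLE (U i) (q₁ ⁻¹ᵁ (U i)) le_rfl).hom), ?_⟩
    rw [rst_smul, appLE_section hs', hw']
  choose n hn hn' using h1
  have hcov : (⊤ : P.Opens) ≤ ⨆ i, q₁ ⁻¹ᵁ U i := by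
    rw [← Scheme.Hom.preimage_iSup, hUtop]
    exact le_rfl
  obtain ⟨m, hm⟩ := res_glue L (fun i => q₁ ⁻¹ᵁ U i) (fun i => le_top) hcov n (by
    intro i k
    refine eq_of_rst hs' H hY (hUU i k) ((hn k).res (q₁.preimage_mono inf_le_right)) ?_
    have e1 := res_rst hs' (inf_le_left : U i ⊓ U k ≤ U i) (n i)
    have e2 := res_rst hs' (inf_le_right : U i ⊓ U k ≤ U k) (n k)
    rw [hn', LocGen.res_res] at e1 e2
    exact e1.symm.trans e2)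
  exact ⟨m, IsGen.of_cover (fun i => q₁ ⁻¹ᵁ U i) (fun i => le_top) hcov fun i => by
    rw [hm i]; exact hn i⟩

end Global


section Glue

variable {L : P.Modules} (p : P ⟶ S)

lemma isUnit_one_add {A B : Type*} [CommRing A] [CommRing B] [Algebra A B] {ε : A} (h : ε * ε = 0)
    (b : B) : IsUnit (1 + ε • b) := by
  have he : algebraMap A B ε * algebraMap A B ε = 0 := by rw [← map_mul, h, map_zero]
  refine IsUnit.of_mul_eq_one (1 - ε • b) ?_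
  rw [Algebra.smul_def]
  linear_combination (- b * b) * he

/-- Gluing generators over the strips `q₁⁻¹ U ∩ q₂⁻¹ V_j`. -/
theorem exists_strip {κ : Type v} (V : κ → Y.Opens) (hVtop : ⨆ j, V j = ⊤) {ε : Γ(S, ⊤)}
    (hε : ε * ε = 0) (U : X.Opens) (σ : ∀ j, Γ(L, q₁ ⁻¹ᵁ U ⊓ q₂ ⁻¹ᵁ (V j)))
    (hσ : ∀ j, IsGen (σ j)) (c : ∀ r : κ × κ, Sec p (q₁ ⁻¹ᵁ U ⊓ q₂ ⁻¹ᵁ (V r.1 ⊓ V r.2)))
    (hc : ∀ r : κ × κ, LocGen.res L (inf_mono_right U (inf_le_left : V r.1 ⊓ V r.2 ≤ V r.1)) (σ r.1) =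
      act p (1 + ε • c r)
        (LocGen.res L (inf_mono_right U (inf_le_right : V r.1 ⊓ V r.2 ≤ V r.2)) (σ r.2)))
    (b : ∀ j, Sec p (q₁ ⁻¹ᵁ U ⊓ q₂ ⁻¹ᵁ V j))
    (hb : ∀ r : κ × κ, ε • (c r - (CubeSec.res p (inf_mono_right U inf_le_left) (b r.1) -
        CubeSec.res p (inf_mono_right U inf_le_right) (b r.2))) = 0) :
    ∃ n : Γ(L, q₁ ⁻¹ᵁ U), IsGen n := by
  have hgen : ∀ j, IsGen (act p (1 - ε • b j) (σ j)) := by
    intro j
    refine isGen_act (hσ j) ?_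
    rw [sub_eq_add_neg, ← smul_neg]
    exact isUnit_one_add hε _
  have hcov : q₁ ⁻¹ᵁ U ≤ ⨆ j, q₁ ⁻¹ᵁ U ⊓ q₂ ⁻¹ᵁ (V j) := by
    rw [← inf_iSup_eq, ← Scheme.Hom.preimage_iSup, hVtop]
    exact le_inf le_rfl le_top
  have hkey : ∀ j l : κ,
      LocGen.res L (inf_mono_right (q₁ := q₁) (q₂ := q₂) U (inf_le_left : V j ⊓ V l ≤ V j))
        (act p (1 - ε • b j) (σ j)) =
      LocGen.res L (inf_mono_right U (inf_le_right : V j ⊓ V l ≤ V l))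
        (act p (1 - ε • b l) (σ l)) := by
    intro j l
    have h1 := hc (j, l)
    have h2 := hb (j, l)
    dsimp only at h1 h2
    rw [res_act, res_act, h1, ← act_mul]
    congr 1
    rw [map_sub, map_sub, map_one, map_one, map_smul, map_smul]
    simp only [Algebra.smul_def] at h2 ⊢
    have he : algebraMap Γ(S, ⊤) (Sec p (q₁ ⁻¹ᵁ U ⊓ q₂ ⁻¹ᵁ (V j ⊓ V l))) ε *
      algebraMap Γ(S, ⊤) (Sec p (q₁ ⁻¹ᵁ U ⊓ q₂ ⁻¹ᵁ (V j ⊓ V l))) ε = 0 := by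
      rw [← map_mul, hε, map_zero]
    linear_combination h2 - (CubeSec.res p (inf_mono_right U inf_le_left) (b j) * c (j, l)) * he
  obtain ⟨n, hn⟩ := res_glue L (fun j => q₁ ⁻¹ᵁ U ⊓ q₂ ⁻¹ᵁ (V j)) (fun j => inf_le_left) hcov
    (fun j => act p (1 - ε • b j) (σ j)) (by
      intro j l
      have hle : (q₁ ⁻¹ᵁ U ⊓ q₂ ⁻¹ᵁ (V j)) ⊓ (q₁ ⁻¹ᵁ U ⊓ q₂ ⁻¹ᵁ (V l)) ≤
          q₁ ⁻¹ᵁ U ⊓ q₂ ⁻¹ᵁ (V j ⊓ V l) := by
        intro z hz
        exact ⟨hz.1.1, hz.1.2, hz.2.2⟩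
      have h3 := congr(LocGen.res L hle $(hkey j l))
      rw [LocGen.res_res, LocGen.res_res] at h3
      exact h3)
  exact ⟨n, IsGen.of_cover _ (fun j => inf_le_left) hcov fun j => by rw [hn j]; exact hgen j⟩

end Glue

section Aux

lemma exists_closed (S : Scheme.{u}) [IsAffine S] [IsLocalRing Γ(S, ⊤)] :
    ∃ s₀ : S, ∀ U : S.Opens, s₀ ∈ U → U = ⊤ := by
  refine ⟨S.isoSpec.inv (closedPoint Γ(S, ⊤)), fun U hU => ?_⟩
  have h1 : closedPoint Γ(S, ⊤) ∈ S.isoSpec.inv ⁻¹ᵁ U := hU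
  have h2 : S.isoSpec.inv ⁻¹ᵁ U = ⊤ := (closedPoint_mem_iff (R := Γ(S, ⊤)) _).mp h1
  have h3 := congr(S.isoSpec.hom ⁻¹ᵁ $h2)
  rw [← Scheme.Hom.comp_preimage, Iso.hom_inv_id] at h3
  exact h3

lemma exists_compat₁ {A B D : Scheme.{u}} (a : A ⟶ B) (b : B ⟶ D) (k : A ⟶ D) (h : a ≫ b = k)
    (L : D.Modules) :
    ∃ φ : (Scheme.Modules.pullback k).obj L ⟶
        (Scheme.Modules.pullback a).obj ((Scheme.Modules.pullback b).obj L),
      ∀ (W : D.Opens) (σ : Γ(L, W)) (Z : A.Opens) (hZ : Z ≤ a ⁻¹ᵁ (b ⁻¹ᵁ W)) (hZ' : Z ≤ k ⁻¹ᵁ W),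
        φ.app Z (LocGen.res _ hZ' (pullSec k σ)) = LocGen.res _ hZ (pullSec a (pullSec b σ)) := by
  subst h
  refine ⟨(Scheme.Modules.pullbackComp a b).inv.app L, fun W σ Z hZ hZ' => ?_⟩
  rw [app_res]
  congr 1
  exact pullSec_comp a b σ

lemma exists_compat₂ {A B D : Scheme.{u}} (a : A ⟶ B) (b : B ⟶ D) (k : A ⟶ D) (h : a ≫ b = k)
    (L : D.Modules) :
    ∃ φ : (Scheme.Modules.pullback a).obj ((Scheme.Modules.pullback b).obj L) ⟶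
        (Scheme.Modules.pullback k).obj L,
      ∀ (W : D.Opens) (σ : Γ(L, W)) (Z : A.Opens) (hZ : Z ≤ a ⁻¹ᵁ (b ⁻¹ᵁ W)) (hZ' : Z ≤ k ⁻¹ᵁ W),
        φ.app Z (LocGen.res _ hZ (pullSec a (pullSec b σ))) = LocGen.res _ hZ' (pullSec k σ) := by
  subst h
  refine ⟨(Scheme.Modules.pullbackComp a b).hom.app L, fun W σ Z hZ hZ' => ?_⟩
  rw [app_res]
  congr 1
  exact pullSec_comp' a b σ

lemma exists_compat {A B C D : Scheme.{u}} (a : A ⟶ B) (b : B ⟶ D) (a' : A ⟶ C) (b' : C ⟶ D)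
    (h : a ≫ b = a' ≫ b') (L : D.Modules) :
    ∃ φ : (Scheme.Modules.pullback a').obj ((Scheme.Modules.pullback b').obj L) ⟶
        (Scheme.Modules.pullback a).obj ((Scheme.Modules.pullback b).obj L),
      ∀ (W : D.Opens) (σ : Γ(L, W)) (Z : A.Opens) (hZ : Z ≤ a ⁻¹ᵁ (b ⁻¹ᵁ W))
        (hZ' : Z ≤ a' ⁻¹ᵁ (b' ⁻¹ᵁ W)),
        φ.app Z (LocGen.res _ hZ' (pullSec a' (pullSec b' σ))) =
          LocGen.res _ hZ (pullSec a (pullSec b σ)) := by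
  obtain ⟨φ, hφ⟩ := exists_compat₁ a b _ h L
  obtain ⟨ψ, hψ⟩ := exists_compat₂ a' b' _ rfl L
  refine ⟨ψ ≫ φ, fun W σ Z hZ hZ' => ?_⟩
  have e1 := hψ W σ Z hZ' hZ'
  have e2 := hφ W σ Z hZ hZ'
  exact (congr(φ.app Z $e1)).trans e2

end Aux


section Main

lemma appLE_top_top (f : X ⟶ S) : f.appLE ⊤ ⊤ le_top = f.appTop := by
  rw [Scheme.Hom.appTop, Scheme.Hom.app_eq_appLE]; rfl

lemma app_comm {S' Y' : Scheme.{u}} {g : S' ⟶ S} {k : Y' ⟶ Y} {pY' : Y' ⟶ S'}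
    (w : k ≫ pY = pY' ≫ g) (V : Y.Opens) :
    pY.appLE ⊤ V le_top ≫ k.app V =
      g.appTop ≫ pY'.appTop ≫ Y'.presheaf.map (homOfLE (le_top : k ⁻¹ᵁ V ≤ ⊤)).op := by
  have e1 := Scheme.Hom.appLE_comp_appLE k pY ⊤ V (k ⁻¹ᵁ V) le_top le_rfl
  have e2 : (k ≫ pY).appLE ⊤ (k ⁻¹ᵁ V) le_top = (pY' ≫ g).appLE ⊤ (k ⁻¹ᵁ V) le_top := by
    congr 1
  have e3 : (pY' ≫ g).appLE ⊤ (k ⁻¹ᵁ V) le_top =
      g.appTop ≫ pY'.appTop ≫ Y'.presheaf.map (homOfLE (le_top : k ⁻¹ᵁ V ≤ ⊤)).op := by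
    change (pY' ≫ g).app ⊤ ≫ Y'.presheaf.map (homOfLE (le_top : k ⁻¹ᵁ V ≤ ⊤)).op = _
    rw [Scheme.Hom.comp_app]
    exact Category.assoc (g.app ⊤) (pY'.app ⊤)
      (Y'.presheaf.map (homOfLE (le_top : k ⁻¹ᵁ V ≤ ⊤)).op)
  rw [Scheme.Hom.app_eq_appLE]
  exact e1.trans (e2.trans e3)

lemma four {A B : Type*} [CommRing A] [CommRing B] [Algebra A B] {ε : A} (h : ε * ε = 0)
    {a b c d : B} (hab : (1 + ε • a) * (1 + ε • b) = (1 + ε • c) * (1 + ε • d)) :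
    ε • (a - d - (c - b)) = 0 := by
  have he : algebraMap A B ε * algebraMap A B ε = 0 := by rw [← map_mul, h, map_zero]
  simp only [Algebra.smul_def] at hab ⊢
  linear_combination hab - (a * b - c * d) * he

lemma rigid {A B : Type*} [CommRing A] [CommRing B] [Algebra A B] {ε : A} (h : ε * ε = 0)
    (r : Aˣ) {v w C x y : B} (hv : v = algebraMap A B r + ε • x) (hw : w = algebraMap A B r + ε • y)
    (hvw : v = (1 + ε • C) * w) :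
    ε • (C - (((r⁻¹ : Aˣ) : A) • x - ((r⁻¹ : Aˣ) : A) • y)) = 0 := by
  have he : algebraMap A B ε * algebraMap A B ε = 0 := by rw [← map_mul, h, map_zero]
  have hr : algebraMap A B r * algebraMap A B ((r⁻¹ : Aˣ) : A) = 1 := by
    rw [← map_mul, Units.mul_inv, map_one]
  rw [hv, hw] at hvw
  simp only [Algebra.smul_def] at hvw ⊢
  linear_combination (-(algebraMap A B ((r⁻¹ : Aˣ) : A))) * hvw - (algebraMap A B ε * C) * hr -
    (algebraMap A B ((r⁻¹ : Aˣ) : A) * C * y) * he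

/-- The sections of `σ` along `s`. -/
lemma le_sec {x : S ⟶ X} {s : Y ⟶ P} (hs₁ : s ≫ q₁ = pY ≫ x) (hs₂ : s ≫ q₂ = 𝟙 Y) {U : X.Opens}
    (hU : x ⁻¹ᵁ U = ⊤) (V : Y.Opens) : V ≤ s ⁻¹ᵁ (q₁ ⁻¹ᵁ U ⊓ q₂ ⁻¹ᵁ V) := by
  have h1 : s ⁻¹ᵁ (q₁ ⁻¹ᵁ U) = ⊤ := by
    rw [← Scheme.Hom.comp_preimage, hs₁, Scheme.Hom.comp_preimage, hU]
    rfl
  have h2 : s ⁻¹ᵁ (q₂ ⁻¹ᵁ V) = V := by
    rw [← Scheme.Hom.comp_preimage, hs₂]
    rfl
  have h3 : s ⁻¹ᵁ (q₁ ⁻¹ᵁ U ⊓ q₂ ⁻¹ᵁ V) = s ⁻¹ᵁ (q₁ ⁻¹ᵁ U) ⊓ s ⁻¹ᵁ (q₂ ⁻¹ᵁ V) := rfl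
  rw [h3, h1, h2, top_inf_eq]

variable [IsAffine S] [IsLocalRing Γ(S, ⊤)]

/-- The values of the generators along `s`. -/
lemma exists_values {S' P' Y' : Scheme.{u}} {p : P ⟶ S} (h₂ : q₂ ≫ pY = p)
    {g : S' ⟶ S} [IsClosedImmersion g] {i : P' ⟶ P} {p' : P' ⟶ S'} (HP : IsPullback i p' p g)
    {k : Y' ⟶ Y} {pY' : Y' ⟶ S'} (HY : IsPullback k pY' pY g)
    (ε : Γ(S, ⊤)) (hεm : ε ∈ maximalIdeal Γ(S, ⊤))
    (hg : RingHom.ker g.appTop.hom = Ideal.span {ε})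
    (hY' : Function.Surjective pY'.appTop.hom)
    {s : Y ⟶ P} (hs₂ : s ≫ q₂ = 𝟙 Y)
    {y : S ⟶ Y} (hy : y ≫ pY = 𝟙 S)
    {L : P.Modules} {τ : Γ((Scheme.Modules.pullback s).obj L, ⊤)} (hτ : IsGen τ)
    (ρ : Γ((Scheme.Modules.pullback i).obj L, ⊤))
    {K : Type v} (V : K → Y.Opens) (hV : ∀ j, IsAffineOpen (V j)) (hVtop : ⨆ j, V j = ⊤)
    (W : K → P.Opens) (hW : ∀ j, V j ≤ s ⁻¹ᵁ W j) (σ : ∀ j, Γ(L, W j)) (hσ : ∀ j, IsGen (σ j))
    (hσρ : ∀ j, pullSec i (σ j) = LocGen.res _ le_top ρ) :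
    ∃ (r : Γ(S, ⊤)ˣ) (w : ∀ j, Sec pY (V j)), ∀ j,
      LocGen.res _ (hW j) (pullSec s (σ j)) =
        act pY (algebraMap _ _ (r : Γ(S, ⊤)) + ε • w j) (LocGen.res _ le_top τ) := by
  have hsp : s ≫ p = pY := by rw [← h₂, reassoc_of% hs₂]
  let sY : Y' ⟶ P' := HP.lift (k ≫ s) pY' (by rw [Category.assoc, hsp, HY.w])
  have hsY : k ≫ s = sY ≫ i := (HP.lift_fst _ _ _).symm
  obtain ⟨φ, hφ⟩ := exists_compat k s sY i hsY L
  -- the global section of `k^* s^* L`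
  obtain ⟨v', hv'⟩ := (hτ.pullTop k).exists_eq (φ.app ⊤ (pullTop sY ρ))
  obtain ⟨r₁, rfl⟩ := hY' v'
  obtain ⟨r, rfl⟩ : ∃ r : Γ(S, ⊤), (g.appTop).hom r = r₁ :=
    g.app_surjective ⊤ (isAffineOpen_top S) r₁
  choose v hv hv₂ using fun j => exists_act (p := pY) (hτ.res (le_top : V j ≤ ⊤))
    (((hσ j).pullSec s).res (hW j))
  -- the values on `Y'`
  have key : ∀ j, ∃ w : Sec pY (V j), v j = algebraMap _ _ r + ε • w := by
    intro j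
    have e1 : (k.app (V j)).hom ((toSec pY (V j)).symm (v j)) =
        ores le_top ((pY'.appTop).hom ((g.appTop).hom r)) := by
      refine ((hτ.res (le_top : V j ≤ ⊤)).pullSec k).ext ?_
      have e2 := congr(pullSec k $(hv₂ j))
      rw [act, pullSec_smul] at e2
      refine e2.symm.trans ?_
      have e3 : pullSec k (LocGen.res _ (hW j) (pullSec s (σ j))) =
          φ.app (k ⁻¹ᵁ V j) (LocGen.res _ le_top (pullTop sY ρ)) := by
        rw [← res_pullSec, ← hφ (W j) (σ j) (k ⁻¹ᵁ V j) (k.preimage_mono (hW j)) (by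
          rw [← Scheme.Hom.comp_preimage, ← hsY, Scheme.Hom.comp_preimage]
          exact k.preimage_mono (hW j)), hσρ j]
        congr 1
        rw [← res_pullSec, LocGen.res_res]
        rfl
      rw [e3, app_res, hv', res_smul, ← res_pullSec]
      rfl
    have e4 : (k.app (V j)).hom ((pY.appLE ⊤ (V j) le_top).hom r) =
        ores le_top ((pY'.appTop).hom ((g.appTop).hom r)) := by
      exact congr(($(app_comm HY.w (V j))).hom r)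
    have e6 : (toSec pY (V j)).symm (v j) - (pY.appLE ⊤ (V j) le_top).hom r ∈
        RingHom.ker (k.app (V j)).hom := by
      rw [RingHom.mem_ker, map_sub, e1, e4, sub_self]
    obtain ⟨-, -, h3⟩ := Flat2D.ThickRed.app_of_isPullback HY (W := ⊤) (isAffineOpen_top S)
      (hV j) le_top
    rw [h3] at e6
    have h4 : RingHom.ker (g.app ⊤).hom = Ideal.span {ε} := hg
    rw [h4, Ideal.map_span, Set.image_singleton, Ideal.mem_span_singleton'] at e6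
    obtain ⟨w, hw⟩ := e6
    refine ⟨toSec pY (V j) w, ?_⟩
    rw [mul_comm] at hw
    have h5 := congr(toSec pY (V j) $hw)
    rw [map_mul, map_sub, RingEquiv.apply_symm_apply] at h5
    rw [Algebra.smul_def, algebraMap_eq, algebraMap_eq, h5]
    ring
  choose w hw using key
  -- `r` is a unit
  have hr : IsUnit r := by
    obtain ⟨s₀, hs₀⟩ := exists_closed S
    have hmem : y s₀ ∈ ⨆ j, V j := by rw [hVtop]; trivial
    obtain ⟨j, hj⟩ := TopologicalSpace.Opens.mem_iSup.mp hmem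
    have hyj : ⊤ ≤ y ⁻¹ᵁ V j := (hs₀ (y ⁻¹ᵁ V j) hj).ge
    have h6 : IsUnit (ev hy hyj (v j)) := (hv j).map _
    rw [hw j, map_add, AlgHom.commutes, map_smul] at h6
    by_contra hr
    have h7 : r ∈ maximalIdeal Γ(S, ⊤) := (mem_maximalIdeal r).mpr hr
    have h8 := Ideal.add_mem _ h7 (Ideal.mul_mem_right (ev hy hyj (w j)) _ hεm)
    exact (mem_maximalIdeal _).mp h8 h6
  exact ⟨hr.unit, w, fun j => by rw [hv₂ j, hw j]; rfl⟩

/-- **Key lemma**: lifting trivializations along a small extension. -/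
theorem deform {S' P' Y' : Scheme.{u}} (H : IsPullback q₁ q₂ pX pY) [Flat pX] [Flat pY]
    [IsSeparated pX] [IsSeparated pY] [QuasiCompact pY] {p : P ⟶ S} (h₁ : q₁ ≫ pX = p)
    (h₂ : q₂ ≫ pY = p) {g : S' ⟶ S} [IsClosedImmersion g] [Surjective g] {i : P' ⟶ P}
    {p' : P' ⟶ S'} (HP : IsPullback i p' p g) {k : Y' ⟶ Y} {pY' : Y' ⟶ S'}
    (HY : IsPullback k pY' pY g) (ε : Γ(S, ⊤))
    (hε : ∀ a : Γ(S, ⊤), a * ε = 0 ↔ a ∈ maximalIdeal Γ(S, ⊤))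
    (hεm : ε ∈ maximalIdeal Γ(S, ⊤)) (hg : RingHom.ker g.appTop.hom = Ideal.span {ε})
    (hX : Function.Surjective pX.appTop.hom) (hY : Function.Surjective pY.appTop.hom)
    (hY' : Function.Surjective pY'.appTop.hom) {x : S ⟶ X} (hx : x ≫ pX = 𝟙 S) {y : S ⟶ Y}
    (hy : y ≫ pY = 𝟙 S) {s : Y ⟶ P} (hs₁ : s ≫ q₁ = pY ≫ x) (hs₂ : s ≫ q₂ = 𝟙 Y) {s' : X ⟶ P}
    (hs' : s' ≫ q₁ = 𝟙 X) {L : P.Modules} (hL : PicF.IsInvertible L)
    {τ : Γ((Scheme.Modules.pullback s).obj L, ⊤)} (hτ : IsGen τ)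
    {τ' : Γ((Scheme.Modules.pullback s').obj L, ⊤)} (hτ' : IsGen τ')
    {ρ : Γ((Scheme.Modules.pullback i).obj L, ⊤)} (hρ : IsGen ρ) :
    ∃ m : Γ(L, ⊤), IsGen m := by
  have hεε : ε * ε = 0 := (hε ε).mpr hεm
  have hsp : s ≫ p = pY := by rw [← h₂, reassoc_of% hs₂]
  have hclos : IsClosedImmersion i := MorphismProperty.of_isPullback HP.flip ‹IsClosedImmersion g›
  have hsurj : Surjective i := MorphismProperty.of_isPullback HP.flip ‹Surjective g›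
  have hXs : X.IsSeparated := ⟨by rw [← terminal.comp_from pX]; infer_instance⟩
  have hYs : Y.IsSeparated := ⟨by rw [← terminal.comp_from pY]; infer_instance⟩
  have hYc : CompactSpace Y := QuasiCompact.compactSpace_of_compactSpace pY
  -- covers
  obtain ⟨I, hI, hIe⟩ := isCompact_iff_finite_and_eq_biUnion_affineOpens.mp
    (show IsCompact ((⊤ : Y.Opens) : Set Y) from isCompact_univ)
  have hIf : Finite I := hI.to_subtype
  let U : X.affineOpens → X.Opens := fun i => i.1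
  have hU : ∀ i, IsAffineOpen (U i) := fun i => i.2
  have hUU : ∀ i k, IsAffineOpen (U i ⊓ U k) := fun i k => (hU i).inf (hU k)
  have hUtop : ⨆ i, U i = ⊤ := iSup_affineOpens_eq_top X
  let V : I → Y.Opens := fun j => j.1.1
  have hV : ∀ j, IsAffineOpen (V j) := fun j => j.1.2
  have hVV : ∀ j l, IsAffineOpen (V j ⊓ V l) := fun j l => (hV j).inf (hV l)
  have hVtop : ⨆ j, V j = ⊤ := by rw [hIe, iSup_subtype]
  -- the open containing the section `x`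
  obtain ⟨i₀, hi₀⟩ : ∃ i₀, x ⁻¹ᵁ U i₀ = ⊤ := by
    obtain ⟨s₀, hs₀⟩ := exists_closed S
    have hmem : x s₀ ∈ ⨆ j, U j := by rw [hUtop]; trivial
    obtain ⟨j, hj⟩ := TopologicalSpace.Opens.mem_iSup.mp hmem
    exact ⟨j, hs₀ (x ⁻¹ᵁ U j) hj⟩
  -- local generators
  choose σ hσρ hσ using fun a b => exists_lift i hL (isAffineOpen_box H (hU a) (hV b))
    (hρ.res (le_top : i ⁻¹ᵁ (q₁ ⁻¹ᵁ (U a) ⊓ q₂ ⁻¹ᵁ (V b)) ≤ ⊤))
  have hc' : ∀ (a : X.affineOpens) (r : I × I),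
      ∃ c : Sec p (q₁ ⁻¹ᵁ U a ⊓ q₂ ⁻¹ᵁ (V r.1 ⊓ V r.2)),
        LocGen.res L (inf_mono_right (U a) (inf_le_left : V r.1 ⊓ V r.2 ≤ V r.1)) (σ a r.1) =
          act p (1 + ε • c)
            (LocGen.res L (inf_mono_right (U a) (inf_le_right : V r.1 ⊓ V r.2 ≤ V r.2))
              (σ a r.2)) := by
    intro a r
    refine exists_ratio i HP ε hg (isAffineOpen_box H (hU a) (hVV r.1 r.2)) ((hσ a r.2).res _) ?_
    rw [← res_pullSec, ← res_pullSec, hσρ, hσρ, LocGen.res_res, LocGen.res_res]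
  choose c hc using hc'
  have hd' : ∀ (a b : X.affineOpens) (j : I),
      ∃ d : Sec p (q₁ ⁻¹ᵁ (U a ⊓ U b) ⊓ q₂ ⁻¹ᵁ (V j)),
        LocGen.res L (inf_mono_left (V j) (inf_le_left : U a ⊓ U b ≤ U a)) (σ a j) =
          act p (1 + ε • d)
            (LocGen.res L (inf_mono_left (V j) (inf_le_right : U a ⊓ U b ≤ U b)) (σ b j)) := by
    intro a b j
    refine exists_ratio i HP ε hg (isAffineOpen_box H (hUU a b) (hV j)) ((hσ b j).res _) ?_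
    rw [← res_pullSec, ← res_pullSec, hσρ, hσρ, LocGen.res_res, LocGen.res_res]
  choose d hd using hd'
  have hcd : ∀ (a b : X.affineOpens) (r : I × I),
      ε • (CubeSec.res p (inf_mono_left _ inf_le_left) (c a r) -
        CubeSec.res p (inf_mono_left _ inf_le_right) (c b r) -
        (CubeSec.res p (inf_mono_right _ inf_le_left) (d a b r.1) -
          CubeSec.res p (inf_mono_right _ inf_le_right) (d a b r.2)) :
          Sec p (q₁ ⁻¹ᵁ (U a ⊓ U b) ⊓ q₂ ⁻¹ᵁ (V r.1 ⊓ V r.2))) = 0 := by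
    intro a b r
    refine four hεε ?_
    refine act_ext ((hσ b r.2).res (inf_le_inf (q₁.preimage_mono inf_le_right)
      (q₂.preimage_mono inf_le_right) :
        q₁ ⁻¹ᵁ (U a ⊓ U b) ⊓ q₂ ⁻¹ᵁ (V r.1 ⊓ V r.2) ≤ q₁ ⁻¹ᵁ (U b) ⊓ q₂ ⁻¹ᵁ (V r.2))) ?_
    have e1 := congr(LocGen.res L (inf_mono_left (V r.1 ⊓ V r.2)
      (inf_le_left : U a ⊓ U b ≤ U a)) $(hc a r))
    have e2 := congr(LocGen.res L (inf_mono_left (V r.1 ⊓ V r.2)
      (inf_le_right : U a ⊓ U b ≤ U b)) $(hc b r))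
    have e3 := congr(LocGen.res L (inf_mono_right (U a ⊓ U b)
      (inf_le_left : V r.1 ⊓ V r.2 ≤ V r.1)) $(hd a b r.1))
    have e4 := congr(LocGen.res L (inf_mono_right (U a ⊓ U b)
      (inf_le_right : V r.1 ⊓ V r.2 ≤ V r.2)) $(hd a b r.2))
    rw [res_act, LocGen.res_res, LocGen.res_res, map_add, map_one, map_smul] at e1 e2 e3 e4
    rw [act_mul, act_mul, ← e2, ← e3, ← e4, ← e1]
  -- the values along `s`
  obtain ⟨r₀, w, hw⟩ := exists_values h₂ HP HY ε hεm hg hY' hs₂ hy hτ ρ V hV hVtop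
    (fun j => q₁ ⁻¹ᵁ U i₀ ⊓ q₂ ⁻¹ᵁ V j) (fun j => le_sec hs₁ hs₂ hi₀ (V j)) (σ i₀) (hσ i₀) (hσρ i₀)
  have hsV : ∀ r : I × I, V r.1 ⊓ V r.2 ≤ s ⁻¹ᵁ (q₁ ⁻¹ᵁ U i₀ ⊓ q₂ ⁻¹ᵁ (V r.1 ⊓ V r.2)) :=
    fun r => le_sec hs₁ hs₂ hi₀ (V r.1 ⊓ V r.2)
  have hb₀ : ∀ r : I × I, ε • (pull s hsp (hsV r) (c i₀ r) -
      (CubeSec.res pY inf_le_left (((r₀⁻¹ : (Γ(S, ⊤))ˣ) : Γ(S, ⊤)) • w r.1) -
        CubeSec.res pY inf_le_right (((r₀⁻¹ : (Γ(S, ⊤))ˣ) : Γ(S, ⊤)) • w r.2))) = 0 := by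
    intro r
    have e1 := congr(LocGen.res _ (hsV r) (pullSec s $(hc i₀ r)))
    rw [res_pullSec_act s hsp, ← res_pullSec, ← res_pullSec, LocGen.res_res,
      LocGen.res_res] at e1
    have e2 := congr(LocGen.res _ (inf_le_left : V r.1 ⊓ V r.2 ≤ V r.1) $(hw r.1))
    have e3 := congr(LocGen.res _ (inf_le_right : V r.1 ⊓ V r.2 ≤ V r.2) $(hw r.2))
    rw [LocGen.res_res, res_act, LocGen.res_res] at e2 e3
    rw [e2, e3, ← act_mul] at e1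
    have e4 := act_ext (hτ.res _) e1
    rw [map_smul, map_smul]
    refine rigid hεε r₀ (v := CubeSec.res pY (inf_le_left : V r.1 ⊓ V r.2 ≤ V r.1)
      (algebraMap _ _ (r₀ : Γ(S, ⊤)) + ε • w r.1)) (w := CubeSec.res pY
      (inf_le_right : V r.1 ⊓ V r.2 ≤ V r.2) (algebraMap _ _ (r₀ : Γ(S, ⊤)) + ε • w r.2)) ?_ ?_ ?_
    · rw [map_add, map_smul, AlgHom.commutes]
    · rw [map_add, map_smul, AlgHom.commutes]
    · rw [e4, map_add (pull s hsp (hsV r)), map_one, map_smul]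
  have hX' : Function.Surjective (algebraMap Γ(S, ⊤) (Sec pX ⊤)) := by
    intro z
    obtain ⟨r, hr⟩ := hX ((toSec pX ⊤).symm z)
    refine ⟨r, ?_⟩
    rw [algebraMap_eq, appLE_top_top]
    exact hr
  have hstrip : ∀ a : X.affineOpens, ∃ n : Γ(L, q₁ ⁻¹ᵁ U a), IsGen n := by
    intro a
    obtain ⟨b, hb⟩ := cocycle h₁ h₂ V ε hε H U hU hV hUU hVV hUtop hX' c d hcd x hx i₀ hi₀.ge
      s hs₁ hs₂ hsp hsV (fun j => ((r₀⁻¹ : (Γ(S, ⊤))ˣ) : Γ(S, ⊤)) • w j) hb₀ a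
    exact exists_strip p V hVtop hεε (U a) (σ a) (hσ a) (c a) (hc a) b hb
  choose n hn using hstrip
  exact exists_isGen_of_forall hs' H hY hτ' U hUU hUtop n hn

end Main

end Groth.Agent.Grpsch.CubeDeform
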