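import Groth.Agent.Grpsch.CubeCocycle
import Groth.Agent.VarietyB.PullSec
import Groth.Agent.Fdesc.LocGenPullback
import Groth.Agent.Ega2.QCohLocal
import Groth.Agent.Flat2D.ThickRed

/-!
# Lifting generators along nilpotent closed immersions
-/

set_option autoImplicit false
universe u v

open AlgebraicGeometry CategoryTheory Limits TensorProduct IsLocalRing
open Groth.Agent.Fdesc Groth.Agent.Fdesc.LocGen

namespace Groth.Agent.Grpsch.CubeLift

variable {P P' : Scheme.{u}} (i : P' ⟶ P) {L : P.Modules}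

lemma pullSec_surjective [IsClosedImmersion i] (hL : PicF.IsInvertible L) {W : P.Opens}
    (hW : IsAffineOpen W) : Function.Surjective (fun σ : Γ(L, W) => pullSec i σ) := by
  have hV : IsAffineOpen (i ⁻¹ᵁ W) := hW.preimage i
  let j1 : Algebra Γ(P, W) Γ(P', i ⁻¹ᵁ W) := (i.appLE W (i ⁻¹ᵁ W) le_rfl).hom.toAlgebra
  let j2 := VarietyB.PullSec.secModule i L (U := W) (V := i ⁻¹ᵁ W) le_rfl
  have j3 : IsScalarTower Γ(P, W) Γ(P', i ⁻¹ᵁ W)
      Γ((Scheme.Modules.pullback i).obj L, i ⁻¹ᵁ W) :=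
      ⟨fun a b c => by rw [Algebra.smul_def, mul_smul]; rfl⟩
  have hbc : IsBaseChange Γ(P', i ⁻¹ᵁ W) (VarietyB.PullSec.secₗ i L (U := W)
      (V := i ⁻¹ᵁ W) le_rfl) := VarietyB.PullSec.isBaseChange_secₗ i L le_rfl
    (Ega2.QCohLocal.isQCoh_of_isInvertible hL) hW hV
  have hs : Function.Surjective (i.appLE W (i ⁻¹ᵁ W) le_rfl).hom := by
    rw [← Scheme.Hom.app_eq_appLE]
    exact i.app_surjective W hW
  have heq : ∀ σ : Γ(L, W), VarietyB.PullSec.secₗ i L (U := W) (V := i ⁻¹ᵁ W) le_rfl σ =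
      pullSec i σ := by
    intro σ
    exact res_refl _ (pullSec i σ)
  intro m
  refine hbc.inductionOn m (motive := fun m => ∃ σ : Γ(L, W), pullSec i σ = m) ?_ ?_ ?_ ?_
  · exact ⟨0, by rw [← heq, map_zero]⟩
  · intro σ
    exact ⟨σ, (heq σ).symm⟩
  · rintro a n ⟨σ, rfl⟩
    obtain ⟨b, rfl⟩ := hs a
    refine ⟨b • σ, ?_⟩
    rw [pullSec_smul, Scheme.Hom.app_eq_appLE]
  · rintro m n ⟨σ, rfl⟩ ⟨τ, rfl⟩
    exact ⟨σ + τ, pullSec_add i σ τ⟩

lemma isUnit_of_app [Surjective i] {U : P.Opens} {a : Γ(P, U)} (h : IsUnit (i.app U a)) :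
    IsUnit a := by
  apply P.toRingedSpace.isUnit_of_isUnit_germ
  intro x hx
  obtain ⟨x', rfl⟩ := i.surjective x
  have h1 := h.map (P'.presheaf.germ (i ⁻¹ᵁ U) x' hx).hom
  have h2 := Scheme.Hom.germ_stalkMap_apply i U x' hx a
  have h3 : IsUnit ((i.stalkMap x').hom (P.presheaf.germ U (i x') hx a)) := by
    rw [h2]; exact h1
  exact isUnit_of_map_unit (i.stalkMap x').hom _ h3

lemma isGen_of_pullSec [Surjective i] (hL : PicF.IsInvertible L) {W : P.Opens} {σ : Γ(L, W)}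
    (h : IsGen (pullSec i σ)) : IsGen σ := by
  rw [isGen_iff_forall_exists]
  intro x hx
  obtain ⟨U, e, hxU, he⟩ := (isInvertible_iff L).mp hL x
  refine ⟨U ⊓ W, inf_le_right, ⟨hxU, hx⟩, ?_⟩
  have he' : IsGen (res L (inf_le_left : U ⊓ W ≤ U) e) := he.res _
  obtain ⟨a, ha⟩ := he'.exists_eq (res L (inf_le_right : U ⊓ W ≤ W) σ)
  rw [ha]
  refine he'.unit_smul (isUnit_of_app i ?_)
  refine (he'.pullSec i).isUnit_of_smul ?_
  rw [← pullSec_smul, ← ha, ← res_pullSec]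
  exact h.res _

/-- Lifting a generator of the restriction to a nilpotent closed subscheme. -/
lemma exists_lift [IsClosedImmersion i] [Surjective i] (hL : PicF.IsInvertible L) {W : P.Opens}
    (hW : IsAffineOpen W) {m : Γ((Scheme.Modules.pullback i).obj L, i ⁻¹ᵁ W)} (hm : IsGen m) :
    ∃ σ : Γ(L, W), pullSec i σ = m ∧ IsGen σ := by
  obtain ⟨σ, rfl⟩ := pullSec_surjective i hL hW m
  exact ⟨σ, rfl, isGen_of_pullSec i hL hm⟩

open CubeSec

variable {S S' : Scheme.{u}} {p : P ⟶ S} {p' : P' ⟶ S'} {g : S' ⟶ S}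

/-- The action of `Sec p W` on `Γ(L, W)`. -/
noncomputable def act (p : P ⟶ S) {W : P.Opens} (a : Sec p W) (m : Γ(L, W)) : Γ(L, W) :=
  ((toSec p W).symm a) • m

lemma act_one {W : P.Opens} (m : Γ(L, W)) : act p 1 m = m := by
  rw [act, map_one, one_smul]

lemma act_mul {W : P.Opens} (a b : Sec p W) (m : Γ(L, W)) :
    act p (a * b) m = act p a (act p b m) := by
  rw [act, act, act, map_mul, mul_smul]

lemma res_act {W W' : P.Opens} (h : W' ≤ W) (a : Sec p W) (m : Γ(L, W)) :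
    LocGen.res L h (act p a m) = act p (CubeSec.res p h a) (LocGen.res L h m) := by
  rw [act, res_smul]
  rfl

lemma act_ext {W : P.Opens} {m : Γ(L, W)} (hm : IsGen m) {a b : Sec p W}
    (h : act p a m = act p b m) : a = b :=
  (toSec p W).symm.injective (hm.ext h)

lemma isGen_act {W : P.Opens} {m : Γ(L, W)} (hm : IsGen m) {a : Sec p W} (ha : IsUnit a) :
    IsGen (act p a m) :=
  hm.unit_smul (ha.map (toSec p W).symm)

lemma exists_act {W : P.Opens} {m n : Γ(L, W)} (hm : IsGen m) (hn : IsGen n) :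
    ∃ a : Sec p W, IsUnit a ∧ n = act p a m := by
  obtain ⟨a, ha, rfl⟩ := hm.exists_unit hn
  exact ⟨toSec p W a, ha.map (toSec p W), by rw [act, RingEquiv.symm_apply_apply]⟩

/-- Two lifts differ by a factor `1 + ε c`. -/
lemma exists_ratio [IsAffine S] [IsClosedImmersion g] (HP : IsPullback i p' p g)
    (ε : Γ(S, ⊤)) (hg : RingHom.ker g.appTop.hom = Ideal.span {ε})
    {W : P.Opens} (hW : IsAffineOpen W) {σ τ : Γ(L, W)} (hτ : IsGen τ)
    (h : pullSec i σ = pullSec i τ) :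
    ∃ c : Sec p W, σ = act p (1 + ε • c) τ := by
  obtain ⟨u, rfl⟩ := hτ.exists_eq σ
  have h1 : i.app W u = 1 := by
    refine (hτ.pullSec i).ext ?_
    rw [← pullSec_smul, h, one_smul]
  have h2 : u - 1 ∈ RingHom.ker (i.app W).hom := by
    rw [RingHom.mem_ker, map_sub, map_one, sub_eq_zero]
    exact h1
  obtain ⟨-, -, h3⟩ := Flat2D.ThickRed.app_of_isPullback HP (W := ⊤) (isAffineOpen_top S) hW le_top
  rw [h3] at h2
  have h4 : RingHom.ker (g.app ⊤).hom = Ideal.span {ε} := hg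
  rw [h4, Ideal.map_span, Set.image_singleton, Ideal.mem_span_singleton'] at h2
  obtain ⟨c, hc⟩ := h2
  refine ⟨toSec p W c, ?_⟩
  rw [act]
  congr 1
  rw [map_add, map_one, Algebra.smul_def, algebraMap_eq, ← map_mul, RingEquiv.symm_apply_apply,
    mul_comm, ← sub_eq_iff_eq_add']
  exact hc.symm

/-- Pulling back an action along a morphism. -/
lemma res_pullSec_act {Q : Scheme.{u}} (s : Q ⟶ P) {k : Q ⟶ S} (hs : s ≫ p = k) {W : P.Opens}
    {Z : Q.Opens} (h : Z ≤ s ⁻¹ᵁ W) (a : Sec p W) (m : Γ(L, W)) :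
    LocGen.res _ h (pullSec s (act p a m)) = act k (pull s hs h a) (LocGen.res _ h (pullSec s m)) := by
  rw [act, pullSec_smul, res_smul, act]
  rfl

end Groth.Agent.Grpsch.CubeLift
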