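import Groth.Prelude.Def_Pic
import Groth.Prelude.Def_CohB1
import Mathlib.AlgebraicGeometry.Morphisms.Flat
import Mathlib.AlgebraicGeometry.Morphisms.Proper
import Mathlib.AlgebraicGeometry.Morphisms.FlatMono
import Mathlib.AlgebraicGeometry.Morphisms.Immersion
import Mathlib.AlgebraicGeometry.Geometrically.Integral
import Mathlib.AlgebraicGeometry.Fiber
import Mathlib.RingTheory.Nakayama

/-!
An immersion locally of finite presentation satisfying a lifting property for small extensions
of quotients of the local rings of the target is an open immersion.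
-/

set_option autoImplicit false
universe u
open AlgebraicGeometry CategoryTheory Limits

namespace Groth.Agent.Grpsch.CubeOpen

/-- An immersion into the spectrum of a local ring hitting the closed point is a closed
immersion. -/
lemma isClosedImmersion_of_closedPoint_mem {R : CommRingCat.{u}} [IsLocalRing R] {P : Scheme.{u}}
    (p : P ⟶ Spec R) [IsImmersion p] (h : IsLocalRing.closedPoint R ∈ Set.range p) :
    IsClosedImmersion p := by
  have h2 : p.coborderRange = ⊤ :=
    IsLocalRing.closed_point_mem_iff.mp (subset_coborder h)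
  have h3 : IsIso p.coborderRange.ι := by
    apply isIso_of_isOpenImmersion_of_opensRange_eq_top
    rw [Scheme.Opens.opensRange_ι, h2]
  rw [← Scheme.Hom.liftCoborder_ι p]
  infer_instance

/-- A finitely generated nonzero ideal `I` of a local ring is of the form `I₁ + (t)` with
`𝔪 t ⊆ I₁`, `t ∉ I₁`. -/
lemma exists_small {R : Type u} [CommRing R] [IsLocalRing R] (I : Ideal R) (hI : I.FG)
    (h0 : I ≠ ⊥) : ∃ (I₁ : Ideal R) (t : R), t ∉ I₁ ∧ t ∈ I ∧
      (∀ a ∈ IsLocalRing.maximalIdeal R, a * t ∈ I₁) ∧ I₁ ⊔ Ideal.span {t} = I := by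
  have : Module.Finite R I := Module.Finite.iff_fg.mpr hI
  have hnak : IsLocalRing.maximalIdeal R • (⊤ : Submodule R I) ≠ ⊤ := by
    intro hh
    have h1 : (⊤ : Submodule R I) = ⊥ :=
      Submodule.eq_bot_of_le_smul_of_le_jacobson_bot (IsLocalRing.maximalIdeal R) ⊤
        Module.Finite.fg_top hh.ge (IsLocalRing.maximalIdeal_le_jacobson _)
    apply h0
    rw [eq_bot_iff]
    intro x hx
    have h2 : (⟨x, hx⟩ : I) ∈ (⊤ : Submodule R I) := trivial
    rw [h1, Submodule.mem_bot] at h2
    simpa using congrArg Subtype.val h2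
  obtain ⟨C, hC, hle⟩ := (eq_top_or_exists_le_coatom
    (IsLocalRing.maximalIdeal R • (⊤ : Submodule R I))).resolve_left hnak
  obtain ⟨t, ht⟩ : ∃ t, t ∉ C := by
    by_contra hh
    push Not at hh
    exact hC.1 (eq_top_iff.mpr fun x _ => hh x)
  refine ⟨C.map I.subtype, t, ?_, t.2, ?_, ?_⟩
  · rintro ⟨y, hy, hyt⟩
    exact ht ((Subtype.ext hyt : y = t) ▸ hy)
  · intro a ha
    exact ⟨a • t, hle (Submodule.smul_mem_smul ha trivial), rfl⟩
  · have h1 : C ⊔ Submodule.span R {t} = ⊤ := by
      refine hC.2 _ (lt_of_le_of_ne le_sup_left fun hh => ht ?_)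
      rw [hh]
      exact Submodule.mem_sup_right (Submodule.mem_span_singleton_self t)
    have h2 := congrArg (Submodule.map I.subtype) h1
    rw [Submodule.map_sup, Submodule.map_span, Set.image_singleton, Submodule.map_top,
      Submodule.range_subtype] at h2
    exact h2

/-- Version of the criterion over the spectrum of a local ring. -/
lemma ideal_eq_bot {R : CommRingCat.{u}} [IsLocalRing R] {P : Scheme.{u}}
    (p : P ⟶ Spec R) [IsImmersion p] [LocallyOfFinitePresentation p]
    (h : IsLocalRing.closedPoint R ∈ Set.range p)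
    (H : ∀ (I₁ : Ideal R) (t : R), t ∉ I₁ →
      (∀ a ∈ IsLocalRing.maximalIdeal R, a * t ∈ I₁) →
      (∃ g : Spec (CommRingCat.of (R ⧸ (I₁ ⊔ Ideal.span {t}))) ⟶ P,
        g ≫ p = Spec.map (CommRingCat.ofHom (Ideal.Quotient.mk (I₁ ⊔ Ideal.span {t})))) →
      ∃ g : Spec (CommRingCat.of (R ⧸ I₁)) ⟶ P,
        g ≫ p = Spec.map (CommRingCat.ofHom (Ideal.Quotient.mk I₁))) : IsIso p := by
  have h1 := isClosedImmersion_of_closedPoint_mem p h
  obtain ⟨I, e, he⟩ := IsClosedImmersion.Spec_iff.mp h1
  have hfp : LocallyOfFinitePresentation (Spec.map (CommRingCat.ofHom (Ideal.Quotient.mk I))) := by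
    have : Spec.map (CommRingCat.ofHom (Ideal.Quotient.mk I)) = e.inv ≫ p := by rw [he]; simp
    rw [this]; infer_instance
  have hfp2 : (Ideal.Quotient.mk I).FinitePresentation := by
    simpa using (HasRingHomProperty.Spec_iff (P := @LocallyOfFinitePresentation)).mp hfp
  have hIfg : I.FG := by
    have h3 : Algebra.FinitePresentation R (R ⧸ I) := hfp2
    have := Algebra.FinitePresentation.ker_fG_of_surjective (R := R) (Algebra.ofId R (R ⧸ I))
      Ideal.Quotient.mk_surjective
    rwa [show RingHom.ker (Algebra.ofId R (R ⧸ I)).toRingHom = I from Ideal.mk_ker] at this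
  have hI : I = ⊥ := by
    by_contra h0
    obtain ⟨I₁, t, ht, htI, hmt, hsup⟩ := exists_small I hIfg h0
    obtain ⟨g, hg⟩ := H I₁ t ht hmt ⟨Spec.map (CommRingCat.ofHom (Ideal.quotEquivOfEq hsup.symm).toRingHom) ≫ e.inv, by
      rw [he]
      simp only [Category.assoc, Iso.inv_hom_id_assoc]
      rw [← Spec.map_comp]
      rfl⟩
    have h4 : Spec.map (Spec.preimage (g ≫ e.hom)) = g ≫ e.hom := Spec.map_preimage _
    have h5 : CommRingCat.ofHom (Ideal.Quotient.mk I) ≫ Spec.preimage (g ≫ e.hom) =
        CommRingCat.ofHom (Ideal.Quotient.mk I₁) := by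
      apply Spec.map_injective
      rw [Spec.map_comp, h4, ← hg, he]
      simp
    apply ht
    have h6 := congrArg (fun f => f.hom t) h5
    simp only [CommRingCat.hom_comp, RingHom.comp_apply, CommRingCat.hom_ofHom] at h6
    rw [Ideal.Quotient.eq_zero_iff_mem.mpr htI, map_zero] at h6
    exact Ideal.Quotient.eq_zero_iff_mem.mp h6.symm
  subst hI
  have : IsIso (Spec.map (CommRingCat.ofHom (Ideal.Quotient.mk (⊥ : Ideal R)))) := by
    have : IsIso (CommRingCat.ofHom (Ideal.Quotient.mk (⊥ : Ideal R))) :=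
      (RingEquiv.quotientBot R).symm.toCommRingCatIso.isIso_hom
    infer_instance
  rw [he]
  infer_instance

theorem isOpenImmersion_of_lift {W Z : Scheme.{u}} (j : W ⟶ Z) [IsImmersion j]
    [LocallyOfFinitePresentation j]
    (h : ∀ (z : Z) (I₁ : Ideal (Z.presheaf.stalk z)) (t : Z.presheaf.stalk z), t ∉ I₁ →
      (∀ a ∈ IsLocalRing.maximalIdeal (Z.presheaf.stalk z), a * t ∈ I₁) →
      (∃ g : Spec (CommRingCat.of (Z.presheaf.stalk z ⧸ (I₁ ⊔ Ideal.span {t}))) ⟶ W,
        g ≫ j = Spec.map (CommRingCat.ofHom (Ideal.Quotient.mk (I₁ ⊔ Ideal.span {t}))) ≫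
          Z.fromSpecStalk z) →
      ∃ g : Spec (CommRingCat.of (Z.presheaf.stalk z ⧸ I₁)) ⟶ W,
        g ≫ j = Spec.map (CommRingCat.ofHom (Ideal.Quotient.mk I₁)) ≫ Z.fromSpecStalk z) :
    IsOpenImmersion j := by
  have hflat : Flat j := by
    rw [Flat.iff_flat_stalkMap]
    intro w
    have hcl : IsLocalRing.closedPoint (Z.presheaf.stalk (j w)) ∈
        Set.range (pullback.snd j (Z.fromSpecStalk (j w))) := by
      obtain ⟨x, -, hx⟩ := Scheme.Pullback.exists_preimage_pullback w
        (IsLocalRing.closedPoint (Z.presheaf.stalk (j w)))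
        (f := j) (g := Z.fromSpecStalk (j w)) (by rw [Scheme.fromSpecStalk_closedPoint])
      exact ⟨x, hx⟩
    have hiso : IsIso (pullback.snd j (Z.fromSpecStalk (j w))) := by
      refine ideal_eq_bot _ hcl fun I₁ t ht hmt ⟨g, hg⟩ => ?_
      obtain ⟨g', hg'⟩ := h (j w) I₁ t ht hmt ⟨g ≫ pullback.fst _ _, by
        rw [Category.assoc, pullback.condition, ← Category.assoc, hg]⟩
      exact ⟨pullback.lift g' _ hg', pullback.lift_snd _ _ _⟩
    obtain ⟨g, hg⟩ : ∃ g : Spec (Z.presheaf.stalk (j w)) ⟶ W, g ≫ j = Z.fromSpecStalk (j w) :=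
      ⟨inv (pullback.snd j (Z.fromSpecStalk (j w))) ≫ pullback.fst _ _, by
        rw [Category.assoc, pullback.condition, IsIso.inv_hom_id_assoc]⟩
    have hgc : g (IsLocalRing.closedPoint (Z.presheaf.stalk (j w))) = w := by
      apply j.injective
      rw [← Scheme.Hom.comp_apply, hg, Scheme.fromSpecStalk_closedPoint]
    have hiso2 : IsIso (Scheme.stalkClosedPointTo (g ≫ j)) := by
      have : ∀ f, f = Z.fromSpecStalk (j w) → IsIso (Scheme.stalkClosedPointTo f) := by
        rintro _ rfl
        rw [Scheme.stalkClosedPointTo_fromSpecStalk]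
        infer_instance
      exact this _ hg
    have hinj := (ConcreteCategory.bijective_of_isIso (Scheme.stalkClosedPointTo (g ≫ j))).1
    have key : (j.stalkMap (g (IsLocalRing.closedPoint (Z.presheaf.stalk (j w))))).hom.Flat := by
      apply RingHom.Flat.of_bijective
      refine ⟨fun a b hab => hinj ?_, j.stalkMap_surjective _⟩
      have e := Scheme.stalkClosedPointTo_comp g j
      have e2 := fun a => congrArg (fun f => f.hom a) e
      refine (e2 a).trans (Eq.trans ?_ (e2 b).symm)
      exact congrArg (Scheme.stalkClosedPointTo g).hom hab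
    rwa [hgc] at key
  have : Mono j := inferInstance
  exact IsOpenImmersion.of_flat_of_mono j

end Groth.Agent.Grpsch.CubeOpen
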