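import Groth.Agent.Grpsch.CubeOpen

/-!
Variant of `CubeOpen.isOpenImmersion_of_lift` with `t` in the maximal ideal.
-/

set_option autoImplicit false
universe u
open AlgebraicGeometry CategoryTheory Limits

namespace Groth.Agent.Grpsch.CubeOpen2

open CubeOpen

/-- Version of the criterion over the spectrum of a local ring. -/
lemma ideal_eq_bot {R : CommRingCat.{u}} [IsLocalRing R] {P : Scheme.{u}}
    (p : P ⟶ Spec R) [IsImmersion p] [LocallyOfFinitePresentation p]
    (h : IsLocalRing.closedPoint R ∈ Set.range p)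
    (H : ∀ (I₁ : Ideal R) (t : R), t ∉ I₁ → t ∈ IsLocalRing.maximalIdeal R →
      (∀ a ∈ IsLocalRing.maximalIdeal R, a * t ∈ I₁) →
      (∃ g : Spec (CommRingCat.of (R ⧸ (I₁ ⊔ Ideal.span {t}))) ⟶ P,
        g ≫ p = Spec.map (CommRingCat.ofHom (Ideal.Quotient.mk (I₁ ⊔ Ideal.span {t})))) →
      ∃ g : Spec (CommRingCat.of (R ⧸ I₁)) ⟶ P,
        g ≫ p = Spec.map (CommRingCat.ofHom (Ideal.Quotient.mk I₁))) : IsIso p := by
  have h1 := isClosedImmersion_of_closedPoint_mem p h
  obtain ⟨I, e, he⟩ := IsClosedImmersion.Spec_iff.mp h1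
  have hfp : LocallyOfFinitePresentation (Spec.map (CommRingCat.ofHom (Ideal.Quotient.mk I))) := by
    have : Spec.map (CommRingCat.ofHom (Ideal.Quotient.mk I)) = e.inv ≫ p := by rw [he]; simp
    rw [this]; infer_instance
  have hfp2 : (Ideal.Quotient.mk I).FinitePresentation := by
    simpa using (HasRingHomProperty.Spec_iff (P := @LocallyOfFinitePresentation)).mp hfp
  have hIfg : I.FG := by
    have h3 : Algebra.FinitePresentation R (R ⧸ I) := hfp2
    have := Algebra.FinitePresentation.ker_fG_of_surjective (R := R) (Algebra.ofId R (R ⧸ I))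
      Ideal.Quotient.mk_surjective
    rwa [show RingHom.ker (Algebra.ofId R (R ⧸ I)).toRingHom = I from Ideal.mk_ker] at this
  have hI : I = ⊥ := by
    by_contra h0
    obtain ⟨I₁, t, ht, htI, hmt, hsup⟩ := exists_small I hIfg h0
    have hItop : I ≠ ⊤ := by
      rintro rfl
      obtain ⟨x, -⟩ := h
      have hx := e.hom x
      have : Subsingleton (R ⧸ (⊤ : Ideal R)) := Ideal.Quotient.subsingleton_iff.mpr rfl
      have : IsEmpty (PrimeSpectrum (R ⧸ (⊤ : Ideal R))) := inferInstance
      exact this.false hx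
    obtain ⟨g, hg⟩ := H I₁ t ht (IsLocalRing.le_maximalIdeal hItop htI) hmt ⟨Spec.map (CommRingCat.ofHom (Ideal.quotEquivOfEq hsup.symm).toRingHom) ≫ e.inv, by
      rw [he]
      simp only [Category.assoc, Iso.inv_hom_id_assoc]
      rw [← Spec.map_comp]
      rfl⟩
    have h4 : Spec.map (Spec.preimage (g ≫ e.hom)) = g ≫ e.hom := Spec.map_preimage _
    have h5 : CommRingCat.ofHom (Ideal.Quotient.mk I) ≫ Spec.preimage (g ≫ e.hom) =
        CommRingCat.ofHom (Ideal.Quotient.mk I₁) := by
      apply Spec.map_injective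
      rw [Spec.map_comp, h4, ← hg, he]
      simp
    apply ht
    have h6 := congrArg (fun f => f.hom t) h5
    simp only [CommRingCat.hom_comp, RingHom.comp_apply, CommRingCat.hom_ofHom] at h6
    rw [Ideal.Quotient.eq_zero_iff_mem.mpr htI, map_zero] at h6
    exact Ideal.Quotient.eq_zero_iff_mem.mp h6.symm
  subst hI
  have : IsIso (Spec.map (CommRingCat.ofHom (Ideal.Quotient.mk (⊥ : Ideal R)))) := by
    have : IsIso (CommRingCat.ofHom (Ideal.Quotient.mk (⊥ : Ideal R))) :=
      (RingEquiv.quotientBot R).symm.toCommRingCatIso.isIso_hom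
    infer_instance
  rw [he]
  infer_instance

theorem isOpenImmersion_of_lift {W Z : Scheme.{u}} (j : W ⟶ Z) [IsImmersion j]
    [LocallyOfFinitePresentation j]
    (h : ∀ (z : Z) (I₁ : Ideal (Z.presheaf.stalk z)) (t : Z.presheaf.stalk z), t ∉ I₁ →
      t ∈ IsLocalRing.maximalIdeal (Z.presheaf.stalk z) →
      (∀ a ∈ IsLocalRing.maximalIdeal (Z.presheaf.stalk z), a * t ∈ I₁) →
      (∃ g : Spec (CommRingCat.of (Z.presheaf.stalk z ⧸ (I₁ ⊔ Ideal.span {t}))) ⟶ W,
        g ≫ j = Spec.map (CommRingCat.ofHom (Ideal.Quotient.mk (I₁ ⊔ Ideal.span {t}))) ≫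
          Z.fromSpecStalk z) →
      ∃ g : Spec (CommRingCat.of (Z.presheaf.stalk z ⧸ I₁)) ⟶ W,
        g ≫ j = Spec.map (CommRingCat.ofHom (Ideal.Quotient.mk I₁)) ≫ Z.fromSpecStalk z) :
    IsOpenImmersion j := by
  have hflat : Flat j := by
    rw [Flat.iff_flat_stalkMap]
    intro w
    have hcl : IsLocalRing.closedPoint (Z.presheaf.stalk (j w)) ∈
        Set.range (pullback.snd j (Z.fromSpecStalk (j w))) := by
      obtain ⟨x, -, hx⟩ := Scheme.Pullback.exists_preimage_pullback w
        (IsLocalRing.closedPoint (Z.presheaf.stalk (j w)))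
        (f := j) (g := Z.fromSpecStalk (j w)) (by rw [Scheme.fromSpecStalk_closedPoint])
      exact ⟨x, hx⟩
    have hiso : IsIso (pullback.snd j (Z.fromSpecStalk (j w))) := by
      refine ideal_eq_bot _ hcl fun I₁ t ht htm hmt ⟨g, hg⟩ => ?_
      obtain ⟨g', hg'⟩ := h (j w) I₁ t ht htm hmt ⟨g ≫ pullback.fst _ _, by
        rw [Category.assoc, pullback.condition, ← Category.assoc, hg]⟩
      exact ⟨pullback.lift g' _ hg', pullback.lift_snd _ _ _⟩
    obtain ⟨g, hg⟩ : ∃ g : Spec (Z.presheaf.stalk (j w)) ⟶ W, g ≫ j = Z.fromSpecStalk (j w) :=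
      ⟨inv (pullback.snd j (Z.fromSpecStalk (j w))) ≫ pullback.fst _ _, by
        rw [Category.assoc, pullback.condition, IsIso.inv_hom_id_assoc]⟩
    have hgc : g (IsLocalRing.closedPoint (Z.presheaf.stalk (j w))) = w := by
      apply j.injective
      rw [← Scheme.Hom.comp_apply, hg, Scheme.fromSpecStalk_closedPoint]
    have hiso2 : IsIso (Scheme.stalkClosedPointTo (g ≫ j)) := by
      have : ∀ f, f = Z.fromSpecStalk (j w) → IsIso (Scheme.stalkClosedPointTo f) := by
        rintro _ rfl
        rw [Scheme.stalkClosedPointTo_fromSpecStalk]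
        infer_instance
      exact this _ hg
    have hinj := (ConcreteCategory.bijective_of_isIso (Scheme.stalkClosedPointTo (g ≫ j))).1
    have key : (j.stalkMap (g (IsLocalRing.closedPoint (Z.presheaf.stalk (j w))))).hom.Flat := by
      apply RingHom.Flat.of_bijective
      refine ⟨fun a b hab => hinj ?_, j.stalkMap_surjective _⟩
      have e := Scheme.stalkClosedPointTo_comp g j
      have e2 := fun a => congrArg (fun f => f.hom a) e
      refine (e2 a).trans (Eq.trans ?_ (e2 b).symm)
      exact congrArg (Scheme.stalkClosedPointTo g).hom hab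
    rwa [hgc] at key
  have : Mono j := inferInstance
  exact IsOpenImmersion.of_flat_of_mono j

end Groth.Agent.Grpsch.CubeOpen2
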