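import Groth.Agent.Grpsch.CubeData
import Groth.Agent.S0981

/-!
# The direct image of the structure sheaf in the situation of the theorem of the cube
-/

set_option autoImplicit false
universe u v

open AlgebraicGeometry CategoryTheory Limits

namespace Groth.Agent.Grpsch.CubeData

/-- Composites of flat geometrically integral morphisms locally of finite presentation. -/
lemma geometricallyIntegral_comp {X Y Z : Scheme.{u}} (f : X ⟶ Y) (g : Y ⟶ Z)
    [GeometricallyIntegral f] [GeometricallyIntegral g] [Flat f] [LocallyOfFinitePresentation f]
    [LocallyOfFiniteType g] : GeometricallyIntegral (f ≫ g) := by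
  refine ⟨fun K _ x Z' fst snd hZ => ?_⟩
  have h1 : IsIntegral (pullback g x) :=
    GeometricallyIntegral.geometrically_isIntegral _ _ _ (.of_hasPullback _ _)
  have h2 : IsLocallyNoetherian (pullback g x) :=
    LocallyOfFiniteType.isLocallyNoetherian (pullback.snd g x)
  have h3 : IsIntegral (pullback f (pullback.fst g x)) := inferInstance
  have h4 : Nonempty Z' := by
    obtain ⟨z⟩ := (inferInstance : Nonempty (pullback f (pullback.fst g x) : Scheme))
    exact ⟨(hZ.isoPullback.inv) ((pullbackRightPullbackFstIso g x f).hom z)⟩
  exact isIntegral_of_isOpenImmersion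
    (hZ.isoPullback.hom ≫ (pullbackRightPullbackFstIso g x f).inv)

/-- `f_* O = O` for flat proper morphisms with geometrically integral fibres. -/
theorem isIso_app {X S : Scheme.{u}} (f : X ⟶ S) [IsProper f] [Flat f]
    [LocallyOfFinitePresentation f] [GeometricallyIntegral f] (V : S.Opens) : IsIso (f.app V) := by
  refine S0981.result f (fun K _ _ g => ?_) V
  have h1 : IsIntegral (pullback f g) :=
    GeometricallyIntegral.geometrically_isIntegral _ _ _ (.of_hasPullback _ _)
  exact ⟨inferInstance, inferInstance⟩

lemma bijective_appTop {X S : Scheme.{u}} (f : X ⟶ S) [IsProper f] [Flat f]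
    [LocallyOfFinitePresentation f] [GeometricallyIntegral f] :
    Function.Bijective f.appTop.hom := by
  have h1 : IsIso f.appTop := isIso_app f ⊤
  exact ConcreteCategory.bijective_of_isIso f.appTop

end Groth.Agent.Grpsch.CubeData
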