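import Mathlib.AlgebraicGeometry.Morphisms.Flat
import Mathlib.Algebra.Category.Ring.Constructions
import Mathlib.RingTheory.TensorProduct.Pi
import Groth.Agent.Grpsch.CubeAlg

/-!
# Sections over products of opens as tensor products

`Sec f U` is `Γ(X, U)` seen as a `Γ(S, ⊤)`-algebra through `f : X ⟶ S`.
-/

set_option autoImplicit false
universe u

open AlgebraicGeometry CategoryTheory Limits TensorProduct

namespace Groth.Agent.Grpsch.CubeSec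

variable {S X Y P Q : Scheme.{u}}

/-- Sections of `X` over `U` as a `Γ(S, ⊤)`-algebra through `f`. -/
def Sec (_f : X ⟶ S) (U : X.Opens) : Type u := Γ(X, U)

noncomputable instance (f : X ⟶ S) (U : X.Opens) : CommRing (Sec f U) :=
  inferInstanceAs (CommRing Γ(X, U))

noncomputable instance (f : X ⟶ S) (U : X.Opens) : Algebra Γ(S, ⊤) (Sec f U) :=
  RingHom.toAlgebra (S := Sec f U) (f.appLE ⊤ U le_top).hom

/-- The identity `Γ(X, U) = Sec f U`, as a ring isomorphism. -/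
noncomputable def toSec (f : X ⟶ S) (U : X.Opens) : Γ(X, U) ≃+* Sec f U := RingEquiv.refl _

lemma algebraMap_eq (f : X ⟶ S) (U : X.Opens) (r : Γ(S, ⊤)) :
    algebraMap Γ(S, ⊤) (Sec f U) r = toSec f U ((f.appLE ⊤ U le_top).hom r) := rfl

/-- Pullback and restriction of sections. -/
noncomputable def pull (q : P ⟶ X) {f : X ⟶ S} {g : P ⟶ S} (hq : q ≫ f = g) {U : X.Opens}
    {W : P.Opens} (h : W ≤ q ⁻¹ᵁ U) : Sec f U →ₐ[Γ(S, ⊤)] Sec g W :=
  { ((q.appLE U W h).hom : Γ(X, U) →+* Γ(P, W)) with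
    commutes' := fun r => by
      subst hq
      exact congr(($(Scheme.Hom.appLE_comp_appLE q f ⊤ U W le_top h)).hom r) }

lemma pull_toSec (q : P ⟶ X) {f : X ⟶ S} {g : P ⟶ S} (hq : q ≫ f = g) {U : X.Opens}
    {W : P.Opens} (h : W ≤ q ⁻¹ᵁ U) (a : Γ(X, U)) :
    pull q hq h (toSec f U a) = toSec g W ((q.appLE U W h).hom a) := rfl

/-- Restriction of sections. -/
noncomputable def res (f : X ⟶ S) {U V : X.Opens} (h : V ≤ U) :
    Sec f U →ₐ[Γ(S, ⊤)] Sec f V :=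
  { ((X.presheaf.map (homOfLE h).op).hom : Γ(X, U) →+* Γ(X, V)) with
    commutes' := fun r => by
      exact congr(($(Scheme.Hom.appLE_map f (U := ⊤) (V := U) (V' := V) le_top (homOfLE h).op)).hom r) }

lemma res_toSec (f : X ⟶ S) {U V : X.Opens} (h : V ≤ U) (a : Γ(X, U)) :
    res f h (toSec f U a) = toSec f V ((X.presheaf.map (homOfLE h).op).hom a) := rfl

lemma res_res (f : X ⟶ S) {U V W : X.Opens} (h : V ≤ U) (h' : W ≤ V) (a : Sec f U) :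
    res f h' (res f h a) = res f (h'.trans h) a := by
  exact congr(($((X.presheaf.map_comp (homOfLE h).op (homOfLE h').op).symm)).hom a)

lemma res_pull (q : P ⟶ X) {f : X ⟶ S} {g : P ⟶ S} (hq : q ≫ f = g) {U : X.Opens}
    {W W' : P.Opens} (h : W ≤ q ⁻¹ᵁ U) (h' : W' ≤ W) (a : Sec f U) :
    res g h' (pull q hq h a) = pull q hq (h'.trans h) a :=
  congr(($(Scheme.Hom.appLE_map q (U := U) (V := W) (V' := W') h (homOfLE h').op)).hom a)

lemma pull_res (q : P ⟶ X) {f : X ⟶ S} {g : P ⟶ S} (hq : q ≫ f = g) {U U' : X.Opens}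
    {W : P.Opens} (h' : U' ≤ U) (h : W ≤ q ⁻¹ᵁ U') (a : Sec f U) :
    pull q hq h (res f h' a) = pull q hq (h.trans (q.preimage_mono h')) a :=
  congr(($(Scheme.Hom.map_appLE q (U := U') (U' := U) (V := W) h (homOfLE h').op)).hom a)

lemma pull_pull (q : P ⟶ X) (p : Q ⟶ P) {f : X ⟶ S} {g : P ⟶ S} {k : Q ⟶ S} (hq : q ≫ f = g)
    (hp : p ≫ g = k) {U : X.Opens} {W : P.Opens} {Z : Q.Opens} (h : W ≤ q ⁻¹ᵁ U)
    (h' : Z ≤ p ⁻¹ᵁ W) (a : Sec f U) :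
    pull p hp h' (pull q hq h a) =
      pull (p ≫ q) (by rw [Category.assoc, hq, hp])
        (h'.trans (p.preimage_mono h)) a :=
  congr(($(Scheme.Hom.appLE_comp_appLE p q U W Z h h')).hom a)

lemma flat_sec (f : X ⟶ S) [Flat f] [IsAffine S] {U : X.Opens} (hU : IsAffineOpen U) :
    Module.Flat Γ(S, ⊤) (Sec f U) :=
  f.flat_appLE (isAffineOpen_top S) hU le_top

variable (q₁ : P ⟶ X) (q₂ : P ⟶ Y) {pX : X ⟶ S} {pY : Y ⟶ S} {p : P ⟶ S}
  (h₁ : q₁ ≫ pX = p) (h₂ : q₂ ≫ pY = p)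

/-- External product of sections. -/
noncomputable def mul {U : X.Opens} {V : Y.Opens} {W : P.Opens} (hU : W ≤ q₁ ⁻¹ᵁ U)
    (hV : W ≤ q₂ ⁻¹ᵁ V) : Sec pX U ⊗[Γ(S, ⊤)] Sec pY V →ₐ[Γ(S, ⊤)] Sec p W :=
  Algebra.TensorProduct.productMap (pull q₁ h₁ hU) (pull q₂ h₂ hV)

lemma mul_tmul {U : X.Opens} {V : Y.Opens} {W : P.Opens} (hU : W ≤ q₁ ⁻¹ᵁ U)
    (hV : W ≤ q₂ ⁻¹ᵁ V) (a : Sec pX U) (b : Sec pY V) :
    mul q₁ q₂ h₁ h₂ hU hV (a ⊗ₜ b) = pull q₁ h₁ hU a * pull q₂ h₂ hV b := rfl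

lemma bijective_of_isPushout {R A B : Type u} {C : CommRingCat.{u}} [CommRing R] [CommRing A]
    [CommRing B] [Algebra R A] [Algebra R B]
    {a : CommRingCat.of A ⟶ C} {b : CommRingCat.of B ⟶ C}
    (h : IsPushout (CommRingCat.ofHom (algebraMap R A)) (CommRingCat.ofHom (algebraMap R B)) a b)
    (φ : A ⊗[R] B →+* C) (ha : ∀ x, φ (x ⊗ₜ 1) = a x) (hb : ∀ x, φ (1 ⊗ₜ x) = b x) :
    Function.Bijective φ := by
  have h4 := CommRingCat.isPushout_tensorProduct R A B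
  let e := h4.isoIsPushout _ _ h
  have h5 : CommRingCat.ofHom φ = e.hom := by
    refine h4.hom_ext ?_ ?_
    · rw [IsPushout.inl_isoIsPushout_hom]
      ext x
      exact ha x
    · rw [IsPushout.inr_isoIsPushout_hom]
      ext x
      exact hb x
  have h6 : Function.Bijective e.hom := ConcreteCategory.bijective_of_isIso e.hom
  rw [← h5] at h6
  exact h6

lemma mul_bijective [IsAffine S] (H : IsPullback q₁ q₂ pX pY) {U : X.Opens} {V : Y.Opens}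
    (hU : IsAffineOpen U) (hV : IsAffineOpen V) :
    Function.Bijective (mul q₁ q₂ h₁ h₂ (inf_le_left : q₁ ⁻¹ᵁ U ⊓ q₂ ⁻¹ᵁ V ≤ _)
      (inf_le_right : q₁ ⁻¹ᵁ U ⊓ q₂ ⁻¹ᵁ V ≤ _)) := by
  have hi := isIso_pushoutSection_of_isAffineOpen H (US := ⊤) (UT := V) (UX := U) le_top le_top
    rfl (isAffineOpen_top S) hV hU
  have h3 := (isIso_pushoutSection_iff H _ _ _).mp hi
  exact bijective_of_isPushout (R := Γ(S, ⊤)) (A := Sec pX U) (B := Sec pY V)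
    (C := Γ(P, q₁ ⁻¹ᵁ U ⊓ q₂ ⁻¹ᵁ V)) h3
    (mul q₁ q₂ h₁ h₂ (inf_le_left : q₁ ⁻¹ᵁ U ⊓ q₂ ⁻¹ᵁ V ≤ _)
      (inf_le_right : q₁ ⁻¹ᵁ U ⊓ q₂ ⁻¹ᵁ V ≤ _)).toRingHom
    (fun x => Algebra.TensorProduct.productMap_left_apply (pull q₁ h₁ _) (pull q₂ h₂ _) x)
    (fun x => Algebra.TensorProduct.productMap_right_apply (pull q₁ h₁ _) (pull q₂ h₂ _) x)

end Groth.Agent.Grpsch.CubeSec
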