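import Groth.Agent.Grpsch.CubePush

/-!
# Lifting trivializations along small extensions of local rings
-/

set_option autoImplicit false
universe u v

open AlgebraicGeometry CategoryTheory Limits IsLocalRing
open Groth.Agent.Fdesc Groth.Agent.Fdesc.LocGen

namespace Groth.Agent.Grpsch.CubeData

namespace Data

variable {S T : Scheme.{u}} {D : Data S}

lemma Good.flat (h : D.Good) : Flat D.p := by
  have := h.flatX
  have := h.flatY
  have : Flat D.q₁ := MorphismProperty.of_isPullback D.H.flip h.flatY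
  infer_instance

lemma Good.proper (h : D.Good) : IsProper D.p := by
  have := h.properX
  have : IsProper D.q₁ := MorphismProperty.of_isPullback D.H.flip h.properY
  infer_instance

lemma Good.lfp (h : D.Good) : LocallyOfFinitePresentation D.p := by
  have := h.lfpX
  have : LocallyOfFinitePresentation D.q₁ := MorphismProperty.of_isPullback D.H.flip h.lfpY
  infer_instance

lemma Good.gi (h : D.Good) : GeometricallyIntegral D.p := by
  have := h.lfpX
  have := h.giX
  have : Flat D.q₁ := MorphismProperty.of_isPullback D.H.flip h.flatY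
  have : LocallyOfFinitePresentation D.q₁ := MorphismProperty.of_isPullback D.H.flip h.lfpY
  have : GeometricallyIntegral D.q₁ := MorphismProperty.of_isPullback D.H.flip h.giY
  exact geometricallyIntegral_comp _ _

/-- Lifting triviality along a small closed immersion of local affine schemes. -/
lemma Good.triv_of_small [IsAffine S] [IsLocalRing Γ(S, ⊤)] (h : D.Good) {S' : Scheme.{u}}
    (g : S' ⟶ S) [IsClosedImmersion g] [Surjective g] (ε : Γ(S, ⊤))
    (hε : ∀ a : Γ(S, ⊤), a * ε = 0 ↔ a ∈ maximalIdeal Γ(S, ⊤))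
    (hεm : ε ∈ maximalIdeal Γ(S, ⊤)) (hg : RingHom.ker g.appTop.hom = Ideal.span {ε})
    (L : D.P.Modules) (hL : PicF.IsInvertible L)
    (hs : Triv ((Scheme.Modules.pullback D.s).obj L))
    (hs' : Triv ((Scheme.Modules.pullback D.s').obj L))
    (hS' : Triv ((Scheme.Modules.pullback (pullback.fst D.p g)).obj L)) : Triv L := by
  have := h.flatX
  have := h.properX
  have := h.lfpX
  have := h.giX
  have := h.flatY
  have := h.properY
  have := h.lfpY
  have := h.giY
  obtain ⟨τ, hτ⟩ := triv_iff.mp hs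
  obtain ⟨τ', hτ'⟩ := triv_iff.mp hs'
  obtain ⟨ρ, hρ⟩ := triv_iff.mp hS'
  exact triv_iff.mpr (CubeDeform.deform (k := pullback.fst D.pY g) (pY' := pullback.snd D.pY g)
    D.H rfl D.q₂_pY (.of_hasPullback D.p g)
    (.of_hasPullback D.pY g) ε hε hεm hg (bijective_appTop D.pX).2 (bijective_appTop D.pY).2
    (bijective_appTop (pullback.snd D.pY g)).2 D.hx D.hy D.hs₁ D.hs₂ D.hs'₁ hL hτ hτ' hρ)

end Data

lemma ker_appTop_specMap {A B : CommRingCat.{u}} (φ : A ⟶ B) (t : A)
    (h : RingHom.ker φ.hom = Ideal.span {t}) :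
    RingHom.ker (Spec.map φ).appTop.hom = Ideal.span {(Scheme.ΓSpecIso A).inv.hom t} := by
  have h1 := Scheme.ΓSpecIso_naturality φ
  have key : ∀ x : Γ(Spec A, ⊤), x ∈ RingHom.ker (Spec.map φ).appTop.hom ↔
      (Scheme.ΓSpecIso A).hom.hom x ∈ RingHom.ker φ.hom := by
    intro x
    rw [RingHom.mem_ker, RingHom.mem_ker]
    have h2 : (Scheme.ΓSpecIso B).hom.hom ((Spec.map φ).appTop.hom x) =
        φ.hom ((Scheme.ΓSpecIso A).hom.hom x) := congr(($h1).hom x)
    rw [← h2]
    have hb : Function.Bijective (Scheme.ΓSpecIso B).hom.hom :=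
      ConcreteCategory.bijective_of_isIso (Scheme.ΓSpecIso B).hom
    exact (map_eq_zero_iff _ hb.1).symm
  have hAl : ∀ x, (Scheme.ΓSpecIso A).inv.hom ((Scheme.ΓSpecIso A).hom.hom x) = x :=
    fun x => congr(($((Scheme.ΓSpecIso A).hom_inv_id)).hom x)
  have hAr : ∀ x, (Scheme.ΓSpecIso A).hom.hom ((Scheme.ΓSpecIso A).inv.hom x) = x :=
    fun x => congr(($((Scheme.ΓSpecIso A).inv_hom_id)).hom x)
  ext x
  rw [key, h, Ideal.mem_span_singleton', Ideal.mem_span_singleton']
  constructor
  · rintro ⟨a, ha⟩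
    exact ⟨(Scheme.ΓSpecIso A).inv.hom a, by rw [← map_mul, ha, hAl]⟩
  · rintro ⟨a, rfl⟩
    exact ⟨(Scheme.ΓSpecIso A).hom.hom a, by rw [map_mul, hAr]⟩

instance isLocalRing_ΓSpec (A : CommRingCat.{u}) [IsLocalRing A] :
    IsLocalRing Γ(Spec A, ⊤) :=
  (Scheme.ΓSpecIso A).commRingCatIsoToRingEquiv.symm.isLocalRing

lemma mem_maximalIdeal_ΓSpec (A : CommRingCat.{u}) [IsLocalRing A] (x : A) :
    (Scheme.ΓSpecIso A).inv.hom x ∈ maximalIdeal Γ(Spec A, ⊤) ↔ x ∈ maximalIdeal A := by
  rw [mem_maximalIdeal, mem_maximalIdeal, mem_nonunits_iff, mem_nonunits_iff]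
  exact not_congr (MulEquiv.isUnit_map (Scheme.ΓSpecIso A).commRingCatIsoToRingEquiv.symm)

namespace Data

variable {S T : Scheme.{u}} {D : Data S}

/-- Lifting triviality along `Spec B ⟶ Spec A`, `B = A / (t)` with `Ann t = 𝔪`. -/
lemma Good.triv_of_small_spec {A B : CommRingCat.{u}} [IsLocalRing A] (φ : A ⟶ B)
    (hφ : Function.Surjective φ.hom) (t : A) (ht : t ≠ 0) (htm : t ∈ maximalIdeal A)
    (hmt : ∀ a ∈ maximalIdeal A, a * t = 0) (hker : RingHom.ker φ.hom = Ideal.span {t})
    {D : Data (Spec A)} (h : D.Good) (L : D.P.Modules) (hL : PicF.IsInvertible L)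
    (hs : Triv ((Scheme.Modules.pullback D.s).obj L))
    (hs' : Triv ((Scheme.Modules.pullback D.s').obj L))
    (hS' : Triv ((Scheme.Modules.pullback (pullback.fst D.p (Spec.map φ))).obj L)) :
    Triv L := by
  have hci : IsClosedImmersion (Spec.map φ) := IsClosedImmersion.spec_of_surjective φ hφ
  have hsurj : Surjective (Spec.map φ) := by
    have h1 : ∀ x : PrimeSpectrum A, x ∈ Set.range (PrimeSpectrum.comap φ.hom) := by
      intro x
      rw [range_comap_of_surjective _ _ hφ, hker, PrimeSpectrum.mem_zeroLocus,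
        SetLike.coe_subset_coe, Ideal.span_singleton_le_iff_mem]
      exact x.isPrime.mem_of_pow_mem 2 (by rw [pow_two, hmt t htm]; exact zero_mem _)
    exact ⟨h1⟩
  refine h.triv_of_small (Spec.map φ) ((Scheme.ΓSpecIso A).inv.hom t) ?_ ?_
    (ker_appTop_specMap φ t hker) L hL hs hs' hS'
  · intro a
    obtain ⟨a, rfl⟩ : ∃ b, (Scheme.ΓSpecIso A).inv.hom b = a :=
      ⟨(Scheme.ΓSpecIso A).hom.hom a, congr(($((Scheme.ΓSpecIso A).hom_inv_id)).hom a)⟩
    rw [mem_maximalIdeal_ΓSpec, ← map_mul]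
    have hb : Function.Bijective (Scheme.ΓSpecIso A).inv.hom :=
      ConcreteCategory.bijective_of_isIso (Scheme.ΓSpecIso A).inv
    rw [map_eq_zero_iff _ hb.1]
    refine ⟨fun h0 => ?_, hmt a⟩
    by_contra hu
    rw [mem_maximalIdeal, mem_nonunits_iff, not_not] at hu
    exact ht ((hu.mul_right_eq_zero).mp h0)
  · rw [mem_maximalIdeal_ΓSpec]; exact htm

end Data

end Groth.Agent.Grpsch.CubeData
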