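import Groth.Agent.Grpsch.PtRestrict
import Groth.Agent.S1890
import Mathlib.AlgebraicGeometry.Noetherian
import Mathlib.Topology.NoetherianSpace

/-!
# Invariant affine opens around orbits of codimension at most one (Stacks 0ABI, quasi-affine case)
-/

set_option autoImplicit false
universe u
open CategoryTheory CategoryTheory.Limits AlgebraicGeometry

namespace Groth.Agent.Grpsch.DimOne

open Groth.Agent.Grpsch.InvAffine Groth.Agent.Grpsch.PtRestrict Groth.Agent.Grpsch

variable {R U : Scheme.{u}} {s t : R ⟶ U}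

/-- transport of a specialization along an arrow. -/
theorem exists_lift_specializes [IsFinite s] (r : R) (y : U) (h : s r ⤳ y) :
    ∃ r' : R, r ⤳ r' ∧ s r' = y := by
  have h1 : IsClosedMap s := s.isClosedMap
  have h2 := h1.specializingMap h
  obtain ⟨r', h3, h4⟩ := h2
  exact ⟨r', h3, h4⟩

theorem eq_of_specializes_of_fibre [IsFinite s] {r r' : R} (h : r ⤳ r') (h' : s r = s r') :
    r = r' := by
  have h1 := s.isDiscrete_preimage_singleton (s r')
  have h2 : DiscreteTopology (s ⁻¹' {s r'} : Set R) := h1.to_subtype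
  let a : (s ⁻¹' {s r'} : Set R) := ⟨r, h'⟩
  let b : (s ⁻¹' {s r'} : Set R) := ⟨r', rfl⟩
  have h3 : a ⤳ b := by
    rw [Topology.IsInducing.subtypeVal.specializes_iff.symm]
    exact h
  exact congrArg Subtype.val (specializes_iff_eq.1 h3)

/-- No nontrivial specializations inside a finite orbit. -/
theorem no_specializes_in_orbit [IsFinite s] [IsFinite t] {O : Set U}
    (hO : O.Finite) (hOinv : ∀ r, s r ∈ O → t r ∈ O)
    (hOorb : ∀ x ∈ O, ∀ y ∈ O, ∃ r, s r = x ∧ t r = y) {x y : U} (hx : x ∈ O) (hy : y ∈ O)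
    (hxy : x ⤳ y) : x = y := by
  by_contra hne
  have hP : ∀ x' ∈ O, ∃ y' ∈ O, x' ⤳ y' ∧ x' ≠ y' := by
    intro x' hx'
    obtain ⟨r, h1, h2⟩ := hOorb x hx x' hx'
    obtain ⟨r', h3, h4⟩ := exists_lift_specializes (s := s) r y (by rw [h1]; exact hxy)
    refine ⟨t r', hOinv r' (by rw [h4]; exact hy), ?_, ?_⟩
    · rw [← h2]
      exact h3.map t.continuous
    · intro h5
      rw [← h2] at h5
      have := eq_of_specializes_of_fibre (s := t) h3 h5
      rw [← this, h1] at h4
      exact hne h4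
  -- a minimal element of `O`
  have : Finite O := hO
  let rel : O → O → Prop := fun a b => b.1 ⤳ a.1 ∧ b.1 ≠ a.1
  have htrans : IsTrans O rel := ⟨by
    rintro a b c ⟨h1, h2⟩ ⟨h3, h4⟩
    refine ⟨h3.trans h1, fun h5 => ?_⟩
    rw [h5] at h3
    exact h2 (h1.antisymm h3).eq⟩
  have hirr : Std.Irrefl rel := ⟨fun a h => h.2 rfl⟩
  have hwf : WellFounded rel := Finite.wellFounded_of_trans_of_irrefl rel
  obtain ⟨m, -, hm⟩ := hwf.has_min Set.univ ⟨⟨x, hx⟩, trivial⟩
  obtain ⟨y', hy', h1, h2⟩ := hP m.1 m.2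
  exact hm ⟨y', hy'⟩ trivial ⟨h1, h2⟩

/-- In a Noetherian space (T0) there are finitely many points without proper generizations. -/
theorem finite_generic {X : Type u} [TopologicalSpace X] [TopologicalSpace.NoetherianSpace X]
    [T0Space X] [QuasiSober X] : {x : X | ∀ z, z ⤳ x → z = x}.Finite := by
  refine Set.Finite.of_finite_image (f := fun x => closure {x})
    (TopologicalSpace.NoetherianSpace.finite_irreducibleComponents.subset ?_) ?_
  · rintro _ ⟨x, hx, rfl⟩
    refine ⟨isIrreducible_singleton.closure, fun T hT hxT => ?_⟩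
    obtain ⟨z, hz⟩ := QuasiSober.sober hT.closure isClosed_closure
    have h1 : z ⤳ x := by
      rw [specializes_iff_mem_closure]
      have h2 : x ∈ closure T := subset_closure (hxT (subset_closure rfl))
      rw [← hz.def] at h2
      exact h2
    rw [hx z h1] at hz
    intro w hw
    have h2 : w ∈ closure T := subset_closure hw
    rw [← hz.def] at h2
    exact h2
  · intro x _ y _ hxy
    exact ((isGenericPoint_def.2 hxy).eq (isGenericPoint_def.2 rfl))

/-- Stacks 0ABI in the quasi-affine Noetherian case. -/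
theorem exists_invariant_affine (hst : IsPtEquiv s t) [IsFinite s] [IsFinite t]
    [LocallyOfFinitePresentation s] [TopologicalSpace.NoetherianSpace U]
    {A : Type u} [CommRing A] (j : U ⟶ Spec (CommRingCat.of A)) [IsOpenImmersion j]
    (O : Set U) (hO : O.Finite) (hOinv : ∀ r, s r ∈ O → t r ∈ O)
    (hOorb : ∀ x ∈ O, ∀ y ∈ O, ∃ r, s r = x ∧ t r = y)
    (hdim : ∀ x ∈ O, ∀ z y, z ⤳ y → y ⤳ x → z = y ∨ y = x) :
    ∃ W : U.Opens, IsAffineOpen W ∧ O ⊆ W ∧ ∀ r, s r ∈ W → t r ∈ W := by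
  obtain ⟨I, hI, hcl⟩ := exists_ideal_of_isOpenImmersion j
  let E : Set U := {η | η ∉ O ∧ (∀ z, z ⤳ η → z = η) ∧ ∃ x ∈ O, η ⤳ x}
  have hE : E.Finite := finite_generic.subset fun η h => h.2.1
  have hEinv : ∀ r, s r ∈ E → t r ∈ E := by
    rintro r ⟨h1, h2, x, hx, h3⟩
    have h4 : t r ∉ O := fun h => h1 ((invariant_iff hst hOinv r).2 h)
    obtain ⟨r', h5, h6⟩ := exists_lift_specializes (s := s) r x h3
    have h7 : t r' ∈ O := hOinv r' (by rw [h6]; exact hx)
    have h8 : t r ⤳ t r' := h5.map t.continuous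
    refine ⟨h4, fun z hz => ?_, t r', h7, h8⟩
    rcases hdim _ h7 z (t r) hz h8 with h | h
    · exact h
    · exact absurd (h ▸ h7) h4
  obtain ⟨h1, h1I, hV1aff, hEV1, hV1inv, hextra⟩ := exists_invariant_basicOpen s t hst j I hI hcl
    Set.univ isClosed_univ (fun _ _ => trivial) E hE hEinv (Set.subset_univ _)
    (Or.inl fun x hx y _ hy => hx.2.1 y hy)
  let V1 : U.Opens := j ⁻¹ᵁ PrimeSpectrum.basicOpen h1
  have hV1inv' : ∀ r, s r ∈ V1 → t r ∈ V1 := fun r hr => hV1inv r trivial hr
  by_cases hcase : ∃ x ∈ O, x ∈ V1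
  · obtain ⟨x, hx, hxV⟩ := hcase
    refine ⟨V1, hV1aff, fun y hy => ?_, hV1inv'⟩
    obtain ⟨r, hr1, hr2⟩ := hOorb x hx y hy
    rw [← hr2]
    exact hV1inv' r (by rw [hr1]; exact hxV)
  · push Not at hcase
    let Z1 : Set U := (V1 : Set U)ᶜ
    have hZ1 : IsClosed Z1 := V1.isOpen.isClosed_compl
    have hZ1inv : ∀ r, s r ∈ Z1 → t r ∈ Z1 := by
      intro r hr htr
      exact hr ((invariant_iff hst hV1inv' r).2 htr)
    obtain ⟨h2, h2I, hD2aff, hOD2, hD2inv, -⟩ := exists_invariant_basicOpen s t hst j I hI hcl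
      Z1 hZ1 hZ1inv O hO hOinv (fun x hx => hcase x hx) (Or.inl (by
        intro x hx y hy hyx
        by_contra hne
        have hgen : ∀ z, z ⤳ y → z = y := by
          intro z hz
          rcases hdim x hx z y hz hyx with h | h
          · exact h
          · exact absurd h hne
        by_cases hyO : y ∈ O
        · exact hne (no_specializes_in_orbit hO hOinv hOorb hyO hx hyx)
        · exact hy (hEV1 y ⟨hyO, hgen, x, hx, hyx⟩)))
    let D2 : U.Opens := j ⁻¹ᵁ PrimeSpectrum.basicOpen h2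
    let V3 : U.Opens := ⟨core s t (D2 : Set U), isOpen_core s.isClosedMap D2.isOpen⟩
    have hV3D2 : V3 ≤ D2 := core_subset hst (D2 : Set U)
    have hV3inv : ∀ r, s r ∈ V3 → t r ∈ V3 := core_invariant hst (D2 : Set U)
    have hOV3 : O ⊆ V3 := subset_core hOinv hOD2
    have hZD : ∀ w, w ∈ D2 → w ∉ V1 → w ∈ V3 := by
      intro w hw hwV r hr
      refine hD2inv r ?_ (by rw [hr]; exact hw)
      show s r ∈ Z1
      rw [hr]
      exact hwV
    obtain ⟨N, hNaff, hN⟩ := hextra rfl h2
    have hN' : ∀ w, w ∈ N ↔ w ∈ V1 ∧ w ∈ V3 := hN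
    obtain ⟨f, hf⟩ := exists_section' j D2 h1
    have hf' : ∀ x, x ∈ D2 → (x ∈ U.basicOpen f ↔ x ∈ V1) := hf
    let j2 : V3.toScheme ⟶ Spec (CommRingCat.of Γ(U, D2)) := toSpec hD2aff hV3D2
    have hj2 : j2 ≫ hD2aff.fromSpec = V3.ι := by
      show (U.homOfLE hV3D2 ≫ hD2aff.isoSpec.hom) ≫ hD2aff.fromSpec = V3.ι
      rw [IsAffineOpen.fromSpec, Category.assoc, Iso.hom_inv_id_assoc, Scheme.homOfLE_ι]
    have hj2' : ∀ x : V3.toScheme, hD2aff.fromSpec (j2 x) = V3.ι x := fun x =>
      congrArg (fun g : V3.toScheme ⟶ U => g x) hj2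
    have hb : ∀ x : V3.toScheme, x ∈ j2 ⁻¹ᵁ PrimeSpectrum.basicOpen f ↔ V3.ι x ∈ V1 := by
      intro x
      have h3 := PtEquiv.fromSpec_mem_basicOpen hD2aff f (j2 x)
      rw [hj2'] at h3
      exact h3.symm.trans (hf' _ (hV3D2 x.2))
    have : TopologicalSpace.NoetherianSpace V3.toScheme :=
      V3.ι.isOpenEmbedding.isInducing.noetherianSpace
    have hV3aff : IsAffine V3.toScheme := by
      refine S1890.result Γ(U, D2) V3.toScheme j2 f ?_ ?_
      · have h3 : j2 ⁻¹ᵁ PrimeSpectrum.basicOpen f = V3.ι ⁻¹ᵁ N := by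
          ext x
          refine (hb x).trans ?_
          have h4 := hN' (V3.ι x)
          exact ⟨fun h => h4.2 ⟨h, x.2⟩, fun h => (h4.1 h).1⟩
        rw [h3]
        refine hNaff.preimage_of_isOpenImmersion V3.ι ?_
        intro x hx
        rw [Scheme.Opens.opensRange_ι]
        exact ((hN' x).1 hx).2
      · have h3 : Set.range j2 ∩ PrimeSpectrum.zeroLocus {f} = PrimeSpectrum.zeroLocus {f} := by
          refine Set.inter_eq_right.2 fun p hp => ?_
          have h4 : hD2aff.fromSpec p ∉ U.basicOpen f := by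
            intro h
            exact (PtEquiv.fromSpec_mem_basicOpen hD2aff f p).1 h (hp rfl)
          have h5 : hD2aff.fromSpec p ∈ D2 := by
            have : hD2aff.fromSpec p ∈ Set.range hD2aff.fromSpec := ⟨p, rfl⟩
            rw [hD2aff.range_fromSpec] at this
            exact this
          have h6 := hZD _ h5 (fun h => h4 ((hf' _ h5).2 h))
          refine ⟨⟨hD2aff.fromSpec p, h6⟩, ?_⟩
          apply hD2aff.fromSpec.isOpenEmbedding.injective
          exact hj2' _
        rw [h3]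
        exact PrimeSpectrum.isClosed_zeroLocus _
    exact ⟨V3, hV3aff, hOV3, hV3inv⟩

/-- Points with local ring of dimension at most one. -/
theorem eq_or_eq_of_dim_le_one {X : Scheme.{u}} (x : X) (hx : ringKrullDim (X.presheaf.stalk x) ≤ 1)
    (z y : X) (hzy : z ⤳ y) (hyx : y ⤳ x) : z = y ∨ y = x := by
  by_contra hne
  push Not at hne
  have hrange := Scheme.range_fromSpecStalk (X := X) (x := x)
  obtain ⟨pz, hpz⟩ : z ∈ Set.range (X.fromSpecStalk x) := by rw [hrange]; exact hzy.trans hyx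
  obtain ⟨py, hpy⟩ : y ∈ Set.range (X.fromSpecStalk x) := by rw [hrange]; exact hyx
  have hemb := (X.fromSpecStalk x).isEmbedding
  have h1 : pz ⤳ py := by
    rw [← hemb.isInducing.specializes_iff, hpz, hpy]; exact hzy
  let px : PrimeSpectrum (X.presheaf.stalk x) := IsLocalRing.closedPoint _
  have hpx : X.fromSpecStalk x px = x := Scheme.fromSpecStalk_closedPoint
  have h2 : (show PrimeSpectrum (X.presheaf.stalk x) from pz) ≤ py :=
    (PrimeSpectrum.le_iff_specializes _ _).2 h1
  have h3 : (show PrimeSpectrum (X.presheaf.stalk x) from py) ≤ px :=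
    IsLocalRing.le_maximalIdeal (Ideal.IsPrime.ne_top (PrimeSpectrum.isPrime _))
  have h4 : (show PrimeSpectrum (X.presheaf.stalk x) from pz) < py := lt_of_le_of_ne h2 (by
    intro h; exact hne.1 (hpz.symm.trans ((congrArg _ h).trans hpy)))
  have h5 : (show PrimeSpectrum (X.presheaf.stalk x) from py) < px := lt_of_le_of_ne h3 (by
    intro h; exact hne.2 (hpy.symm.trans ((congrArg _ h).trans hpx)))
  let l : LTSeries (PrimeSpectrum (X.presheaf.stalk x)) :=
    ⟨2, ![pz, py, px], by
      intro i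
      fin_cases i
      · exact h4
      · exact h5⟩
  have h6 := Order.LTSeries.length_le_krullDim l
  have h7 : ((2 : ℕ) : WithBot ℕ∞) ≤ 1 := h6.trans hx
  exact absurd h7 (by decide)

end Groth.Agent.Grpsch.DimOne
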