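import Groth.Agent.Grpsch.AffFinite
import Groth.Agent.Grpsch.ClosureImage
import Groth.Agent.VarietyA.Dim1Top

/-!
# Stacks 09NN: geometric part

`X` separated, `U` an affine open, `x ∉ U` a point all of whose proper generizations are in `U`.
-/

set_option autoImplicit false

universe u

open CategoryTheory CategoryTheory.Limits AlgebraicGeometry TopologicalSpace Opposite

namespace Groth.Agent.Grpsch.DimOneAff

open Groth.Agent.Fdesc.LocGen AffFinite

variable {X : Scheme.{u}}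

/-- Prime avoidance in an affine open. -/
theorem exists_avoid {V : X.Opens} (hV : IsAffineOpen V) (C : Set X) (hC : IsClosed C)
    (O : Set X) (hO : O.Finite) (hOV : O ⊆ V) (hOC : ∀ y ∈ O, y ∉ C) :
    ∃ g : Γ(X, V), O ⊆ X.basicOpen g ∧ ∀ y ∈ X.basicOpen g, y ∉ C := by
  let j := hV.fromSpec
  have hj : Set.range j = V := hV.range_fromSpec
  let C' : Set (PrimeSpectrum Γ(X, V)) := j ⁻¹' C
  have hC' : IsClosed C' := hC.preimage j.continuous
  have hz : PrimeSpectrum.zeroLocus ((PrimeSpectrum.vanishingIdeal C' : Ideal _) : Set _) = C' :=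
    (PrimeSpectrum.zeroLocus_vanishingIdeal_eq_closure _).trans hC'.closure_eq
  obtain ⟨g, hg, hg2⟩ := ImmLocus.exists_mem_ideal_avoid (PrimeSpectrum.vanishingIdeal C')
    (j ⁻¹' O) (hO.preimage j.isOpenEmbedding.injective.injOn) (by
      intro p hp hle
      have : p ∈ C' := by
        rw [← hz]; exact hle
      exact hOC _ hp this)
  have hb : ∀ p : PrimeSpectrum Γ(X, V), j p ∈ X.basicOpen g ↔ g ∉ p.asIdeal := by
    intro p
    have h1 : hV.fromSpec ⁻¹ᵁ X.basicOpen g = PrimeSpectrum.basicOpen g :=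
      hV.fromSpec_preimage_basicOpen g
    have h3 : p ∈ hV.fromSpec ⁻¹ᵁ X.basicOpen g ↔ p ∈ PrimeSpectrum.basicOpen g := by
      rw [h1]; exact Iff.rfl
    exact h3
  refine ⟨g, fun y hy => ?_, fun y hy hyC => ?_⟩
  · obtain ⟨p, rfl⟩ : y ∈ Set.range j := by rw [hj]; exact hOV hy
    exact (hb p).2 (hg2 p hy)
  · obtain ⟨p, rfl⟩ : y ∈ Set.range j := by rw [hj]; exact X.basicOpen_le g hy
    exact (hb p).1 hy (hz.symm.le (show p ∈ C' from hyC) hg)

/-- Shrinking `V ∋ x` so that `U ∩ V` is a basic open of `V`. -/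
theorem exists_nbhd [X.IsSeparated] {U : X.Opens} (hU : IsAffineOpen U) (x : X) (hxU : x ∉ U)
    (hfin : {y : X | y ⤳ x}.Finite) (hgen : ∀ y, y ⤳ x → y ≠ x → y ∈ U) :
    ∃ V : X.Opens, IsAffineOpen V ∧ x ∈ V ∧ ∃ g : Γ(X, V), U ⊓ V = X.basicOpen g := by
  obtain ⟨_, ⟨V₁, hV₁, rfl⟩, hxV₁, -⟩ := X.isBasis_affineOpens.exists_subset_of_mem_open
    (Set.mem_univ x) isOpen_univ
  have hV₁' : IsAffineOpen V₁ := hV₁
  obtain ⟨g₁, hg₁, hg₁'⟩ := exists_avoid hV₁' (U : Set X)ᶜ U.isOpen.isClosed_compl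
    {y : X | y ⤳ x ∧ y ≠ x} (hfin.subset fun y hy => hy.1)
    (fun y hy => hy.1.mem_open V₁.isOpen hxV₁) (fun y hy h => h (hgen y hy.1 hy.2))
  have hle : X.basicOpen g₁ ≤ U := fun y hy => not_not.1 (hg₁' y hy)
  -- the bad set
  let E : Set X := {y | y ∈ U ⊓ V₁ ∧ y ∉ X.basicOpen g₁}
  have hxE : x ∉ closure E := by
    intro hx
    have : CompactSpace (U ⊓ V₁).toScheme := isCompact_iff_compactSpace.mp (hU.inf hV₁').isCompact
    have hqc : QuasiCompact (U ⊓ V₁).ι := quasiCompact_of_compactSpace _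
    obtain ⟨z, hz, hzx⟩ := ClosureImage.exists_specializes_of_mem_closure_image (U ⊓ V₁).ι
      (Z := ((U ⊓ V₁).ι ⁻¹ᵁ X.basicOpen g₁ : Set _)ᶜ)
      ((U ⊓ V₁).ι ⁻¹ᵁ X.basicOpen g₁).isOpen.isClosed_compl (y := x) (by
        refine closure_mono ?_ hx
        rintro y ⟨hy1, hy2⟩
        exact ⟨⟨y, hy1⟩, hy2, rfl⟩)
    have hzU : (U ⊓ V₁).ι z ∈ U := z.2.1
    exact hz (hg₁ ⟨hzx, fun h => hxU (h ▸ hzU)⟩)
  obtain ⟨_, ⟨V, hV, rfl⟩, hxV, hVN⟩ := X.isBasis_affineOpens.exists_subset_of_mem_open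
    (show x ∈ ((closure E)ᶜ ∩ V₁ : Set X) from ⟨hxE, hxV₁⟩)
    (isClosed_closure.isOpen_compl.inter V₁.isOpen)
  have hVV₁ : V ≤ V₁ := fun y hy => (hVN hy).2
  refine ⟨V, hV, hxV, ores hVV₁ g₁, ?_⟩
  rw [basicOpen_ores]
  apply le_antisymm
  · rintro y ⟨hyU, hyV⟩
    refine ⟨hyV, ?_⟩
    by_contra hcon
    exact (hVN hyV).1 (subset_closure ⟨⟨hyU, hVV₁ hyV⟩, hcon⟩)
  · rintro y ⟨hyV, hy⟩
    exact ⟨hle hy, hyV⟩

theorem basicOpen_neg_le {U : X.Opens} (b : Γ(X, U)) : X.basicOpen (-b) ≤ X.basicOpen b := by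
  rw [← neg_one_mul, Scheme.basicOpen_mul]
  exact inf_le_right

/-- Gluing step: from `a ∈ Γ(U)`, `b ∈ Γ(V')` with `a t b = 1` on `U ∩ V'`, `b x = 0`, to an affine
open containing `s ∪ {x}`. -/
theorem exists_affine_insert [X.IsSeparated] {U V V' : X.Opens} (hU : IsAffineOpen U)
    (hV : IsAffineOpen V) (hV' : V' ≤ V) (x : X) (hxV' : x ∈ V') (t a : Γ(X, U))
    (b : Γ(X, V')) (ht : X.basicOpen t ≤ V)
    (hab : ores (inf_le_left : U ⊓ V' ≤ U) (a * t) * ores (inf_le_right : U ⊓ V' ≤ V') b = 1)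
    (hxb : x ∉ X.basicOpen b) (hbU : X.basicOpen b ≤ U) (s : Set X) (hs : s.Finite) (hsU : s ⊆ U)
    (hst : ∀ y ∈ s, y ∈ X.basicOpen t → y ⤳ x) :
    ∃ W : X.Opens, IsAffineOpen W ∧ x ∈ W ∧ s ⊆ W := by
  -- shrink `V'`
  have hx1 : x ∈ X.basicOpen (1 + b) := by
    by_contra hcon
    have h1 : x ∈ X.basicOpen ((1 + b) + (-b)) := by
      rw [add_neg_cancel_right, Scheme.basicOpen_one]
      exact hxV'
    rcases X.basicOpen_add_le _ _ h1 with h | h
    · exact hcon h
    · exact hxb (basicOpen_neg_le b h)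
  obtain ⟨_, ⟨V'', hV''a, rfl⟩, hxV'', hV''⟩ := X.isBasis_affineOpens.exists_subset_of_mem_open
    hx1 (X.basicOpen (1 + b)).isOpen
  have hV''V' : V'' ≤ V' := fun y hy => X.basicOpen_le _ (hV'' hy)
  have hV''a' : IsAffineOpen V'' := hV''a
  let c : Γ(X, U) := a * t
  let U' : X.Opens := X.basicOpen (1 + c)
  have hU'U : U' ≤ U := X.basicOpen_le _
  have hU'a : IsAffineOpen U' := hU.basicOpen _
  have hu1 : IsUnit (1 + ores hU'U c) := by
    have := X.toRingedSpace.isUnit_res_basicOpen (1 + c)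
    have h2 : IsUnit (ores hU'U (1 + c)) := this
    rwa [map_add, map_one] at h2
  have hu2 : IsUnit (1 + ores hV''V' b) := by
    have h2 : IsUnit (ores (X.basicOpen_le (1 + b)) (1 + b)) :=
      X.toRingedSpace.isUnit_res_basicOpen (1 + b)
    have h3 := h2.map (ores (show V'' ≤ X.basicOpen (1 + b) from hV''))
    rwa [ores_ores, map_add, map_one] at h3
  obtain ⟨p, hp⟩ := hu1.exists_right_inv
  obtain ⟨q, hq⟩ := hu2.exists_right_inv
  -- sections `p` on `U'` and `b q` on `V''`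
  have hcomp : ores (inf_le_left : U' ⊓ V'' ≤ U') p =
      ores (inf_le_right : U' ⊓ V'' ≤ V'') (ores hV''V' b * q) := by
    have e0 := congrArg (ores (show U' ⊓ V'' ≤ U ⊓ V' from inf_le_inf hU'U hV''V')) hab
    have e1 := congrArg (ores (inf_le_left : U' ⊓ V'' ≤ U')) hp
    have e2 := congrArg (ores (inf_le_right : U' ⊓ V'' ≤ V'')) hq
    rw [map_mul, ores_ores, ores_ores, map_one] at e0
    rw [map_mul, map_add, map_one, ores_ores] at e1
    rw [map_mul, map_add, map_one, ores_ores] at e2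
    rw [map_mul, ores_ores]
    change ores _ c * _ = 1 at e0
    generalize ores _ c = C at e0 e1
    generalize ores _ b = B at e0 e2 ⊢
    generalize ores _ p = P at e1 ⊢
    generalize ores _ q = Q at e2 ⊢
    calc P = P * ((1 + B) * Q) := by rw [e2, mul_one]
      _ = (C * B) * P * Q + P * B * Q := by rw [e0]; ring
      _ = ((1 + C) * P) * (B * Q) := by ring
      _ = B * Q := by rw [e1, one_mul]
  obtain ⟨f, hf⟩ := ores_glue (V := U' ⊔ V'') (fun i : Bool => bif i then U' else V'')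
    (fun i => by cases i <;> simp) (by
      refine sup_le ?_ ?_
      · exact le_iSup (fun i : Bool => bif i then U' else V'') true
      · exact le_iSup (fun i : Bool => bif i then U' else V'') false)
    (fun i => match i with
      | true => p
      | false => ores hV''V' b * q) (by
      rintro (_ | _) (_ | _)
      · rfl
      · have h1 := congrArg (ores (show V'' ⊓ U' ≤ U' ⊓ V'' from le_inf inf_le_right inf_le_left))
          hcomp
        rw [ores_ores, ores_ores] at h1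
        exact h1.symm
      · exact hcomp
      · rfl)
  have hf1 : ores (le_sup_left : U' ≤ U' ⊔ V'') f = p := hf true
  have hf2 : ores (le_sup_right : V'' ≤ U' ⊔ V'') f = ores hV''V' b * q := hf false
  have hcpt : IsCompact ((U' ⊔ V'' : X.Opens) : Set X) := hU'a.isCompact.union hV''a'.isCompact
  have hfU : X.basicOpen f ≤ U := by
    intro y hy
    rcases X.basicOpen_le _ hy with h | h
    · exact hU'U h
    · have h1 : y ∈ X.basicOpen (ores (le_sup_right : V'' ≤ U' ⊔ V'') f) := by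
        rw [basicOpen_ores]; exact ⟨h, hy⟩
      rw [hf2, Scheme.basicOpen_mul, basicOpen_ores] at h1
      exact hbU h1.1.2
  have hfV : X.basicOpen (1 - f) ≤ V := by
    intro y hy
    rcases X.basicOpen_le _ hy with h | h
    · have h1 : y ∈ X.basicOpen (ores (le_sup_left : U' ≤ U' ⊔ V'') (1 - f)) := by
        rw [basicOpen_ores]; exact ⟨h, hy⟩
      have h2 : ores (le_sup_left : U' ≤ U' ⊔ V'') (1 - f) = ores hU'U c * p := by
        rw [map_sub, map_one, hf1]
        linear_combination (-1 : Γ(X, U')) * hp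
      rw [h2, Scheme.basicOpen_mul, basicOpen_ores] at h1
      have h3 : y ∈ X.basicOpen (a * t) := h1.1.2
      rw [Scheme.basicOpen_mul] at h3
      exact ht h3.2
    · exact hV' (hV''V' h)
  have hO : insert x s ⊆ ((U' ⊔ V'' : X.Opens) : Set X) := by
    rintro y (rfl | hy)
    · exact Or.inr hxV''
    · by_cases hyt : y ∈ X.basicOpen t
      · exact Or.inr ((hst y hy hyt).mem_open V''.isOpen hxV'')
      · left
        have h1 : y ∈ X.basicOpen ((1 + c) + (-c)) := by
          rw [add_neg_cancel_right, Scheme.basicOpen_one]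
          exact hsU hy
        rcases X.basicOpen_add_le _ _ h1 with h | h
        · exact h
        · have h3 : y ∈ X.basicOpen (a * t) := basicOpen_neg_le c h
          rw [Scheme.basicOpen_mul] at h3
          exact absurd h3.2 hyt
  obtain ⟨W, hW, hsW⟩ := exists_affine_of_split hU hV hcpt f hfU hfV (insert x s) (hs.insert x) hO
  exact ⟨W, hW, hsW (Set.mem_insert _ _), (Set.subset_insert _ _).trans hsW⟩

end Groth.Agent.Grpsch.DimOneAff
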