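import Groth.Agent.Grpsch.DimOneAff
import Groth.Agent.Grpsch.DimOne
import Groth.Agent.CycB.LocQuot

/-!
# Stacks 09NN: induction
-/

set_option autoImplicit false

universe u

open CategoryTheory CategoryTheory.Limits AlgebraicGeometry TopologicalSpace Opposite

namespace Groth.Agent.Grpsch.DimOneFin

open Groth.Agent.Fdesc.LocGen AffFinite DimOneAff CycB.LocQuot

variable {X : Scheme.{u}}

/-- The condition on the points. -/
def Good (x : X) : Prop :=
  IsNoetherianRing (X.presheaf.stalk x) ∧ ringKrullDim (X.presheaf.stalk x) ≤ 1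

theorem Good.of_specializes {x y : X} (hx : Good x) (h : y ⤳ x) : Good y := by
  let := (X.presheaf.stalkSpecializes h).hom.toAlgebra
  have hloc := isLocalization_stalkSpecializes h
  have hN := hx.1
  refine ⟨IsLocalization.isNoetherianRing (RingHom.ker (Cyc.specMap x y h)).primeCompl _ hN, ?_⟩
  refine le_trans ?_ hx.2
  refine Order.krullDim_le_of_strictMono
    (PrimeSpectrum.comap (algebraMap (X.presheaf.stalk x) (X.presheaf.stalk y))) ?_
  refine Monotone.strictMono_of_injective (fun p q hpq => Ideal.comap_mono hpq) ?_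
  exact PrimeSpectrum.localization_comap_injective _
    (RingHom.ker (Cyc.specMap x y h)).primeCompl

theorem Good.finite {x : X} (hx : Good x) : {y : X | y ⤳ x}.Finite := by
  have hN := hx.1
  have h1 : (Set.univ : Set (PrimeSpectrum (X.presheaf.stalk x))).Finite := by
    refine ((minimalPrimes.finite_of_isNoetherianRing (X.presheaf.stalk x)).union
      (Set.finite_singleton (IsLocalRing.maximalIdeal (X.presheaf.stalk x)))).preimage
        (f := fun p : PrimeSpectrum (X.presheaf.stalk x) => p.asIdeal) ?_ |>.subset ?_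
    · intro p _ q _ h
      exact PrimeSpectrum.ext h
    · intro p _
      change p.asIdeal ∈ (minimalPrimes (X.presheaf.stalk x) ∪
        {IsLocalRing.maximalIdeal (X.presheaf.stalk x)} : Set (Ideal _))
      by_cases hp : p.asIdeal = IsLocalRing.maximalIdeal (X.presheaf.stalk x)
      · exact Or.inr hp
      · left
        refine ⟨⟨p.isPrime, bot_le⟩, ?_⟩
        rintro q ⟨hq, -⟩ hqp
        have h2 := DimOne.eq_or_eq_of_dim_le_one x hx.2 (ptOf ⟨q, hq⟩) (ptOf p) ?_
          (ptOf_specializes p)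
        · rcases h2 with h2 | h2
          · have := ptOf_injective x h2
            exact (congrArg PrimeSpectrum.asIdeal this).symm.le
          · exfalso
            apply hp
            have h3 : ptOf p = ptOf (IsLocalRing.closedPoint (X.presheaf.stalk x)) := by
              rw [h2]
              exact (Scheme.fromSpecStalk_closedPoint (X := X) (x := x)).symm
            exact congrArg PrimeSpectrum.asIdeal (ptOf_injective x h3)
        · rw [← primeOf_le_iff (ptOf_specializes ⟨q, hq⟩) (ptOf_specializes p), primeOf_ptOf,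
            primeOf_ptOf]
          exact hqp
  refine (h1.image ptOf).subset ?_
  intro y hy
  exact ⟨primeOf hy, trivial, ptOf_primeOf hy⟩

/-- The local statement used in the induction. -/
def Heart : Prop := ∀ {X : Scheme.{u}} [X.IsSeparated] {U V : X.Opens} (_ : IsAffineOpen U)
  (_ : IsAffineOpen V) (x : X) (_ : x ∈ V) (_ : x ∉ U) (g : Γ(X, V))
  (_ : U ⊓ V = X.basicOpen g) (_ : IsNoetherianRing (X.presheaf.stalk x))
  (_ : ringKrullDim (X.presheaf.stalk x) ≤ 1) (t : Γ(X, U))
  (_ : ∀ y, y ⤳ x → y ≠ x → y ∈ X.basicOpen t),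
  ∃ (V' : X.Opens) (_ : V' ≤ V), x ∈ V' ∧ ∃ (a : Γ(X, U)) (b : Γ(X, V')),
    ores (inf_le_left : U ⊓ V' ≤ U) (a * t) * ores (inf_le_right : U ⊓ V' ≤ V') b = 1 ∧
    x ∉ X.basicOpen b ∧ X.basicOpen b ≤ U

theorem main [X.IsSeparated] (heart : Heart.{u}) (n : ℕ) : ∀ s : Finset X, s.card = n →
    (∀ x ∈ s, Good x) → (∀ x ∈ s, ∀ y, y ⤳ x → y ∈ s) →
    ∃ U : X.Opens, IsAffineOpen U ∧ ∀ x ∈ s, x ∈ U := by
  classical
  induction n with
  | zero =>
    intro s hs _ _
    rw [Finset.card_eq_zero] at hs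
    subst hs
    exact ⟨⊥, isAffineOpen_bot X, by simp⟩
  | succ n ih =>
    intro s hs hgood hgen
    -- a maximal point for generization
    obtain ⟨x, hxs, hx⟩ : ∃ x ∈ s, ∀ y ∈ s, x ⤳ y → y = x := by
      have hne : s.Nonempty := by
        rw [← Finset.card_pos, hs]; exact Nat.succ_pos n
      let := specializationPreorder X
      obtain ⟨x, hx⟩ := s.exists_minimal hne
      refine ⟨x, hx.1, fun y hy h => ?_⟩
      have h2 : y ⤳ x := hx.2 hy h
      exact (h2.antisymm h).eq
    obtain ⟨U, hU, hsU⟩ := ih (s.erase x) (by rw [Finset.card_erase_of_mem hxs, hs]; rfl)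
      (fun y hy => hgood y (Finset.mem_of_mem_erase hy))
      (fun y hy z hz => by
        refine Finset.mem_erase.2 ⟨?_, hgen y (Finset.mem_of_mem_erase hy) z hz⟩
        rintro rfl
        exact (Finset.mem_erase.1 hy).1 (hx y (Finset.mem_of_mem_erase hy) hz))
    by_cases hxU : x ∈ U
    · refine ⟨U, hU, fun y hy => ?_⟩
      by_cases hyx : y = x
      · exact hyx ▸ hxU
      · exact hsU y (Finset.mem_erase.2 ⟨hyx, hy⟩)
    have hgx := hgood x hxs
    have hgU : ∀ y, y ⤳ x → y ≠ x → y ∈ U := fun y hy hne =>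
      hsU y (Finset.mem_erase.2 ⟨hne, hgen x hxs y hy⟩)
    obtain ⟨V, hV, hxV, g, hg⟩ := exists_nbhd hU x hxU hgx.finite hgU
    -- the function `t`
    let T : Set X := {y | y ∈ s ∧ ¬ y ⤳ x}
    have hT : T.Finite := s.finite_toSet.subset fun y hy => hy.1
    obtain ⟨t, ht, ht'⟩ := exists_avoid hU ((V : Set X)ᶜ ∪ closure T)
      (V.isOpen.isClosed_compl.union isClosed_closure) {y | y ⤳ x ∧ y ≠ x}
      (hgx.finite.subset fun y hy => hy.1) (fun y hy => hgU y hy.1 hy.2) (by
        rintro y ⟨hyx, -⟩ (h | h)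
        · exact h (hyx.mem_open V.isOpen hxV)
        · rw [← Set.biUnion_of_singleton T, hT.closure_biUnion] at h
          obtain ⟨z, hz, hyz⟩ := Set.mem_iUnion₂.1 h
          exact hz.2 ((specializes_iff_mem_closure.2 hyz).trans hyx))
    obtain ⟨V', hV', hxV', a, b, hab, hxb, hbU⟩ := heart hU hV x hxV hxU g hg hgx.1 hgx.2 t
      (fun y hy hne => ht ⟨hy, hne⟩)
    obtain ⟨W, hW, hxW, hsW⟩ := exists_affine_insert hU hV hV' x hxV' t a b
      (fun y hy => not_not.1 fun h => ht' y hy (Or.inl h)) hab hxb hbU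
      ((s.erase x : Finset X) : Set X) (Finset.finite_toSet _) (fun y hy => hsU y hy)
      (fun y hy hyt => by
        by_contra hcon
        exact ht' y hyt (Or.inr (subset_closure ⟨Finset.mem_of_mem_erase hy, hcon⟩)))
    refine ⟨W, hW, fun y hy => ?_⟩
    by_cases hyx : y = x
    · exact hyx ▸ hxW
    · exact hsW (Finset.mem_coe.2 (Finset.mem_erase.2 ⟨hyx, hy⟩))

theorem result [X.IsSeparated] (heart : Heart.{u}) (s : Finset X) (hs : ∀ x ∈ s, Good x) :
    ∃ U : X.Opens, IsAffineOpen U ∧ ∀ x ∈ s, x ∈ U := by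
  classical
  have hfin : {y : X | ∃ x ∈ s, y ⤳ x}.Finite := by
    have : {y : X | ∃ x ∈ s, y ⤳ x} = ⋃ x ∈ s, {y | y ⤳ x} := by
      ext y; simp
    rw [this]
    exact s.finite_toSet.biUnion fun x hx => (hs x hx).finite
  obtain ⟨U, hU, hsU⟩ := main heart _ hfin.toFinset rfl
    (fun y hy => by
      obtain ⟨x, hx, hyx⟩ := hfin.mem_toFinset.1 hy
      exact (hs x hx).of_specializes hyx)
    (fun y hy z hz => by
      obtain ⟨x, hx, hyx⟩ := hfin.mem_toFinset.1 hy
      exact hfin.mem_toFinset.2 ⟨x, hx, hz.trans hyx⟩)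
  exact ⟨U, hU, fun x hx => hsU x (hfin.mem_toFinset.2 ⟨x, hx, specializes_rfl⟩)⟩

end Groth.Agent.Grpsch.DimOneFin
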