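import Mathlib.RingTheory.Unramified.Finite
import Mathlib.RingTheory.Etale.Basic
import Mathlib.RingTheory.Flat.Basic
import Mathlib.RingTheory.Flat.Stability
import Mathlib.RingTheory.RingHom.Etale
import Mathlib.RingTheory.Idempotents
import Mathlib.RingTheory.Smooth.Flat

/-!
# Quotients of étale morphisms of groupoids, algebraic part A

Given ring level data `C → A ⇉ B`, `C' → A' ⇉ B'` (invariants of groupoids), `f : A → A'` étale and
`F : B → B'`, an étale `C`-algebra `E` and an equivariant section `τ : A' → A ⊗ E`, we show that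
`τ` restricts to an étale map `C' → E`.
-/

set_option autoImplicit false
universe u

open TensorProduct

namespace Groth.Agent.Grpsch.EtaleQuotA

section Exact

variable {C N A B E : Type*} [CommRing C] [AddCommGroup N] [AddCommGroup A] [AddCommGroup B]
  [AddCommGroup E] [Module C N] [Module C A] [Module C B] [Module C E] [Module.Flat C E]

theorem rTensor_injective (ι : N →ₗ[C] A) (hι : Function.Injective ι) :
    Function.Injective (ι.rTensor E) :=
  Module.Flat.rTensor_preserves_injective_linearMap ι hι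

theorem mem_range_rTensor (ι : N →ₗ[C] A) (s t : A →ₗ[C] B)
    (h : ∀ a, s a = t a → a ∈ Set.range ι) (h' : ∀ n, s (ι n) = t (ι n)) (z : A ⊗[C] E)
    (hz : s.rTensor E z = t.rTensor E z) : z ∈ Set.range (ι.rTensor E) := by
  have hex : Function.Exact ι (s - t) := by
    intro a
    constructor
    · intro ha
      exact h a (by rwa [LinearMap.sub_apply, sub_eq_zero] at ha)
    · rintro ⟨n, rfl⟩
      rw [LinearMap.sub_apply, sub_eq_zero, h']
  have h2 := Module.Flat.rTensor_exact E hex
  have h3 : (s - t).rTensor E z = 0 := by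
    rw [LinearMap.rTensor_sub, LinearMap.sub_apply, hz, sub_self]
  exact (h2 z).mp h3

end Exact

section Main

variable {C C' A B A' B' E : Type u} [CommRing C] [CommRing C'] [CommRing A] [CommRing B]
  [CommRing A'] [CommRing B'] [CommRing E] [Algebra C C'] [Algebra C A] [Algebra C B]
  [Algebra C A'] [Algebra C B'] [Algebra C' A'] [Algebra C' B'] [IsScalarTower C C' A']
  [IsScalarTower C C' B'] [Algebra C E]
  (s t : A →ₐ[C] B) (s' t' : A' →ₐ[C'] B') (f : A →ₐ[C] A') (F : B →ₐ[C] B')
  (τ : A' →ₐ[C] A ⊗[C] E) (θ : B' →ₐ[C] B ⊗[C] E)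

/-- `M : A' ⊗ E → A ⊗ E` induced by `τ`. -/
noncomputable def M : A' ⊗[C] E →ₐ[C] A ⊗[C] E :=
  Algebra.TensorProduct.lift τ Algebra.TensorProduct.includeRight (fun _ _ => Commute.all _ _)

@[simp]
theorem M_tmul (a : A') (e : E) : M τ (a ⊗ₜ e) = τ a * (1 ⊗ₜ e) := by
  simp [M]

/-- base change `A ⊗ E → B ⊗ E` -/
noncomputable abbrev bc {X Y : Type u} [CommRing X] [CommRing Y] [Algebra C X] [Algebra C Y]
    (E : Type u) [CommRing E] [Algebra C E]
    (g : X →ₐ[C] Y) : X ⊗[C] E →ₐ[C] Y ⊗[C] E :=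
  Algebra.TensorProduct.map g (AlgHom.id C E)

theorem exists_idem (hf : f.toRingHom.Etale) (hτ : ∀ a, τ (f a) = a ⊗ₜ 1) :
    ∃ ε : A' ⊗[C] E, M τ ε = 1 ∧ (∀ z, z * ε = bc E f (M τ z) * ε) := by
  let : Algebra A A' := f.toRingHom.toAlgebra
  have : IsScalarTower C A A' := IsScalarTower.of_algebraMap_eq fun c => (f.commutes c).symm
  have : Algebra.Etale A A' := hf
  let τ' : A' →ₐ[A] A' ⊗[C] E :=
    { ((bc E f).comp τ).toRingHom with
      commutes' := fun a => by
        change bc E f (τ (f a)) = _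
        rw [hτ]
        simp
        rfl }
  let Ψ : A' ⊗[A] A' →ₐ[A] A' ⊗[C] E := Algebra.TensorProduct.lift
    (IsScalarTower.toAlgHom A A' (A' ⊗[C] E)) τ' (fun _ _ => Commute.all _ _)
  have hΨ : ∀ a b : A', Ψ (a ⊗ₜ b) = (a ⊗ₜ 1) * bc E f (τ b) := fun a b => by
    rw [Algebra.TensorProduct.lift_tmul]
    rfl
  obtain ⟨t₀, ht₀, ht1⟩ := Algebra.FormallyUnramified.iff_exists_tensorProduct.mp
    (inferInstance : Algebra.FormallyUnramified A A')
  have hMf : ∀ z : A ⊗[C] E, M τ (bc E f z) = z := by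
    intro z
    induction z with
    | zero => simp
    | tmul a e => simp [hτ]
    | add x y hx hy => rw [map_add, map_add, hx, hy]
  have h1 : M τ (Ψ t₀) = τ (Algebra.TensorProduct.lmul' A t₀) := by
    have : ((M τ).toRingHom.comp Ψ.toRingHom) =
        τ.toRingHom.comp (Algebra.TensorProduct.lmul' A : A' ⊗[A] A' →ₐ[A] A').toRingHom := by
      apply Algebra.TensorProduct.ringHom_ext
      · ext a
        change M τ (Ψ (a ⊗ₜ 1)) = τ (Algebra.TensorProduct.lmul' A (a ⊗ₜ[A] (1 : A')))
        rw [hΨ]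
        simp [← Algebra.TensorProduct.one_def]
      · ext a
        change M τ (Ψ (1 ⊗ₜ a)) = τ (Algebra.TensorProduct.lmul' A ((1 : A') ⊗ₜ[A] a))
        rw [hΨ, map_mul, hMf]
        simp [← Algebra.TensorProduct.one_def]
    exact congr($this t₀)
  have h2 : ∀ a : A', (a ⊗ₜ[C] (1 : E)) * Ψ t₀ = bc E f (τ a) * Ψ t₀ := by
    intro a
    have := congr(Ψ $(ht₀ a))
    rw [map_zero, map_mul, map_sub, hΨ, hΨ, sub_mul, sub_eq_zero] at this
    simpa [← Algebra.TensorProduct.one_def] using this.symm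
  refine ⟨Ψ t₀, ?_, ?_⟩
  · rw [h1, ht1, map_one]
  · intro z
    induction z with
    | zero => simp
    | tmul a e =>
      have h3 : a ⊗ₜ[C] e = (a ⊗ₜ[C] (1 : E)) * (1 ⊗ₜ[C] e) := by simp
      rw [h3, map_mul, map_mul, mul_right_comm, h2]
      simp only [M_tmul, map_one, one_mul, map_mul]
      rw [mul_right_comm]
      congr 1
      simp [← Algebra.TensorProduct.one_def]
    | add x y hx hy => rw [add_mul, hx, hy, map_add, map_add, add_mul]

theorem M_bc {X Y X' Y' : Type u} [CommRing X] [CommRing Y] [CommRing X'] [CommRing Y']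
    [Algebra C X] [Algebra C Y] [Algebra C X'] [Algebra C Y']
    (g : X →ₐ[C] Y) (g' : X' →ₐ[C] Y') (τ : X' →ₐ[C] X ⊗[C] E) (θ : Y' →ₐ[C] Y ⊗[C] E)
    (h : ∀ a, θ (g' a) = bc E g (τ a)) (z : X' ⊗[C] E) : M θ (bc E g' z) = bc E g (M τ z) := by
  induction z with
  | zero => simp
  | tmul a e =>
    simp only [bc, Algebra.TensorProduct.map_tmul, AlgHom.coe_id, id_eq, M_tmul, map_mul, map_one]
    rw [h]
  | add x y hx hy => rw [map_add, map_add, map_add, map_add, hx, hy]

theorem mul_bc_eq (g : A →ₐ[C] B) (g' : A' →ₐ[C] B')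
    (hg : ∀ a, g' (f a) = F (g a))
    (hgen : Subring.closure (Set.range g' ∪ Set.range F) = ⊤)
    (hθ : ∀ a, θ (g' a) = bc E g (τ a)) (hθF : ∀ b, θ (F b) = b ⊗ₜ 1)
    (ε : A' ⊗[C] E) (hε : ∀ z, z * ε = bc E f (M τ z) * ε) (w : B' ⊗[C] E) :
    w * bc E g' ε = bc E F (M θ w) * bc E g' ε := by
  have h1 : ∀ b : B', (b ⊗ₜ[C] (1 : E)) * bc E g' ε = bc E F (θ b) * bc E g' ε := by
    intro b
    have hb : b ∈ Subring.closure (Set.range g' ∪ Set.range F) := hgen ▸ Subring.mem_top b
    induction hb using Subring.closure_induction with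
    | mem x hx =>
      rcases hx with ⟨a, rfl⟩ | ⟨b, rfl⟩
      · have h2 := congr(bc E g' $(hε (a ⊗ₜ 1)))
        rw [map_mul, map_mul] at h2
        have h3 : bc E g' (a ⊗ₜ[C] (1 : E)) = (g' a) ⊗ₜ 1 := by simp
        rw [h3] at h2
        rw [h2]
        congr 1
        have h4 : ∀ z : A ⊗[C] E, bc E g' (bc E f z) = bc E F (bc E g z) := by
          intro z
          induction z with
          | zero => simp
          | tmul a e => simp [hg]
          | add x y hx hy => simp only [map_add, hx, hy]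
        rw [h4, hθ]
        simp [← Algebra.TensorProduct.one_def]
      · rw [hθF]
        simp
    | zero => simp
    | one => simp [← Algebra.TensorProduct.one_def]
    | add x y _ _ hx hy => rw [TensorProduct.add_tmul, add_mul, hx, hy, map_add, map_add, add_mul]
    | neg x _ hx => rw [TensorProduct.neg_tmul, neg_mul, hx, map_neg, map_neg, neg_mul]
    | mul x y _ _ hx hy =>
      have : (x * y) ⊗ₜ[C] (1 : E) = (x ⊗ₜ 1) * (y ⊗ₜ 1) := by simp
      rw [this, mul_assoc, hy, mul_left_comm, hx, map_mul, map_mul]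
      ring
  induction w with
  | zero => simp
  | tmul b e =>
    have h3 : b ⊗ₜ[C] e = (b ⊗ₜ[C] (1 : E)) * (1 ⊗ₜ[C] e) := by simp
    rw [h3, map_mul, map_mul, mul_right_comm, h1]
    simp only [M_tmul, map_one, one_mul, map_mul]
    rw [mul_right_comm]
    congr 1
    simp [← Algebra.TensorProduct.one_def]
  | add x y hx hy => rw [add_mul, hx, hy, map_add, map_add, add_mul]

/-- An equivariant section `τ : A' → A ⊗ E` at an étale level `E` induces an étale map from the
ring of invariants `C'` of `A'` to `E`. -/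
theorem exists_etale_section [Algebra.Etale C E]
    (hCinj : Function.Injective (algebraMap C A))
    (hC : ∀ a, s a = t a → a ∈ Set.range (algebraMap C A))
    (hC'inj : Function.Injective (algebraMap C' A'))
    (hC' : ∀ a, s' a = t' a → a ∈ Set.range (algebraMap C' A'))
    (hs : ∀ a, s' (f a) = F (s a)) (ht : ∀ a, t' (f a) = F (t a))
    (hgs : Subring.closure (Set.range s' ∪ Set.range F) = ⊤)
    (hgt : Subring.closure (Set.range t' ∪ Set.range F) = ⊤)
    (hf : f.toRingHom.Etale)
    (hτ : ∀ a, τ (f a) = a ⊗ₜ 1) (hθF : ∀ b, θ (F b) = b ⊗ₜ 1)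
    (hθs : ∀ a, θ (s' a) = bc E s (τ a)) (hθt : ∀ a, θ (t' a) = bc E t (τ a)) :
    ∃ ψ : C' →ₐ[C] E, ψ.toRingHom.Etale ∧ ∀ c, τ (algebraMap C' A' c) = 1 ⊗ₜ ψ c := by
  have hflat : Module.Flat C E := inferInstance
  obtain ⟨ε, hε1, hε⟩ := exists_idem (E := E) f τ hf hτ
  -- the idempotent is invariant
  let s'C : A' →ₐ[C] B' := s'.restrictScalars C
  let t'C : A' →ₐ[C] B' := t'.restrictScalars C
  have hMs : M θ (bc E s'C ε) = 1 := by
    rw [M_bc s s'C τ θ hθs, hε1, map_one]
  have hMt : M θ (bc E t'C ε) = 1 := by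
    rw [M_bc t t'C τ θ hθt, hε1, map_one]
  have hεinv : bc E s'C ε = bc E t'C ε := by
    have h1 := mul_bc_eq f F τ θ s s'C hs hgs hθs hθF ε hε (bc E t'C ε)
    have h2 := mul_bc_eq f F τ θ t t'C ht hgt hθt hθF ε hε (bc E s'C ε)
    rw [hMt, map_one, one_mul] at h1
    rw [hMs, map_one, one_mul] at h2
    rw [← h1, mul_comm, h2]
  -- invariants after base change
  let ι : C' →ₐ[C] A' := IsScalarTower.toAlgHom C C' A'
  have hιinj : Function.Injective (bc E ι) :=
    rTensor_injective (E := E) ι.toLinearMap hC'inj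
  obtain ⟨ε', hε'⟩ : ε ∈ Set.range (bc E ι) :=
    mem_range_rTensor (E := E) ι.toLinearMap s'C.toLinearMap t'C.toLinearMap
      (fun a ha => hC' a ha) (fun n => by
        change s' (algebraMap C' A' n) = t' (algebraMap C' A' n)
        rw [s'.commutes, t'.commutes]) ε hεinv
  -- the map `ψ`
  have hJinj : Function.Injective
      (Algebra.TensorProduct.includeRight : E →ₐ[C] A ⊗[C] E) :=
    Algebra.TensorProduct.includeRight_injective hCinj
  have hJrange : ∀ z : A ⊗[C] E, bc E s z = bc E t z →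
      ∃ e : E, (1 : A) ⊗ₜ[C] e = z := by
    intro z hz
    obtain ⟨y, hy⟩ := mem_range_rTensor (E := E) (Algebra.linearMap C A) s.toLinearMap
      t.toLinearMap (fun a ha => hC a ha) (fun n => by
        change s (algebraMap C A n) = t (algebraMap C A n)
        rw [s.commutes, t.commutes]) z hz
    refine ⟨TensorProduct.lid C E y, ?_⟩
    rw [← hy]
    clear hy
    induction y with
    | zero => simp
    | tmul c e =>
      rw [TensorProduct.lid_tmul, LinearMap.rTensor_tmul, ← TensorProduct.smul_tmul,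
        Algebra.linearMap_apply, Algebra.algebraMap_eq_smul_one]
    | add x y hx hy => simp only [map_add, TensorProduct.tmul_add, hx, hy]
  have hψex : ∀ c : C', ∃ e : E, (1 : A) ⊗ₜ[C] e = τ (algebraMap C' A' c) := by
    intro c
    apply hJrange
    rw [← hθs, ← hθt, s'.commutes, t'.commutes]
  choose ψ₀ hψ₀ using hψex
  have hJ : ∀ e : E, (Algebra.TensorProduct.includeRight : E →ₐ[C] A ⊗[C] E) e = 1 ⊗ₜ e :=
    fun _ => rfl
  let ψ : C' →ₐ[C] E :=
    { toFun := ψ₀
      map_one' := hJinj (by rw [hJ, hψ₀, map_one, map_one, map_one])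
      map_mul' := fun a b => hJinj (by rw [hJ, hψ₀, map_mul, map_mul, map_mul, hJ, hJ, hψ₀, hψ₀])
      map_zero' := hJinj (by rw [hJ, hψ₀, map_zero, map_zero, map_zero])
      map_add' := fun a b => hJinj (by rw [hJ, hψ₀, map_add, map_add, map_add, hJ, hJ, hψ₀, hψ₀])
      commutes' := fun c => hJinj (by
        rw [hJ, hψ₀, ← IsScalarTower.algebraMap_apply, τ.commutes, AlgHom.commutes]) }
  have hψ : ∀ c, τ (algebraMap C' A' c) = 1 ⊗ₜ ψ c := fun c => (hψ₀ c).symm
  refine ⟨ψ, ?_, hψ⟩
  -- the map `m : C' ⊗ E → E`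
  let m : C' ⊗[C] E →ₐ[C] E := Algebra.TensorProduct.lift ψ (AlgHom.id C E)
    (fun _ _ => Commute.all _ _)
  have hmJ : ∀ w, (1 : A) ⊗ₜ[C] m w = M τ (bc E ι w) := by
    intro w
    induction w with
    | zero => simp
    | tmul c e =>
      have h1 : M τ (bc E ι (c ⊗ₜ[C] e)) = τ (algebraMap C' A' c) * (1 ⊗ₜ e) := by
        simp only [bc, Algebra.TensorProduct.map_tmul, M_tmul]
        rfl
      rw [h1, hψ]
      simp [m]
    | add x y hx hy => simp only [map_add, TensorProduct.tmul_add, hx, hy]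
  have hε'1 : m ε' = 1 := hJinj (by
    rw [hJ, hmJ, hε', hε1, map_one])
  have hker : ∀ w, m w = 0 → ε' * w = 0 := by
    intro w hw
    apply hιinj
    rw [mul_comm, map_mul, hε', hε, ← hmJ, hw, map_zero, TensorProduct.tmul_zero, map_zero,
      zero_mul]
  have hidem : IsIdempotentElem ε' := by
    have h1 := hker (ε' - 1) (by rw [map_sub, hε'1, map_one, sub_self])
    rwa [mul_sub, mul_one, sub_eq_zero] at h1
  let : Algebra (C' ⊗[C] E) E := m.toRingHom.toAlgebra
  have hloc : IsLocalization.Away ε' E := by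
    apply IsLocalization.away_of_isIdempotentElem_of_mul hidem
    · intro x y
      constructor
      · intro h
        have h1 := hker (x - y) (by rw [map_sub]; exact sub_eq_zero.mpr h)
        rwa [mul_sub, sub_eq_zero] at h1
      · intro h
        have h1 := congr(m $h)
        rwa [map_mul, map_mul, hε'1, one_mul, one_mul] at h1
    · intro e
      exact ⟨1 ⊗ₜ e, by change m (1 ⊗ₜ e) = e; simp [m]⟩
  have hmet : m.toRingHom.Etale := Algebra.Etale.of_isLocalizationAway ε'
  have hinc : (algebraMap C' (C' ⊗[C] E)).Etale := by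
    rw [RingHom.etale_algebraMap]
    infer_instance
  have hψm : ψ.toRingHom = m.toRingHom.comp (algebraMap C' (C' ⊗[C] E)) := by
    ext c
    change ψ c = m (c ⊗ₜ 1)
    simp [m]
  rw [hψm]
  exact RingHom.Etale.stableUnderComposition _ _ hinc hmet

end Main

end Groth.Agent.Grpsch.EtaleQuotA
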