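import Groth.Agent.Hensel.Hull
import Groth.Agent.CalgC.IndEtale
import Mathlib.FieldTheory.IsSepClosed

/-!
# Complements on hulls (strict henselizations at a geometric point)
-/

set_option autoImplicit false
universe u

open TensorProduct

namespace Groth.Agent.Grpsch.HullPoints

open Groth.Agent.Hensel.Hull Groth.Agent.CalgC.IndEtale Polynomial

/-- The residue field of the hull of `R` at a separably closed field `K` is separably closed. -/
theorem isSepClosed_residueField {R S K : Type u} [CommRing R] [CommRing S] [Field K]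
    [Algebra R S] [Algebra R K] {π : S →ₐ[R] K} (h : IsHull R S K π) [IsSepClosed K]
    [IsLocalRing S] : IsSepClosed (IsLocalRing.ResidueField S) := by
  have hπ : IsLocalHom π.toRingHom := ⟨fun s hs => h.isUnit_of_ne_zero s hs.ne_zero⟩
  let ρ : IsLocalRing.ResidueField S →+* K := IsLocalRing.ResidueField.lift π.toRingHom
  have hρ : ∀ s : S, ρ (IsLocalRing.residue S s) = π s := fun s =>
    IsLocalRing.ResidueField.lift_residue_apply _ _
  refine IsSepClosed.of_exists_root _ fun p hp hirr hsep => ?_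
  obtain ⟨f, hf, -, hfm⟩ := Polynomial.lifts_and_natDegree_eq_and_monic
    (Polynomial.map_surjective (IsLocalRing.residue S) IsLocalRing.residue_surjective p) hp
  obtain ⟨α, hα⟩ := IsSepClosed.exists_root (p.map ρ) (by
    rw [Polynomial.degree_map]; exact hirr.degree_pos.ne') hsep.map
  obtain ⟨E, _, _, _, χ, hχ⟩ := h.exists_etale_finset f.coeffs
  have hlift : f ∈ Polynomial.lifts (χ : E →+* S) := by
    rw [Polynomial.lifts_iff_coeff_lifts]
    intro n
    by_cases hn : f.coeff n = 0
    · exact ⟨0, by rw [hn, map_zero]⟩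
    · exact hχ (Polynomial.coeff_mem_coeffs hn)
  obtain ⟨g, hg, -, hgm⟩ := Polynomial.lifts_and_natDegree_eq_and_monic hlift hfm
  let P : StandardEtalePair E :=
    { f := g, monic_f := hgm, g := derivative g, cond := ⟨1, 0, 1, by ring⟩ }
  let : Algebra E K := ((π : S →+* K).comp (χ : E →+* S)).toAlgebra
  have : IsScalarTower R E K := IsScalarTower.of_algebraMap_eq fun r => by
    change _ = π (χ (algebraMap R E r))
    rw [χ.commutes, π.commutes]
  have hmap : ∀ q : E[X], aeval α q = ((q.map (χ : E →+* S)).map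
      (IsLocalRing.residue S)).eval₂ ρ α := by
    intro q
    rw [Polynomial.eval₂_map, Polynomial.eval₂_map, Polynomial.aeval_def]
    congr 1
  have hP : P.HasMap α := by
    constructor
    · change aeval α g = 0
      rw [hmap, hg, hf, ← Polynomial.eval_map]
      exact hα
    · change IsUnit (aeval α (derivative g))
      rw [hmap, ← Polynomial.derivative_map, hg, ← Polynomial.derivative_map, hf,
        isUnit_iff_ne_zero]
      intro h0
      have hsep' : (p.map ρ).Separable := hsep.map
      rw [← Polynomial.eval_map, ← Polynomial.derivative_map] at h0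
      obtain ⟨a, b, hab⟩ := hsep'
      have := congr(Polynomial.eval α $hab)
      rw [Polynomial.eval_add, Polynomial.eval_mul, Polynomial.eval_mul, h0] at this
      have hα' : (p.map ρ).eval α = 0 := hα
      rw [hα'] at this
      simp at this
  let : Algebra R P.Ring := ((algebraMap E P.Ring).comp (algebraMap R E)).toAlgebra
  have : IsScalarTower R E P.Ring := IsScalarTower.of_algebraMap_eq fun r => rfl
  have : Algebra.Etale R P.Ring := Algebra.Etale.comp R E P.Ring
  let σ : P.Ring →ₐ[R] K := (P.lift α hP).restrictScalars R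
  obtain ⟨φ, hφ⟩ := h.exists_lift P.Ring σ
  have hcomp : φ.comp (IsScalarTower.toAlgHom R E P.Ring) = χ := by
    apply h.algHom_eq
    rw [← AlgHom.comp_assoc, hφ]
    ext e
    exact (P.lift α hP).commutes e
  refine ⟨IsLocalRing.residue S (φ P.X), ?_⟩
  have h1 : aeval P.X g = 0 := P.hasMap_X.1
  have h2 : f.eval (φ P.X) = 0 := by
    have h3 := congr(φ $h1)
    rw [map_zero] at h3
    rw [← h3, ← hg, Polynomial.eval_map, Polynomial.aeval_def]
    have h4 := Polynomial.hom_eval₂ g (algebraMap E P.Ring) (φ : P.Ring →+* S) P.X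
    refine Eq.trans ?_ h4.symm
    have h5 : (χ : E →+* S) = (φ : P.Ring →+* S).comp (algebraMap E P.Ring) := by
      ext e
      exact congr($hcomp.symm e)
    rw [h5]
    rfl
  rw [← hf, Polynomial.eval_map_apply, h2, map_zero]

section Stage

variable {C S : Type u} [CommRing C] [CommRing S] [Algebra C S]

theorem lTensor_eq_map (B : Type u) [CommRing B] [Algebra C B] {E₁ E₂ : Type u} [CommRing E₁]
    [CommRing E₂] [Algebra C E₁] [Algebra C E₂] (g : E₁ →ₐ[C] E₂) (z : B ⊗[C] E₁) :
    LinearMap.lTensor B g.toLinearMap z = Algebra.TensorProduct.map (AlgHom.id B B) g z := by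
  induction z with
  | zero => simp
  | tmul a b => simp
  | add a b ha hb => simp only [map_add, ha, hb]

theorem etale_fp : ∀ (E : Type u) [CommRing E] [Algebra C E], Algebra.Etale C E →
    Algebra.FinitePresentation C E := fun _ _ _ h => h.finitePresentation

/-- An algebra map from a finitely presented `A`-algebra to `A ⊗ S`, with `S` ind-étale over `C`,
is defined at a finite étale level. -/
theorem exists_algHom_stage (h : IsIndEtale C S) {A A' : Type u} [CommRing A] [CommRing A']
    [Algebra C A] [Algebra A A'] [Algebra.FinitePresentation A A'] (τ : A' →ₐ[A] A ⊗[C] S) :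
    ∃ (E : Type u) (_ : CommRing E) (_ : Algebra C E) (_ : Algebra.Etale C E) (χ : E →ₐ[C] S)
      (τE : A' →ₐ[A] A ⊗[C] E), (Algebra.TensorProduct.map (AlgHom.id A A) χ).comp τE = τ := by
  have h' := (isIndEtale_iff C S).1 h
  obtain ⟨n, f, hf, T, hT⟩ := Algebra.FinitePresentation.out (R := A) (A := A')
  let x : Fin n → A ⊗[C] S := fun i => τ (f (MvPolynomial.X i))
  obtain ⟨E₁, _, _, hE₁, -, χ₁, y, -, hy⟩ :=
    IsIndP.exists_lift_tensor_fin etale_fp h' A n x C (Algebra.ofId C S)
  have := etale_fp E₁ hE₁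
  have h0 : (MvPolynomial.aeval x : MvPolynomial (Fin n) A →ₐ[A] A ⊗[C] S) = τ.comp f := by
    apply MvPolynomial.algHom_ext
    intro i
    simp [x]
  obtain ⟨E, _, _, hE, ρ, χ, h1, h2⟩ := IsIndP.exists_stage_tensor_eq_zero_set etale_fp h' χ₁ A
    ((fun t => MvPolynomial.aeval y t) '' (T : Set (MvPolynomial (Fin n) A)))
    ((Finset.finite_toSet _).image _) (by
      rintro _ ⟨t, ht, rfl⟩
      rw [lTensor_eq_map, ← AlgHom.comp_apply]
      have : (Algebra.TensorProduct.map (AlgHom.id A A) χ₁).comp (MvPolynomial.aeval y) =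
          (MvPolynomial.aeval x : MvPolynomial (Fin n) A →ₐ[A] A ⊗[C] S) := by
        apply MvPolynomial.algHom_ext
        intro i
        simp only [AlgHom.comp_apply, MvPolynomial.aeval_X]
        rw [← lTensor_eq_map, hy]
      rw [this, h0, AlgHom.comp_apply]
      have ht' : t ∈ RingHom.ker f.toRingHom := hT ▸ Ideal.subset_span ht
      have : f t = 0 := ht'
      rw [this, map_zero])
  let y' : Fin n → A ⊗[C] E := fun i => Algebra.TensorProduct.map (AlgHom.id A A) ρ (y i)
  have h3 : (MvPolynomial.aeval y' : MvPolynomial (Fin n) A →ₐ[A] A ⊗[C] E) =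
      (Algebra.TensorProduct.map (AlgHom.id A A) ρ).comp (MvPolynomial.aeval y) := by
    apply MvPolynomial.algHom_ext
    intro i
    simp [y']
  have h4 : ∀ t, f t = 0 → (MvPolynomial.aeval y' : MvPolynomial (Fin n) A →ₐ[A] A ⊗[C] E) t = 0 := by
    have : RingHom.ker f.toRingHom ≤
        RingHom.ker (MvPolynomial.aeval y' : MvPolynomial (Fin n) A →ₐ[A] A ⊗[C] E).toRingHom := by
      rw [← hT]
      refine Ideal.span_le.2 fun t ht => ?_
      have := h2 _ ⟨t, ht, rfl⟩
      rw [lTensor_eq_map] at this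
      show (MvPolynomial.aeval y' : MvPolynomial (Fin n) A →ₐ[A] A ⊗[C] E) t = 0
      rw [h3]
      exact this
    intro t ht
    exact this ht
  obtain ⟨ψ, hψ⟩ := exists_algHom_of_surjective f hf _ h4
  refine ⟨E, inferInstance, inferInstance, hE, χ, ψ, ?_⟩
  apply AlgHom.ext
  intro p
  obtain ⟨t, rfl⟩ := hf p
  rw [AlgHom.comp_apply, hψ, ← AlgHom.comp_apply, ← AlgHom.comp_apply]
  congr 1
  rw [← h0]
  apply MvPolynomial.algHom_ext
  intro i
  simp only [AlgHom.comp_apply, MvPolynomial.aeval_X, y']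
  rw [← AlgHom.comp_apply, ← Algebra.TensorProduct.map_comp, h1, ← hy i, lTensor_eq_map]
  simp

/-- Two algebra maps from a `B`-algebra of finite type to `B ⊗ E₀` which agree in `B ⊗ S` agree
already at a further étale level. -/
theorem exists_stage_algHom_eq (h : IsIndEtale C S) {B B' : Type u} [CommRing B] [CommRing B']
    [Algebra C B] [Algebra B B'] [Algebra.FiniteType B B'] {E₀ : Type u} [CommRing E₀]
    [Algebra C E₀] [Algebra.Etale C E₀] (χ₀ : E₀ →ₐ[C] S) (θ₁ θ₂ : B' →ₐ[B] B ⊗[C] E₀)
    (hθ : (Algebra.TensorProduct.map (AlgHom.id B B) χ₀).comp θ₁ =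
      (Algebra.TensorProduct.map (AlgHom.id B B) χ₀).comp θ₂) :
    ∃ (E : Type u) (_ : CommRing E) (_ : Algebra C E) (_ : Algebra.Etale C E) (ρ : E₀ →ₐ[C] E)
      (χ : E →ₐ[C] S), χ.comp ρ = χ₀ ∧
      (Algebra.TensorProduct.map (AlgHom.id B B) ρ).comp θ₁ =
        (Algebra.TensorProduct.map (AlgHom.id B B) ρ).comp θ₂ := by
  have h' := (isIndEtale_iff C S).1 h
  obtain ⟨T, hT⟩ := Algebra.FiniteType.out (R := B) (A := B')
  obtain ⟨E, _, _, hE, ρ, χ, h1, h2⟩ := IsIndP.exists_stage_tensor_eq_zero_set etale_fp h' χ₀ B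
    ((fun t => θ₁ t - θ₂ t) '' (T : Set B'))
    ((Finset.finite_toSet _).image _) (by
      rintro _ ⟨t, ht, rfl⟩
      rw [lTensor_eq_map, map_sub, sub_eq_zero]
      exact congr($hθ t))
  refine ⟨E, inferInstance, inferInstance, hE, ρ, χ, h1, ?_⟩
  refine AlgHom.ext_of_adjoin_eq_top hT fun t ht => ?_
  have := h2 _ ⟨t, ht, rfl⟩
  rw [lTensor_eq_map, map_sub, sub_eq_zero] at this
  exact this

end Stage

end Groth.Agent.Grpsch.HullPoints
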