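import Mathlib.RingTheory.Unramified.Field
import Mathlib.RingTheory.Unramified.Basic
import Mathlib.RingTheory.Unramified.Finite
import Mathlib.RingTheory.Etale.Basic
import Mathlib.RingTheory.Henselian
import Mathlib.FieldTheory.IsSepClosed
import Mathlib.FieldTheory.PurelyInseparable.Basic
import Mathlib.RingTheory.Ideal.Quotient.Operations
import Mathlib.RingTheory.Ideal.GoingUp
import Mathlib.FieldTheory.IsAlgClosed.Basic
import Groth.Agent.S0523
import Groth.Agent.S0525
import Groth.Agent.S0526

/-!
# Sections of étale algebras over integral algebras over a strictly henselian local ring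
-/

set_option autoImplicit false
universe u v w

open TensorProduct

namespace Groth.Agent.Grpsch.StrictSection

section Field

/-- If `κ ⊆ k ⊆ K` are fields with `κ` separably closed and `k/κ` algebraic, then every element of
`K` which is separable over `k` lies in `k`. -/
theorem mem_range_of_isSeparable {κ k K : Type*} [Field κ] [Field k] [Field K] [Algebra κ k]
    [Algebra k K] [IsSepClosed κ] [Algebra.IsAlgebraic κ k]
    (x : K) (hx : IsSeparable k x) : x ∈ Set.range (algebraMap k K) := by
  have : IsSepClosed k := Algebra.IsAlgebraic.isSepClosed (F := κ)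
  have h1 : IsIntegral k x := hx.isIntegral
  have h2 : (minpoly k x).degree = 1 :=
    IsSepClosed.degree_eq_one_of_irreducible k (minpoly.irreducible h1) hx
  rw [minpoly.degree_eq_one_iff] at h2
  exact h2

/-- A map from a formally unramified algebra of finite type over a field `k` to a field extension
`K` of `k` has values separable over `k`. -/
theorem isSeparable_of_formallyUnramified {k K A : Type*} [Field k] [Field K] [Algebra k K]
    [CommRing A] [Algebra k A] [Algebra.FiniteType k A] [Algebra.FormallyUnramified k A]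
    (φ : A →ₐ[k] K) (a : A) : IsSeparable k (φ a) := by
  have hfin : Module.Finite k A := Algebra.FormallyUnramified.finite_of_free k A
  let L := φ.range
  have hL : Module.Finite k L := Module.Finite.of_surjective φ.rangeRestrict.toLinearMap
    φ.rangeRestrict_surjective
  have hLi : Algebra.IsIntegral k L := inferInstance
  have hLf : IsField L := isField_of_isIntegral_of_isField' (Field.toIsField k)
  let := hLf.toField
  have : Algebra.FormallyUnramified k L :=
    Algebra.FormallyUnramified.of_surjective φ.rangeRestrict φ.rangeRestrict_surjective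
  have : Algebra.IsSeparable k L := Algebra.FormallyUnramified.isSeparable k L
  have h := Algebra.IsSeparable.isSeparable k (⟨φ a, ⟨a, rfl⟩⟩ : L)
  have h2 : minpoly k (φ a) = minpoly k (⟨φ a, ⟨a, rfl⟩⟩ : L) :=
    (minpoly.algHom_eq L.val Subtype.val_injective (⟨φ a, ⟨a, rfl⟩⟩ : L))
  rw [IsSeparable, h2]
  exact h

end Field

section Points

open IsLocalRing

variable {S T K : Type*} [CommRing S] [IsLocalRing S] [CommRing T] [Algebra S T]
  [Algebra.IsIntegral S T] [Field K] (ρ : S →+* K)

/-- Every prime of an integral algebra `T` over a local ring `S` above the closed point is the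
kernel of a `K`-point, for `K` an algebraically closed extension of the residue field. -/
theorem exists_ringHom_of_comap_eq [IsAlgClosed K] [IsLocalHom ρ] (P : Ideal T) [P.IsPrime]
    (hP : P.comap (algebraMap S T) = maximalIdeal S) :
    ∃ y : T →+* K, y.comp (algebraMap S T) = ρ ∧ RingHom.ker y = P := by
  have hlo : P.LiesOver (maximalIdeal S) := ⟨hP.symm⟩
  let := Ideal.Quotient.field (maximalIdeal S)
  have hint : Algebra.IsIntegral (S ⧸ maximalIdeal S) (T ⧸ P) := inferInstance
  have hfield : IsField (T ⧸ P) :=
    isField_of_isIntegral_of_isField' (R := S ⧸ maximalIdeal S) (Field.toIsField _)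
  let := hfield.toField
  have hρ : ∀ a ∈ maximalIdeal S, ρ a = 0 := by
    intro a ha
    by_contra h
    exact ha ((isUnit_map_iff ρ a).mp (isUnit_iff_ne_zero.mpr h))
  let ρ' : S ⧸ maximalIdeal S →+* K := Ideal.Quotient.lift _ ρ hρ
  let := ρ'.toAlgebra
  have hint' : Algebra.IsIntegral (S ⧸ maximalIdeal S) (T ⧸ P) := hint
  let z : T ⧸ P →ₐ[S ⧸ maximalIdeal S] K := IsAlgClosed.lift
  refine ⟨z.toRingHom.comp (Ideal.Quotient.mk P), ?_, ?_⟩
  · ext s
    have := z.commutes (Ideal.Quotient.mk _ s)
    exact this
  · ext t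
    rw [RingHom.mem_ker]
    change z (Ideal.Quotient.mk P t) = 0 ↔ _
    rw [map_eq_zero_iff z (RingHom.injective z.toRingHom), Ideal.Quotient.eq_zero_iff_mem]

/-- Over a local ring with separably closed residue field, a `K`-point of an integral algebra above
the closed point is determined by its kernel. -/
theorem ringHom_ext_of_ker_eq [IsSepClosed (ResidueField S)] [IsLocalHom ρ]
    (y₁ y₂ : T →+* K) (h₁ : y₁.comp (algebraMap S T) = ρ) (h₂ : y₂.comp (algebraMap S T) = ρ)
    (h : RingHom.ker y₁ = RingHom.ker y₂) : y₁ = y₂ := by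
  have hρ : ∀ a ∈ maximalIdeal S, ρ a = 0 := by
    intro a ha
    by_contra h
    exact ha ((isUnit_map_iff ρ a).mp (isUnit_iff_ne_zero.mpr h))
  have hP : (RingHom.ker y₁).comap (algebraMap S T) = maximalIdeal S := by
    rw [RingHom.comap_ker, h₁]
    refine le_antisymm (le_maximalIdeal (RingHom.ker_ne_top ρ)) (fun a ha => hρ a ha)
  have hlo : (RingHom.ker y₁).LiesOver (maximalIdeal S) := ⟨hP.symm⟩
  let k := S ⧸ maximalIdeal S
  let : Field k := Ideal.Quotient.field (maximalIdeal S)
  have hint : Algebra.IsIntegral k (T ⧸ RingHom.ker y₁) := inferInstance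
  have hprime : (RingHom.ker y₁).IsPrime := RingHom.ker_isPrime y₁
  have hfield : IsField (T ⧸ RingHom.ker y₁) :=
    isField_of_isIntegral_of_isField' (R := k) (Field.toIsField _)
  let := hfield.toField
  have hsep : IsSepClosed k := inferInstanceAs (IsSepClosed (ResidueField S))
  have hint' : Algebra.IsAlgebraic k (T ⧸ RingHom.ker y₁) := inferInstance
  have hpi : IsPurelyInseparable k (T ⧸ RingHom.ker y₁) := inferInstance
  let z₁ : T ⧸ RingHom.ker y₁ →+* K := Ideal.Quotient.lift _ y₁ (fun a ha => ha)
  let z₂ : T ⧸ RingHom.ker y₁ →+* K := Ideal.Quotient.lift _ y₂ (fun a ha => by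
    rw [h] at ha; exact ha)
  have hz : z₁ = z₂ := by
    apply IsPurelyInseparable.injective_comp_algebraMap k (T ⧸ RingHom.ker y₁) K
    apply Ideal.Quotient.ringHom_ext
    ext s
    exact congr($(h₁.trans h₂.symm) s)
  ext t
  exact congr($hz (Ideal.Quotient.mk _ t))

/-- Uniqueness of sections of unramified algebras: two `B`-algebra maps from an unramified
`B`-algebra `D` to an algebra `T` integral over a local ring `S` which agree on all `K`-points above
the closed point of `S` are equal. -/
theorem algHom_ext_of_points {B D : Type*} [CommRing B] [CommRing D] [Algebra B D] [Algebra B T]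
    [Algebra.FiniteType B D] [Algebra.FormallyUnramified B D] [IsAlgClosed K] [IsLocalHom ρ]
    (τ₁ τ₂ : D →ₐ[B] T)
    (H : ∀ y : T →+* K, y.comp (algebraMap S T) = ρ →
      y.comp (τ₁ : D →+* T) = y.comp (τ₂ : D →+* T)) : τ₁ = τ₂ := by
  obtain ⟨t, ht, ht1⟩ := Algebra.FormallyUnramified.iff_exists_tensorProduct.mp
    (inferInstance : Algebra.FormallyUnramified B D)
  let m : D ⊗[B] D →ₐ[B] T := Algebra.TensorProduct.lift τ₁ τ₂ (fun _ _ => Commute.all _ _)
  have hy : ∀ y : T →+* K, y.comp (algebraMap S T) = ρ → y (m t) = 1 := by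
    intro y hyρ
    have h1 : y.comp (m : D ⊗[B] D →+* T) =
        (y.comp (τ₁ : D →+* T)).comp (Algebra.TensorProduct.lmul' B : D ⊗[B] D →ₐ[B] D) := by
      apply Algebra.TensorProduct.ringHom_ext
      · ext d
        simp [m]
      · ext d
        have := congr($(H y hyρ) d)
        simpa [m] using this.symm
    have h2 := congr($h1 t)
    simp only [RingHom.comp_apply, RingHom.coe_coe] at h2
    rw [h2, ht1]
    simp
  have hu : IsUnit (m t) := by
    by_contra hnu
    obtain ⟨M, hM, htM⟩ := exists_max_ideal_of_mem_nonunits hnu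
    have hMS : M.comap (algebraMap S T) = maximalIdeal S :=
      eq_maximalIdeal (Ideal.isMaximal_comap_of_isIntegral_of_isMaximal M)
    obtain ⟨y, hyρ, hyM⟩ := exists_ringHom_of_comap_eq ρ M hMS
    have h1 := hy y hyρ
    rw [← hyM, RingHom.mem_ker, h1] at htM
    exact one_ne_zero htM
  ext d
  have h1 := congr(m $(ht d))
  simp only [map_mul, map_sub, map_zero] at h1
  rw [mul_comm, hu.mul_right_eq_zero, sub_eq_zero] at h1
  simpa [m] using h1.symm

/-- A `K`-point of an étale algebra over a point `y` of `T` (integral over a local ring with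
separably closed residue field) factors through the residue field `T / ker y`. -/
theorem exists_lift_quotient {A A' : Type*} [CommRing A] [CommRing A'] [Algebra A A'] [Algebra A T]
    [Algebra.FiniteType A A'] [Algebra.FormallyUnramified A A'] [IsSepClosed (ResidueField S)]
    [IsLocalHom ρ]
    (y : T →+* K) (hy : y.comp (algebraMap S T) = ρ) (σ : A' →+* K)
    (hσ : σ.comp (algebraMap A A') = y.comp (algebraMap A T)) :
    ∃ σ' : A' →ₐ[A] T ⧸ RingHom.ker y, (RingHom.kerLift y).comp (σ' : A' →+* T ⧸ RingHom.ker y) = σ := by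
  have hρ : ∀ a ∈ maximalIdeal S, ρ a = 0 := by
    intro a ha
    by_contra h
    exact ha ((isUnit_map_iff ρ a).mp (isUnit_iff_ne_zero.mpr h))
  have hP : (RingHom.ker y).comap (algebraMap S T) = maximalIdeal S := by
    rw [RingHom.comap_ker, hy]
    refine le_antisymm (le_maximalIdeal (RingHom.ker_ne_top ρ)) (fun a ha => hρ a ha)
  have hlo : (RingHom.ker y).LiesOver (maximalIdeal S) := ⟨hP.symm⟩
  let κ := S ⧸ maximalIdeal S
  let k := T ⧸ RingHom.ker y
  let : Field κ := Ideal.Quotient.field (maximalIdeal S)
  have hint : Algebra.IsIntegral κ k := inferInstance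
  have hprime : (RingHom.ker y).IsPrime := RingHom.ker_isPrime y
  have hfield : IsField k := isField_of_isIntegral_of_isField' (R := κ) (Field.toIsField _)
  let := hfield.toField
  have hsep : IsSepClosed κ := inferInstanceAs (IsSepClosed (ResidueField S))
  have hint' : Algebra.IsAlgebraic κ k := inferInstance
  let : Algebra k K := (RingHom.kerLift y).toAlgebra
  let : Algebra A K := (y.comp (algebraMap A T)).toAlgebra
  have : IsScalarTower A k K := IsScalarTower.of_algebraMap_eq' rfl
  let σA : A' →ₐ[A] K := { σ with commutes' := fun a => congr($hσ a) }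
  let Φ : k ⊗[A] A' →ₐ[k] K := Algebra.TensorProduct.lift (Algebra.ofId k K) σA
    (fun _ _ => Commute.all _ _)
  have hr : ∀ a : A', σ a ∈ Set.range (algebraMap k K) := by
    intro a
    have h1 : IsSeparable k (Φ (1 ⊗ₜ a)) := isSeparable_of_formallyUnramified Φ (1 ⊗ₜ a)
    have h2 : Φ (1 ⊗ₜ a) = σ a := by simp [Φ, σA]
    rw [h2] at h1
    exact mem_range_of_isSeparable (κ := κ) _ h1
  have hinj : Function.Injective (algebraMap k K) := (algebraMap k K).injective
  choose g hg using hr
  let σ' : A' →ₐ[A] k :=
    { toFun := g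
      map_one' := hinj (by rw [hg, map_one, map_one])
      map_mul' := fun a b => hinj (by rw [hg, map_mul, map_mul, hg, hg])
      map_zero' := hinj (by rw [hg, map_zero, map_zero])
      map_add' := fun a b => hinj (by rw [hg, map_add, map_add, hg, hg])
      commutes' := fun a => hinj (by
        rw [hg]
        exact congr($hσ a)) }
  refine ⟨σ', ?_⟩
  ext a
  exact hg a

end Points

section Existence

open IsLocalRing

/-- Existence of sections of étale algebras with prescribed values at the points above the closed
point, over an integral algebra over a strictly henselian local ring. -/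
theorem exists_algHom_of_points {S T K A A' : Type u} [CommRing S] [HenselianLocalRing S]
    [IsSepClosed (ResidueField S)] [CommRing T] [Algebra S T] [Algebra.IsIntegral S T] [Field K]
    [IsAlgClosed K] (ρ : S →+* K) [IsLocalHom ρ] [CommRing A] [CommRing A'] [Algebra A T]
    [Algebra A A'] [Algebra.Etale A A']
    [Finite {y : T →+* K // y.comp (algebraMap S T) = ρ}]
    (σ : {y : T →+* K // y.comp (algebraMap S T) = ρ} → (A' →+* K))
    (hσ : ∀ y, (σ y).comp (algebraMap A A') = y.1.comp (algebraMap A T)) :
    ∃ τ : A' →ₐ[A] T, ∀ y : {y : T →+* K // y.comp (algebraMap S T) = ρ},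
      y.1.comp (τ : A' →+* T) = σ y := by
  let J : Ideal T := ⨅ y : {y : T →+* K // y.comp (algebraMap S T) = ρ}, RingHom.ker y.1
  have hρ : ∀ a ∈ maximalIdeal S, ρ a = 0 := by
    intro a ha
    by_contra h
    exact ha ((isUnit_map_iff ρ a).mp (isUnit_iff_ne_zero.mpr h))
  have hJ : ((maximalIdeal S).map (algebraMap S T)).radical = J := by
    apply le_antisymm
    · refine le_iInf fun y => ?_
      have hprime : (RingHom.ker y.1).IsPrime := RingHom.ker_isPrime y.1
      refine hprime.radical_le_iff.mpr (Ideal.map_le_iff_le_comap.mpr fun a ha => ?_)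
      rw [Ideal.mem_comap, RingHom.mem_ker]
      exact (congr($(y.2) a)).trans (hρ a ha)
    · rw [Ideal.radical_eq_sInf]
      refine le_sInf fun P hP => ?_
      obtain ⟨hP1, hP2⟩ := hP
      have hP3 : P.comap (algebraMap S T) = maximalIdeal S := by
        refine le_antisymm (le_maximalIdeal (Ideal.comap_ne_top _ hP2.ne_top)) ?_
        exact Ideal.map_le_iff_le_comap.mp hP1
      obtain ⟨y, hy1, hy2⟩ := exists_ringHom_of_comap_eq ρ P hP3
      exact (iInf_le _ ⟨y, hy1⟩).trans hy2.le
  have hJr : ((maximalIdeal S).map (algebraMap S T)).radical = J.radical := by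
    rw [← hJ, Ideal.radical_idem]
  have h1 : HenselianRing T ((maximalIdeal S).map (algebraMap S T)) :=
    Groth.Agent.S0526.result S (maximalIdeal S) T
  have h2 : HenselianRing T J := (Groth.Agent.S0525.result T _ J hJr).mp h1
  have h3 := (Groth.Agent.S0523.result T J).mp h2 (T ⊗[A] A')
  choose σ' hσ' using fun y : {y : T →+* K // y.comp (algebraMap S T) = ρ} =>
    exists_lift_quotient ρ y.1 y.2 (σ y) (hσ y)
  have hcop : Pairwise (Function.onFun IsCoprime
      fun y : {y : T →+* K // y.comp (algebraMap S T) = ρ} => RingHom.ker y.1) := by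
    intro y₁ y₂ hne
    have hmax : ∀ y : {y : T →+* K // y.comp (algebraMap S T) = ρ}, (RingHom.ker y.1).IsMaximal := by
      intro y
      have hprime : (RingHom.ker y.1).IsPrime := RingHom.ker_isPrime y.1
      apply Ideal.isMaximal_of_isIntegral_of_isMaximal_comap (R := S)
      rw [RingHom.comap_ker, y.2]
      have : RingHom.ker ρ = maximalIdeal S :=
        le_antisymm (le_maximalIdeal (RingHom.ker_ne_top ρ)) (fun a ha => hρ a ha)
      rw [this]
      infer_instance
    have hm1 := hmax y₁
    have hm2 := hmax y₂
    refine Ideal.isCoprime_of_isMaximal fun h => hne (Subtype.ext ?_)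
    exact ringHom_ext_of_ker_eq ρ y₁.1 y₂.1 y₁.2 y₂.2 h
  let E := Ideal.quotientInfRingEquivPiQuotient
    (fun y : {y : T →+* K // y.comp (algebraMap S T) = ρ} => RingHom.ker y.1) hcop
  have hE : ∀ t : T, ∀ y, E (Ideal.Quotient.mk J t) y = Ideal.Quotient.mk (RingHom.ker y.1) t :=
    fun t y => rfl
  let s₀ : A' →+* T ⧸ J :=
    (E.symm : _ →+* T ⧸ J).comp (RingHom.pi fun y => (σ' y).toRingHom)
  let s : A' →ₐ[A] T ⧸ J :=
    { s₀ with
      commutes' := fun a => by
        change E.symm (fun y => σ' y (algebraMap A A' a)) = _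
        rw [RingEquiv.symm_apply_eq]
        funext y
        rw [AlgHom.commutes]
        exact (hE _ y).symm }
  have hs : ∀ a y, E (s a) y = σ' y a := by
    intro a y
    change E (E.symm (fun y => σ' y a)) y = _
    rw [RingEquiv.apply_symm_apply]
  let Φ : T ⊗[A] A' →ₐ[T] T ⧸ J := Algebra.TensorProduct.lift (Algebra.ofId T (T ⧸ J)) s
    (fun _ _ => Commute.all _ _)
  obtain ⟨τ', hτ'⟩ := h3 Φ
  let τ : A' →ₐ[A] T := (τ'.restrictScalars A).comp Algebra.TensorProduct.includeRight
  refine ⟨τ, fun y => ?_⟩
  ext a
  have h4 : Ideal.Quotient.mk J (τ a) = s a := by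
    have := congr($hτ' (1 ⊗ₜ a))
    simpa [τ, Φ] using this
  have h5 : Ideal.Quotient.mk (RingHom.ker y.1) (τ a) = σ' y a := by
    rw [← hs, ← h4]
    exact (hE _ y).symm
  have h6 := congr($(hσ' y) a)
  simp only [RingHom.comp_apply, RingHom.coe_coe] at h6
  rw [← h5] at h6
  exact h6

end Existence

end Groth.Agent.Grpsch.StrictSection
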