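import Groth.Agent.Grpsch.EtaleQuotA
import Groth.Agent.Grpsch.StrictSection
import Groth.Agent.Grpsch.HullPoints
import Mathlib.FieldTheory.IntermediateField.Adjoin.Basic

/-!
# Quotients of étale morphisms of groupoids, algebraic part B

Construction of an equivariant section at an étale level through a given geometric point.
-/

set_option autoImplicit false
set_option linter.all false
universe u

open TensorProduct

namespace Groth.Agent.Grpsch.EtaleQuotB

open EtaleQuotA

section Main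

variable {C C' A B A' B' K : Type u} [CommRing C] [CommRing C'] [CommRing A] [CommRing B]
  [CommRing A'] [CommRing B'] [Field K] [IsAlgClosed K] [Algebra C C'] [Algebra C A] [Algebra C B]
  [Algebra C A'] [Algebra C B'] [Algebra C' A'] [Algebra C' B'] [IsScalarTower C C' A']
  [IsScalarTower C C' B']
  (s t : A →ₐ[C] B) (s' t' : A' →ₐ[C'] B') (f : A →ₐ[C] A') (F : B →ₐ[C] B')

/-- Lifting points along `A → A'` inside an orbit. -/
theorem exists_point
    (hs : ∀ a, s' (f a) = F (s a))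
    (orb : ∀ x₀ x₁ : A →+* K, (∀ c : C, x₀ (algebraMap C A c) = x₁ (algebraMap C A c)) →
      ∃ r : B →+* K, (∀ a, r (t a) = x₀ a) ∧ (∀ a, r (s a) = x₁ a))
    (push_t : ∀ (a : A' →+* K) (b : B →+* K), (∀ x, a (f x) = b (t x)) →
      ∃ g : B' →+* K, (∀ x, g (t' x) = a x) ∧ (∀ x, g (F x) = b x))
    (x₀' : A' →+* K) (x : A →+* K)
    (hx : ∀ c : C, x (algebraMap C A c) = x₀' (algebraMap C A' c)) :
    ∃ x' : A' →+* K, (∀ a, x' (f a) = x a) ∧
      ∀ c : C', x' (algebraMap C' A' c) = x₀' (algebraMap C' A' c) := by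
  obtain ⟨r, hr1, hr2⟩ := orb (x₀'.comp f.toRingHom) x (fun c => by
    rw [hx]
    change x₀' (f _) = _
    rw [f.commutes])
  obtain ⟨g, hg1, hg2⟩ := push_t x₀' r (fun a => (hr1 a).symm)
  refine ⟨g.comp s'.toRingHom, fun a => ?_, fun c => ?_⟩
  · change g (s' (f a)) = _
    rw [hs, hg2, hr2]
  · change g (s' _) = _
    rw [s'.commutes, ← t'.commutes, hg1]

/-- Uniqueness of points over a given point of `A` in an orbit, when stabilizers act trivially. -/
theorem point_unique
    (hs : ∀ a, s' (f a) = F (s a)) (ht : ∀ a, t' (f a) = F (t a))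
    (orb' : ∀ x₀ x₁ : A' →+* K, (∀ c : C', x₀ (algebraMap C' A' c) = x₁ (algebraMap C' A' c)) →
      ∃ r : B' →+* K, (∀ a, r (t' a) = x₀ a) ∧ (∀ a, r (s' a) = x₁ a))
    (stab : ∀ r : B' →+* K, (∀ a, r (F (s a)) = r (F (t a))) → ∀ a, r (s' a) = r (t' a))
    (x₁ x₂ : A' →+* K) (h1 : ∀ c : C', x₁ (algebraMap C' A' c) = x₂ (algebraMap C' A' c))
    (h2 : ∀ a, x₁ (f a) = x₂ (f a)) : x₁ = x₂ := by
  obtain ⟨r, hr1, hr2⟩ := orb' x₁ x₂ h1
  ext a
  rw [← hr1, ← hr2]
  refine (stab r (fun a => ?_) a).symm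
  rw [← hs, ← ht, hr1, hr2, h2]

theorem finite_points (hfin : t.toRingHom.Finite)
    (orb : ∀ x₀ x₁ : A →+* K, (∀ c : C, x₀ (algebraMap C A c) = x₁ (algebraMap C A c)) →
      ∃ r : B →+* K, (∀ a, r (t a) = x₀ a) ∧ (∀ a, r (s a) = x₁ a))
    (x₀ : A →+* K) :
    Finite {x : A →+* K // ∀ c : C, x (algebraMap C A c) = x₀ (algebraMap C A c)} := by
  let : Algebra A B := t.toRingHom.toAlgebra
  let : Algebra A K := x₀.toAlgebra
  have : Module.Finite A B := hfin
  have hfinite : Finite (B →ₐ[A] K) := inferInstance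
  let Φ : (B →ₐ[A] K) → {x : A →+* K // ∀ c : C, x (algebraMap C A c) = x₀ (algebraMap C A c)} :=
    fun r => ⟨r.toRingHom.comp s.toRingHom, fun c => by
      change r (s _) = _
      rw [s.commutes, ← t.commutes]
      exact r.commutes _⟩
  refine Finite.of_surjective Φ ?_
  rintro ⟨x, hx⟩
  obtain ⟨r, hr1, hr2⟩ := orb x₀ x (fun c => (hx c).symm)
  refine ⟨{ r with commutes' := fun a => hr1 a }, ?_⟩
  apply Subtype.ext
  ext a
  exact hr2 a

/-- `A ⊗ S` is integral over `S` when `A` is integral over `C`. -/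
theorem isIntegral_right (A S : Type u) [CommRing A] [CommRing S] [Algebra C A] [Algebra C S]
    [Algebra.IsIntegral C A] :
    letI := Algebra.TensorProduct.rightAlgebra (R := C) (A := A) (B := S)
    Algebra.IsIntegral S (A ⊗[C] S) := by
  letI := Algebra.TensorProduct.rightAlgebra (R := C) (A := A) (B := S)
  have h1 : Algebra.IsIntegral S (S ⊗[C] A) := inferInstance
  let e : S ⊗[C] A ≃ₐ[S] A ⊗[C] S :=
    { (Algebra.TensorProduct.comm C S A : S ⊗[C] A ≃+* A ⊗[C] S) with
      commutes' := fun x => by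
        change Algebra.TensorProduct.comm C S A (x ⊗ₜ 1) = 1 ⊗ₜ x
        simp }
  exact ⟨fun z => by
    obtain ⟨w, rfl⟩ := e.surjective z
    exact (h1.isIntegral w).map e.toAlgHom⟩

/-- Existence of an étale algebra `E` and an étale map `C' → E` through a given geometric point. -/
theorem exists_etale_map_through [Algebra C K] [Algebra.IsIntegral C A]
    (hCinj : Function.Injective (algebraMap C A))
    (hC : ∀ a, s a = t a → a ∈ Set.range (algebraMap C A))
    (hC'inj : Function.Injective (algebraMap C' A'))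
    (hC' : ∀ a, s' a = t' a → a ∈ Set.range (algebraMap C' A'))
    (hs : ∀ a, s' (f a) = F (s a)) (ht : ∀ a, t' (f a) = F (t a))
    (hgs : Subring.closure (Set.range s' ∪ Set.range F) = ⊤)
    (hgt : Subring.closure (Set.range t' ∪ Set.range F) = ⊤)
    (hf : f.toRingHom.Etale) (hF : F.toRingHom.Etale)
    (hsfin : s.toRingHom.Finite) (htfin : t.toRingHom.Finite)
    (orb : ∀ x₀ x₁ : A →+* K, (∀ c : C, x₀ (algebraMap C A c) = x₁ (algebraMap C A c)) →
      ∃ r : B →+* K, (∀ a, r (t a) = x₀ a) ∧ (∀ a, r (s a) = x₁ a))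
    (orb' : ∀ x₀ x₁ : A' →+* K, (∀ c : C', x₀ (algebraMap C' A' c) = x₁ (algebraMap C' A' c)) →
      ∃ r : B' →+* K, (∀ a, r (t' a) = x₀ a) ∧ (∀ a, r (s' a) = x₁ a))
    (stab : ∀ r : B' →+* K, (∀ a, r (F (s a)) = r (F (t a))) → ∀ a, r (s' a) = r (t' a))
    (push_s : ∀ (X : Type u) [CommRing X] (a : A' →+* X) (b : B →+* X),
      (∀ x, a (f x) = b (s x)) → ∃ g : B' →+* X, (∀ x, g (s' x) = a x) ∧ (∀ x, g (F x) = b x))
    (push_t : ∀ (X : Type u) [CommRing X] (a : A' →+* X) (b : B →+* X),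
      (∀ x, a (f x) = b (t x)) → ∃ g : B' →+* X, (∀ x, g (t' x) = a x) ∧ (∀ x, g (F x) = b x))
    (x₀' : A' →+* K) (hx₀' : ∀ c : C, algebraMap C K c = x₀' (algebraMap C A' c)) :
    ∃ (E : Type u) (_ : CommRing E) (_ : Algebra C E) (_ : Algebra.Etale C E)
      (ψ : C' →ₐ[C] E) (ω : E →+* K), ψ.toRingHom.Etale ∧
      ∀ c : C', ω (ψ c) = x₀' (algebraMap C' A' c) := by
  obtain ⟨S, _, _, π, hh⟩ := Groth.Agent.Hensel.Hull.exists_isHull C K
  have hSloc : IsLocalRing S := hh.isLocalRing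
  have hShens : HenselianLocalRing S := hh.henselianLocalRing
  have hSsep : IsSepClosed (IsLocalRing.ResidueField S) := HullPoints.isSepClosed_residueField hh
  have hπloc : IsLocalHom π.toRingHom := ⟨fun a ha => hh.isUnit_of_ne_zero a ha.ne_zero⟩
  have hind : CalgC.IndEtale.IsIndEtale C S := hh.lazard
  let x₀ : A →+* K := x₀'.comp f.toRingHom
  have hx₀ : ∀ c : C, x₀ (algebraMap C A c) = algebraMap C K c := fun c => by
    rw [hx₀']
    change x₀' (f _) = _
    rw [f.commutes]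
  -- the points of `A ⊗ S`
  letI : Algebra S (A ⊗[C] S) := Algebra.TensorProduct.rightAlgebra
  have hint : Algebra.IsIntegral S (A ⊗[C] S) := isIntegral_right A S
  let P := {y : A ⊗[C] S →+* K // y.comp (algebraMap S (A ⊗[C] S)) = π.toRingHom}
  have hPx : ∀ (y : P) (c : C), y.1 (algebraMap C A c ⊗ₜ 1) = x₀ (algebraMap C A c) := by
    intro y c
    have h1 : (algebraMap C A c) ⊗ₜ[C] (1 : S) = (1 : A) ⊗ₜ[C] (algebraMap C S c) := by
      rw [Algebra.algebraMap_eq_smul_one, Algebra.algebraMap_eq_smul_one, TensorProduct.smul_tmul]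
    rw [h1, hx₀]
    have h2 := congr($(y.2) (algebraMap C S c))
    refine h2.trans ?_
    exact π.commutes c
  have hfinX := finite_points s t htfin orb x₀
  have hPfin : Finite P := by
    let Ξ : P → {x : A →+* K // ∀ c : C, x (algebraMap C A c) = x₀ (algebraMap C A c)} :=
      fun y => ⟨y.1.comp (algebraMap A (A ⊗[C] S)), fun c => hPx y c⟩
    refine Finite.of_injective Ξ fun y₁ y₂ h => Subtype.ext ?_
    apply Algebra.TensorProduct.ringHom_ext
    · ext a
      exact congr($(congrArg Subtype.val h) a)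
    · exact y₁.2.trans y₂.2.symm
  -- the prescribed values
  have hσex : ∀ y : P, ∃ x' : A' →+* K, (∀ a, x' (f a) = y.1 (a ⊗ₜ 1)) ∧
      ∀ c : C', x' (algebraMap C' A' c) = x₀' (algebraMap C' A' c) := by
    intro y
    refine exists_point s t s' t' f F hs orb (push_t K) x₀' (y.1.comp (algebraMap A (A ⊗[C] S)))
      (fun c => ?_)
    refine (hPx y c).trans ?_
    rw [hx₀, hx₀']
  choose σ hσ1 hσ2 using hσex
  letI : Algebra A A' := f.toRingHom.toAlgebra
  have : IsScalarTower C A A' := IsScalarTower.of_algebraMap_eq fun c => (f.commutes c).symm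
  have : Algebra.Etale A A' := hf
  obtain ⟨τS, hτS⟩ := StrictSection.exists_algHom_of_points (A := A) (A' := A') π.toRingHom σ
    (fun y => by ext a; exact hσ1 y a)
  obtain ⟨E₁, _, _, _, χ₁, τ₁, hτ₁⟩ := HullPoints.exists_algHom_stage hind τS
  have hτ₁f : ∀ a, τ₁ (f a) = a ⊗ₜ 1 := fun a => τ₁.commutes a
  -- the two maps on arrows
  obtain ⟨gs, hgs1, hgs2⟩ := push_s (B ⊗[C] E₁)
    ((bc E₁ s).toRingHom.comp τ₁.toRingHom) (algebraMap B (B ⊗[C] E₁)) (fun x => by
      change bc E₁ s (τ₁ (f x)) = s x ⊗ₜ 1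
      rw [hτ₁f]
      simp)
  obtain ⟨gt, hgt1, hgt2⟩ := push_t (B ⊗[C] E₁)
    ((bc E₁ t).toRingHom.comp τ₁.toRingHom) (algebraMap B (B ⊗[C] E₁)) (fun x => by
      change bc E₁ t (τ₁ (f x)) = t x ⊗ₜ 1
      rw [hτ₁f]
      simp)
  have hgs1' : ∀ x, gs (s' x) = bc E₁ s (τ₁ x) := hgs1
  have hgt1' : ∀ x, gt (t' x) = bc E₁ t (τ₁ x) := hgt1
  letI : Algebra B B' := F.toRingHom.toAlgebra
  have : IsScalarTower C B B' := IsScalarTower.of_algebraMap_eq fun c => (F.commutes c).symm
  have : Algebra.Etale B B' := hF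
  let θs : B' →ₐ[B] B ⊗[C] E₁ := { gs with commutes' := hgs2 }
  let θt : B' →ₐ[B] B ⊗[C] E₁ := { gt with commutes' := hgt2 }
  have hθs1 : ∀ x, θs (s' x) = bc E₁ s (τ₁ x) := hgs1
  have hθt1 : ∀ x, θt (t' x) = bc E₁ t (τ₁ x) := hgt1
  have hθsF : ∀ b, θs (F b) = b ⊗ₜ 1 := hgs2
  have hθtF : ∀ b, θt (F b) = b ⊗ₜ 1 := hgt2
  have hintB : Algebra.IsIntegral C B := by
    letI : Algebra A B := s.toRingHom.toAlgebra
    have : IsScalarTower C A B := IsScalarTower.of_algebraMap_eq fun c => (s.commutes c).symm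
    have : Module.Finite A B := hsfin
    exact Algebra.IsIntegral.trans (R := C) A
  letI : Algebra S (B ⊗[C] S) := Algebra.TensorProduct.rightAlgebra
  have hintBS : Algebra.IsIntegral S (B ⊗[C] S) := isIntegral_right B S
  have hcomm : ∀ (E₂ : Type u) [CommRing E₂] [Algebra C E₂] (χ : E₁ →ₐ[C] E₂) (g : A →ₐ[C] B)
      (z : A ⊗[C] E₁),
      Algebra.TensorProduct.map (AlgHom.id B B) χ (bc E₁ g z) =
        bc E₂ g (Algebra.TensorProduct.map (AlgHom.id A A) χ z) := by
    intro E₂ _ _ χ g z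
    induction z with
    | zero => simp
    | tmul a e => simp
    | add x y hx hy => simp only [map_add, hx, hy]
  have hS : (Algebra.TensorProduct.map (AlgHom.id B B) χ₁).comp θs =
      (Algebra.TensorProduct.map (AlgHom.id B B) χ₁).comp θt := by
    refine StrictSection.algHom_ext_of_points (S := S) (K := K) π.toRingHom _ _ fun y hy => ?_
    have hP : ∀ g : A →ₐ[C] B,
        (y.comp (bc S g).toRingHom).comp (algebraMap S (A ⊗[C] S)) = π.toRingHom := by
      intro g
      ext z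
      have h1 : bc S g ((1 : A) ⊗ₜ[C] z) = 1 ⊗ₜ z := by simp
      change y (bc S g (1 ⊗ₜ z)) = _
      rw [h1]
      exact congr($hy z)
    let ys : P := ⟨y.comp (bc S s).toRingHom, hP s⟩
    let yt : P := ⟨y.comp (bc S t).toRingHom, hP t⟩
    have hr1 : ∀ x, y (Algebra.TensorProduct.map (AlgHom.id B B) χ₁ (θs (s' x))) = σ ys x := by
      intro x
      rw [hθs1, hcomm]
      have h1 := congr($hτ₁ x)
      have h2 := congr($(hτS ys) x)
      rw [← h2]
      change _ = y (bc S s (τS x))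
      rw [← h1]
      rfl
    have hr2 : ∀ x, y (Algebra.TensorProduct.map (AlgHom.id B B) χ₁ (θt (t' x))) = σ yt x := by
      intro x
      rw [hθt1, hcomm]
      have h1 := congr($hτ₁ x)
      have h2 := congr($(hτS yt) x)
      rw [← h2]
      change _ = y (bc S t (τS x))
      rw [← h1]
      rfl
    let r₁ : B' →+* K :=
      y.comp (((Algebra.TensorProduct.map (AlgHom.id B B) χ₁).comp θs : B' →ₐ[B] B ⊗[C] S) :
        B' →+* B ⊗[C] S)
    let r₂ : B' →+* K :=
      y.comp (((Algebra.TensorProduct.map (AlgHom.id B B) χ₁).comp θt : B' →ₐ[B] B ⊗[C] S) :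
        B' →+* B ⊗[C] S)
    have hF12 : ∀ b, r₁ (F b) = r₂ (F b) := by
      intro b
      change y (Algebra.TensorProduct.map (AlgHom.id B B) χ₁ (θs (F b))) =
        y (Algebra.TensorProduct.map (AlgHom.id B B) χ₁ (θt (F b)))
      rw [hθsF, hθtF]
    have hF1 : ∀ b, r₁ (F b) = y (b ⊗ₜ 1) := by
      intro b
      change y (Algebra.TensorProduct.map (AlgHom.id B B) χ₁ (θs (F b))) = _
      rw [hθsF]
      simp
    have hkey : r₁.comp t'.toRingHom = σ yt := by
      refine point_unique s t s' t' f F hs ht orb' stab _ _ (fun c => ?_) (fun a => ?_)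
      · change r₁ (t' _) = _
        rw [t'.commutes, ← s'.commutes, hσ2 yt c]
        exact (hr1 _).trans (hσ2 ys c)
      · change r₁ (t' (f a)) = _
        rw [ht, hF1, hσ1 yt a]
        change _ = y (bc S t (a ⊗ₜ 1))
        simp
    refine RingHom.eq_of_eqOn_set_dense hgt ?_
    rintro _ (⟨x, rfl⟩ | ⟨b, rfl⟩)
    · change r₁ (t' x) = r₂ (t' x)
      exact (congr($hkey x)).trans (hr2 x).symm
    · exact hF12 b
  obtain ⟨E, _, _, _, ρ, χ, hρχ, hE⟩ := HullPoints.exists_stage_algHom_eq hind χ₁ θs θt hS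
  let τ : A' →ₐ[C] A ⊗[C] E :=
    ((Algebra.TensorProduct.map (AlgHom.id A A) ρ).comp τ₁).restrictScalars C
  let θ : B' →ₐ[C] B ⊗[C] E :=
    ((Algebra.TensorProduct.map (AlgHom.id B B) ρ).comp θs).restrictScalars C
  obtain ⟨ψ, hψ, hψ'⟩ := exists_etale_section s t s' t' f F τ θ hCinj hC hC'inj hC' hs ht hgs hgt
    hf
    (fun a => by
      change Algebra.TensorProduct.map (AlgHom.id A A) ρ (τ₁ (f a)) = _
      rw [hτ₁f]
      simp)
    (fun b => by
      change Algebra.TensorProduct.map (AlgHom.id B B) ρ (θs (F b)) = _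
      rw [hθsF]
      simp)
    (fun a => by
      change Algebra.TensorProduct.map (AlgHom.id B B) ρ (θs (s' a)) = _
      rw [hθs1, hcomm]
      rfl)
    (fun a => by
      change Algebra.TensorProduct.map (AlgHom.id B B) ρ (θs (t' a)) = _
      have h1 := congr($hE (t' a))
      refine h1.trans ?_
      change Algebra.TensorProduct.map (AlgHom.id B B) ρ (θt (t' a)) = _
      rw [hθt1, hcomm]
      rfl)
  refine ⟨E, inferInstance, inferInstance, inferInstance, ψ,
    (π : S →+* K).comp (χ : E →+* S), hψ, fun c => ?_⟩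
  -- the base point
  letI : Algebra A K := x₀.toAlgebra
  have : IsScalarTower C A K := IsScalarTower.of_algebraMap_eq fun c => (hx₀ c).symm
  let L₀ : A ⊗[C] S →ₐ[A] K := Algebra.TensorProduct.lift (Algebra.ofId A K) π
    (fun _ _ => Commute.all _ _)
  have hL₀ : ∀ z : S, L₀ ((1 : A) ⊗ₜ[C] z) = π z := fun z => by
    simp [L₀]
  let y₀ : P := ⟨L₀.toRingHom, RingHom.ext fun z => hL₀ z⟩
  have hy₀ : ∀ z : S, y₀.1 ((1 : A) ⊗ₜ[C] z) = π z := fun z => congr($(y₀.2) z)
  have h1 : Algebra.TensorProduct.map (AlgHom.id A A) χ (τ (algebraMap C' A' c)) =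
      τS (algebraMap C' A' c) := by
    rw [← hτ₁, ← hρχ]
    change Algebra.TensorProduct.map (AlgHom.id A A) χ
      (Algebra.TensorProduct.map (AlgHom.id A A) ρ (τ₁ (algebraMap C' A' c))) = _
    rw [← AlgHom.comp_apply, ← Algebra.TensorProduct.map_comp]
    simp
  have h2 : y₀.1 (τS (algebraMap C' A' c)) = x₀' (algebraMap C' A' c) :=
    (congr($(hτS y₀) (algebraMap C' A' c))).trans (hσ2 y₀ c)
  rw [← h2, ← h1, hψ']
  have h3 : Algebra.TensorProduct.map (AlgHom.id A A) χ ((1 : A) ⊗ₜ[C] ψ c) =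
      (1 : A) ⊗ₜ[C] χ (ψ c) := by simp
  rw [h3, hy₀]
  rfl

end Main

end Groth.Agent.Grpsch.EtaleQuotB
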