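import Groth.Agent.S0112
import Mathlib.RingTheory.Smooth.Fiber
import Mathlib.RingTheory.Etale.Kaehler
import Mathlib.RingTheory.Smooth.Flat
import Mathlib.RingTheory.Flat.FaithfullyFlat.Algebra
import Mathlib.RingTheory.RingHom.Etale
import Mathlib.RingTheory.Spectrum.Prime.Chevalley

/-!
# Étaleness descends along étale covers of the source (ring form)
-/

set_option autoImplicit false
universe u

open TensorProduct

namespace Groth.Agent.Grpsch.EtaleSource

/-- If `C → C' → E` with `C → E` flat and `C' → E` faithfully flat, then `C → C'` is flat. -/
theorem flat_of_faithfullyFlat (C C' E : Type u) [CommRing C] [CommRing C'] [CommRing E]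
    [Algebra C C'] [Algebra C' E] [Algebra C E] [IsScalarTower C C' E]
    [Module.Flat C E] [Module.FaithfullyFlat C' E] : Module.Flat C C' := by
  rw [Module.Flat.iff_lTensor_preserves_injective_linearMap]
  intro N N' _ _ _ _ f hf
  have key : Function.Injective ((TensorProduct.AlgebraTensorModule.lTensor C' C' f)) := by
    rw [← Module.FaithfullyFlat.lTensor_injective_iff_injective C' E]
    have h1 := Module.Flat.lTensor_preserves_injective_linearMap (M := E) f hf
    have h2 : (TensorProduct.AlgebraTensorModule.cancelBaseChange C C' C' E N').toLinearMap ∘ₗ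
        (LinearMap.lTensor E (TensorProduct.AlgebraTensorModule.lTensor C' C' f)) =
        (TensorProduct.AlgebraTensorModule.lTensor C' E f) ∘ₗ
          (TensorProduct.AlgebraTensorModule.cancelBaseChange C C' C' E N).toLinearMap := by
      ext; simp
    have h3 : Function.Injective ((TensorProduct.AlgebraTensorModule.lTensor C' E f) ∘ₗ
          (TensorProduct.AlgebraTensorModule.cancelBaseChange C C' C' E N).toLinearMap) := by
      intro x y hxy
      exact (TensorProduct.AlgebraTensorModule.cancelBaseChange C C' C' E N).injective (h1 hxy)
    rw [← h2] at h3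
    intro x y hxy
    exact h3 (by simp [hxy])
  exact key

/-- Étaleness descends along an étale faithfully flat extension of the source. -/
theorem etale_of_faithfullyFlat (C C' E : Type u) [CommRing C] [CommRing C'] [CommRing E]
    [Algebra C C'] [Algebra C' E] [Algebra C E] [IsScalarTower C C' E]
    [Algebra.Etale C E] [Algebra.Etale C' E] [Module.FaithfullyFlat C' E] :
    Algebra.Etale C C' := by
  have h1 : Algebra.FinitePresentation C C' :=
    Groth.Agent.S0112.result (R := C) (A := C') (B := E)
  have h2 : Module.Flat C C' := flat_of_faithfullyFlat C C' E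
  have h3 : Algebra.FormallyUnramified C C' := by
    constructor
    have e := KaehlerDifferential.tensorKaehlerEquivOfFormallyEtale C C' E
    have h4 : Subsingleton (E ⊗[C'] Ω[C'⁄C]) := e.toEquiv.subsingleton
    exact Module.FaithfullyFlat.lTensor_reflects_triviality C' E _
  exact Algebra.Etale.of_formallyUnramified_of_flat

/-- Ring-hom form of `etale_of_faithfullyFlat`, without surjectivity: if `C' → E` and `C → E` are
étale and the basic open `D(g)` is contained in the image of `Spec E → Spec C'`, then `C → C'_g`
is étale. -/
theorem etale_away_of_basicOpen_subset {C C' E : Type u} [CommRing C] [CommRing C'] [CommRing E]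
    (f : C →+* C') (φ : C' →+* E) (hφ : φ.Etale) (hfφ : (φ.comp f).Etale) (g : C')
    (hg : (PrimeSpectrum.basicOpen g : Set (PrimeSpectrum C')) ⊆
      Set.range (PrimeSpectrum.comap φ)) :
    ((algebraMap C' (Localization.Away g)).comp f).Etale := by
  let ψ : Localization.Away g →+* Localization.Away (φ g) :=
    IsLocalization.Away.map (Localization.Away g) (Localization.Away (φ g)) φ g
  have hψ : ψ.comp (algebraMap C' (Localization.Away g)) =
      (algebraMap E (Localization.Away (φ g))).comp φ := by
    ext x
    simp [ψ, IsLocalization.Away.map]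
  have h1 : (algebraMap E (Localization.Away (φ g))).Etale := by
    rw [RingHom.etale_algebraMap]
    exact Algebra.Etale.of_isLocalizationAway (φ g)
  have hψ' : ψ.Etale := by
    have := RingHom.Etale.propertyIsLocal.localizationAwayPreserves φ g
      (Localization.Away g) (Localization.Away (φ g)) hφ
    exact this
  have hfψ : (ψ.comp ((algebraMap C' (Localization.Away g)).comp f)).Etale := by
    rw [← RingHom.comp_assoc, hψ, RingHom.comp_assoc]
    exact RingHom.Etale.stableUnderComposition _ _ hfφ h1
  let : Algebra C (Localization.Away g) := ((algebraMap C' (Localization.Away g)).comp f).toAlgebra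
  let : Algebra (Localization.Away g) (Localization.Away (φ g)) := ψ.toAlgebra
  let : Algebra C (Localization.Away (φ g)) :=
    (ψ.comp ((algebraMap C' (Localization.Away g)).comp f)).toAlgebra
  have : IsScalarTower C (Localization.Away g) (Localization.Away (φ g)) :=
    IsScalarTower.of_algebraMap_eq' rfl
  have : Algebra.Etale C (Localization.Away (φ g)) := hfψ
  have : Algebra.Etale (Localization.Away g) (Localization.Away (φ g)) := hψ'
  have : Module.FaithfullyFlat (Localization.Away g) (Localization.Away (φ g)) := by
    apply Module.FaithfullyFlat.of_comap_surjective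
    intro p
    have hp : PrimeSpectrum.comap (algebraMap C' (Localization.Away g)) p ∈
        (PrimeSpectrum.basicOpen g : Set (PrimeSpectrum C')) := by
      rw [← PrimeSpectrum.localization_away_comap_range (Localization.Away g) g]
      exact ⟨p, rfl⟩
    obtain ⟨q, hq⟩ := hg hp
    have hq' : q ∈ (PrimeSpectrum.basicOpen (φ g) : Set (PrimeSpectrum E)) := by
      rw [← hq] at hp
      simpa using hp
    rw [← PrimeSpectrum.localization_away_comap_range (Localization.Away (φ g)) (φ g)] at hq'
    obtain ⟨q', hq'⟩ := hq'
    refine ⟨q', ?_⟩
    apply PrimeSpectrum.localization_comap_injective (Localization.Away g) (Submonoid.powers g)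
    rw [← hq, ← hq', ← PrimeSpectrum.comap_comp_apply, ← PrimeSpectrum.comap_comp_apply]
    congr 1
  exact etale_of_faithfullyFlat C (Localization.Away g) (Localization.Away (φ g))

/-- Étaleness of `f : C → C'` can be checked on an étale covering of the source: it is enough that
every prime of `C'` lies in the image of `Spec E` for some étale `φ : C' → E` with `φ ∘ f` étale. -/
theorem etale_of_forall_exists {C C' : Type u} [CommRing C] [CommRing C'] (f : C →+* C')
    (H : ∀ p : PrimeSpectrum C', ∃ (E : Type u) (_ : CommRing E) (φ : C' →+* E),
      φ.Etale ∧ (φ.comp f).Etale ∧ p ∈ Set.range (PrimeSpectrum.comap φ)) : f.Etale := by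
  let s : Set C' := {g | ((algebraMap C' (Localization.Away g)).comp f).Etale}
  apply RingHom.Etale.ofLocalizationSpanTarget f s
  · by_contra hs
    obtain ⟨m, hm, hsm⟩ := Ideal.exists_le_maximal _ hs
    obtain ⟨E, _, φ, hφ, hfφ, hp⟩ := H ⟨m, hm.isPrime⟩
    have hopen : IsOpen (Set.range (PrimeSpectrum.comap φ)) := by
      let := φ.toAlgebra
      have : Algebra.Etale C' E := hφ
      have : Module.Flat C' E := inferInstance
      exact (PrimeSpectrum.isOpenMap_comap_of_hasGoingDown_of_finitePresentation
        (R := C') (S := E)).isOpen_range
    obtain ⟨_, ⟨_, ⟨g, rfl⟩, rfl⟩, hpg, hg⟩ :=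
      PrimeSpectrum.isBasis_basic_opens.exists_subset_of_mem_open hp hopen
    have hgs : g ∈ s := etale_away_of_basicOpen_subset f φ hφ hfφ g hg
    exact hpg (hsm (Ideal.subset_span hgs))
  · exact fun r => r.2

end Groth.Agent.Grpsch.EtaleSource
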