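import Groth.Agent.Grpsch.EtaleQuotB
import Groth.Agent.Grpsch.EtaleSource
import Mathlib.RingTheory.LocalRing.ResidueField.Ideal
import Mathlib.FieldTheory.IsAlgClosed.AlgebraicClosure

/-!
# Quotients of étale morphisms of groupoids, algebraic part C

The ring homomorphism on invariants induced by an étale cartesian morphism of (ring level) groupoids,
with trivial action of stabilizers, is étale.
-/

set_option autoImplicit false
set_option linter.all false
universe u

open TensorProduct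

namespace Groth.Agent.Grpsch.EtaleQuotC

open EtaleQuotA EtaleQuotB

variable {A B A' B' : Type u} [CommRing A] [CommRing B] [CommRing A'] [CommRing B']

theorem etale_of_eqLocus (s t : A →+* B) (s' t' : A' →+* B') (f : A →+* A') (F : B →+* B')
    (hs : ∀ a, s' (f a) = F (s a)) (ht : ∀ a, t' (f a) = F (t a))
    (f₀ : RingHom.eqLocus s t →+* RingHom.eqLocus s' t') (hf₀ : ∀ c, (f₀ c : A') = f c)
    [Algebra.IsIntegral (RingHom.eqLocus s t) A]
    (hgs : Subring.closure (Set.range s' ∪ Set.range F) = ⊤)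
    (hgt : Subring.closure (Set.range t' ∪ Set.range F) = ⊤)
    (hf : f.Etale) (hF : F.Etale) (hsfin : s.Finite) (htfin : t.Finite)
    (orb : ∀ (K : Type u) [Field K] [IsAlgClosed K] (x₀ x₁ : A →+* K),
      (∀ a, s a = t a → x₀ a = x₁ a) →
      ∃ r : B →+* K, (∀ a, r (t a) = x₀ a) ∧ (∀ a, r (s a) = x₁ a))
    (orb' : ∀ (K : Type u) [Field K] [IsAlgClosed K] (x₀ x₁ : A' →+* K),
      (∀ a, s' a = t' a → x₀ a = x₁ a) →
      ∃ r : B' →+* K, (∀ a, r (t' a) = x₀ a) ∧ (∀ a, r (s' a) = x₁ a))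
    (lift' : ∀ (K : Type u) [Field K] [IsAlgClosed K] (κ : RingHom.eqLocus s' t' →+* K),
      ∃ x : A' →+* K, ∀ c : RingHom.eqLocus s' t', x c = κ c)
    (stab : ∀ (K : Type u) [Field K] [IsAlgClosed K] (r : B' →+* K),
      (∀ a, r (F (s a)) = r (F (t a))) → ∀ a, r (s' a) = r (t' a))
    (push_s : ∀ (X : Type u) [CommRing X] (a : A' →+* X) (b : B →+* X),
      (∀ x, a (f x) = b (s x)) → ∃ g : B' →+* X, (∀ x, g (s' x) = a x) ∧ (∀ x, g (F x) = b x))
    (push_t : ∀ (X : Type u) [CommRing X] (a : A' →+* X) (b : B →+* X),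
      (∀ x, a (f x) = b (t x)) → ∃ g : B' →+* X, (∀ x, g (t' x) = a x) ∧ (∀ x, g (F x) = b x)) :
    f₀.Etale := by
  refine EtaleSource.etale_of_forall_exists f₀ fun p => ?_
  let C := RingHom.eqLocus s t
  let C' := RingHom.eqLocus s' t'
  let K := AlgebraicClosure p.asIdeal.ResidueField
  let κ : C' →+* K :=
    (algebraMap p.asIdeal.ResidueField K).comp (algebraMap C' p.asIdeal.ResidueField)
  have hκ : RingHom.ker κ = p.asIdeal := by
    ext x
    rw [RingHom.mem_ker]
    change algebraMap p.asIdeal.ResidueField K (algebraMap C' p.asIdeal.ResidueField x) = 0 ↔ _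
    rw [map_eq_zero, Ideal.algebraMap_residueField_eq_zero]
  obtain ⟨x₀', hx₀'⟩ := lift' K κ
  letI : Algebra C C' := f₀.toAlgebra
  letI : Algebra C B := (s.comp C.subtype).toAlgebra
  letI : Algebra C A' := (f.comp C.subtype).toAlgebra
  letI : Algebra C B' := (F.comp (s.comp C.subtype)).toAlgebra
  letI : Algebra C' B' := (s'.comp C'.subtype).toAlgebra
  letI : Algebra C K := (κ.comp f₀).toAlgebra
  haveI : IsScalarTower C C' A' := IsScalarTower.of_algebraMap_eq fun c => (hf₀ c).symm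
  haveI : IsScalarTower C C' B' := IsScalarTower.of_algebraMap_eq fun c => by
    change F (s c) = s' (f₀ c)
    rw [hf₀, hs]
  let sA : A →ₐ[C] B := { s with commutes' := fun c => rfl }
  let tA : A →ₐ[C] B := { t with commutes' := fun c => c.2.symm }
  let sA' : A' →ₐ[C'] B' := { s' with commutes' := fun c => rfl }
  let tA' : A' →ₐ[C'] B' := { t' with commutes' := fun c => c.2.symm }
  let fA : A →ₐ[C] A' := { f with commutes' := fun c => rfl }
  let FA : B →ₐ[C] B' := { F with commutes' := fun c => rfl }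
  obtain ⟨E, _, _, _, ψ, ω, hψ, hω⟩ := exists_etale_map_through (K := K) sA tA sA' tA' fA FA
    Subtype.val_injective (fun a ha => ⟨⟨a, ha⟩, rfl⟩) Subtype.val_injective
    (fun a ha => ⟨⟨a, ha⟩, rfl⟩) hs ht hgs hgt hf hF hsfin htfin
    (fun x₀ x₁ h => orb K x₀ x₁ (fun a ha => h ⟨a, ha⟩))
    (fun x₀ x₁ h => orb' K x₀ x₁ (fun a ha => h ⟨a, ha⟩))
    (fun r => stab K r) push_s push_t x₀' (fun c => by
      change κ (f₀ c) = x₀' (f c)
      rw [← hx₀', hf₀])
  refine ⟨E, inferInstance, ψ.toRingHom, hψ, ?_, ?_⟩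
  · have h1 : ψ.toRingHom.comp f₀ = algebraMap C E := by
      ext c
      exact ψ.commutes c
    rw [h1, RingHom.etale_algebraMap]
    infer_instance
  · refine ⟨⟨RingHom.ker ω, RingHom.ker_isPrime ω⟩, ?_⟩
    apply PrimeSpectrum.ext
    refine Eq.trans ?_ hκ
    ext c
    change ω (ψ c) = 0 ↔ κ c = 0
    rw [hω, ← hx₀']
    rfl

end Groth.Agent.Grpsch.EtaleQuotC
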