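import Groth.Agent.Grpsch.FlatIdealFP
import Mathlib.AlgebraicGeometry.Morphisms.FlatRank
import Mathlib.AlgebraicGeometry.ResidueField

/-!
# Fibre rank of a finite morphism (not necessarily flat)
-/

set_option autoImplicit false
set_option linter.style.haveILetI false

open CategoryTheory CategoryTheory.Limits AlgebraicGeometry TensorProduct

namespace Groth.Agent.Grpsch.FibRank

open Groth.Agent.Grpsch.FlatIdeal

universe u

/-- The rank of the fibre of `f` over `y` (for `f` finite). -/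
noncomputable def rk {X Y : Scheme.{u}} (f : X ⟶ Y) (y : Y) : ℕ :=
  (pullback.snd f (Y.fromSpecResidueField y)).finrank (IsLocalRing.closedPoint (Y.residueField y))

lemma finrank_snd_of_field {X Y : Scheme.{u}} (f : X ⟶ Y) [IsFinite f] (K : Type u) [Field K]
    (g : Spec (.of K) ⟶ Y) (x : Spec (.of K)) :
    (pullback.snd f g).finrank x = rk f (g x) := by
  obtain rfl : x = IsLocalRing.closedPoint K := Subsingleton.elim _ _
  have hg : Spec.map (Y.descResidueField (Scheme.stalkClosedPointTo g)) ≫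
      Y.fromSpecResidueField (g (IsLocalRing.closedPoint K)) = g :=
    Scheme.descResidueField_stalkClosedPointTo_fromSpecResidueField K Y g
  set h := Spec.map (Y.descResidueField (Scheme.stalkClosedPointTo g)) with hh
  set b := Y.fromSpecResidueField (g (IsLocalRing.closedPoint K)) with hb
  have h1 : (pullback.snd f (h ≫ b)).finrank (IsLocalRing.closedPoint K) =
      (pullback.snd (pullback.snd f b) h).finrank (IsLocalRing.closedPoint K) := by
    rw [← pullbackLeftPullbackSndIso_hom_snd f b h, Scheme.Hom.finrank_comp_left_of_isIso]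
  have h2 := Scheme.Hom.finrank_pullback_snd (pullback.snd f b) h (IsLocalRing.closedPoint K)
  rw [← h1] at h2
  have h3 : (pullback.snd f (h ≫ b)).finrank (IsLocalRing.closedPoint K) =
      (pullback.snd f g).finrank (IsLocalRing.closedPoint K) := by
    congr!
  rw [← h3, h2, rk]
  congr 1
  exact Subsingleton.elim _ _

lemma rk_of_isPullback {P X Y Z : Scheme.{u}} {fst : P ⟶ X} {snd : P ⟶ Y}
    {f : X ⟶ Z} {g : Y ⟶ Z} (h : IsPullback fst snd f g) [IsFinite f] (y : Y) :
    rk snd y = rk f (g y) := by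
  have hP := (IsPullback.of_hasPullback snd (Y.fromSpecResidueField y)).paste_horiz h
  have h1 : (pullback.snd snd (Y.fromSpecResidueField y)).finrank =
      (pullback.snd f (Y.fromSpecResidueField y ≫ g)).finrank := by
    rw [← hP.isoPullback_hom_snd, Scheme.Hom.finrank_comp_left_of_isIso]
  rw [rk, h1]
  refine (finrank_snd_of_field f (Y.residueField y) (Y.fromSpecResidueField y ≫ g) _).trans ?_
  rw [Scheme.Hom.comp_apply]
  congr 2
  exact Scheme.fromSpecResidueField_apply _ _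

lemma rk_snd {X Y Z : Scheme.{u}} (f : X ⟶ Z) (g : Y ⟶ Z) [IsFinite f] (y : Y) :
    rk (pullback.snd f g) y = rk f (g y) :=
  rk_of_isPullback (IsPullback.of_hasPullback f g) y

lemma rk_SpecMap_algebraMap (A C : Type u) [CommRing A] [CommRing C] [Algebra A C]
    [Module.Finite A C] (p : PrimeSpectrum A) :
    rk (Spec.map (CommRingCat.ofHom (algebraMap A C))) p = fibRank A C p := by
  let κ := p.asIdeal.ResidueField
  have hfin : IsFinite (Spec.map (CommRingCat.ofHom (algebraMap A C))) := by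
    rw [IsFinite.SpecMap_iff]
    exact RingHom.finite_algebraMap.mpr inferInstance
  let g : Spec (.of κ) ⟶ Spec (.of A) := Spec.map (CommRingCat.ofHom (algebraMap A κ))
  have hg : g (IsLocalRing.closedPoint κ) = p := by
    apply PrimeSpectrum.ext
    change Ideal.comap (algebraMap A κ) (IsLocalRing.maximalIdeal κ) = _
    rw [IsLocalRing.maximalIdeal_eq_bot, ← RingHom.ker_eq_comap_bot,
      Ideal.ker_algebraMap_residueField]
  have hpb : IsPullback (Spec.map (CommRingCat.ofHom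
        (Algebra.TensorProduct.includeRight : C →ₐ[A] κ ⊗[A] C).toRingHom))
      (Spec.map (CommRingCat.ofHom (algebraMap κ (κ ⊗[A] C))))
      (Spec.map (CommRingCat.ofHom (algebraMap A C))) g := by
    apply IsPullback.flip
    exact isPullback_SpecMap_of_isPushout _ _ _ _ (CommRingCat.isPushout_tensorProduct A κ C)
  have h1 := finrank_snd_of_field (Spec.map (CommRingCat.ofHom (algebraMap A C))) κ g
    (IsLocalRing.closedPoint κ)
  rw [hg] at h1
  rw [← h1]
  have hfin2 : IsFinite (Spec.map (CommRingCat.ofHom (algebraMap κ (κ ⊗[A] C)))) := by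
    rw [IsFinite.SpecMap_iff]
    exact RingHom.finite_algebraMap.mpr inferInstance
  have h2 : (pullback.snd (Spec.map (CommRingCat.ofHom (algebraMap A C))) g).finrank =
      (Spec.map (CommRingCat.ofHom (algebraMap κ (κ ⊗[A] C)))).finrank := by
    rw [← hpb.isoPullback_inv_snd, Scheme.Hom.finrank_comp_left_of_isIso]
  rw [h2, Scheme.Hom.finrank_SpecMap_algebraMap, Module.rankAtStalk_eq_finrank_of_free]
  rfl

lemma isPullback_fromSpec {X Y : Scheme.{u}} (f : X ⟶ Y) [IsAffineHom f] {V : Y.Opens}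
    (hV : IsAffineOpen V) :
    IsPullback (hV.preimage f).fromSpec (Spec.map (f.app V)) f hV.fromSpec := by
  apply IsPullback.flip
  apply IsOpenImmersion.isPullback
  · rw [Scheme.Hom.app_eq_appLE]
    exact (IsAffineOpen.SpecMap_appLE_fromSpec f hV (hV.preimage f) le_rfl).symm
  · rw [IsAffineOpen.opensRange_fromSpec, IsAffineOpen.opensRange_fromSpec]

section affine
variable {X Y : Scheme.{u}} (f : X ⟶ Y) [IsFinite f] {V : Y.Opens} (hV : IsAffineOpen V)

include hV in
lemma finite_app : (f.app V).hom.Finite := f.finite_app V hV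

/-- `f` base changed to the spectrum of an algebra over `Γ(Y, V)`. -/
lemma isPullback_tensor (B : Type u) [CommRing B] [Algebra Γ(Y, V) B] :
    letI := (f.app V).hom.toAlgebra
    IsPullback (Spec.map (CommRingCat.ofHom (Algebra.TensorProduct.includeRight :
          Γ(X, f ⁻¹ᵁ V) →ₐ[Γ(Y, V)] B ⊗[Γ(Y, V)] Γ(X, f ⁻¹ᵁ V)).toRingHom) ≫
        (hV.preimage f).fromSpec)
      (Spec.map (CommRingCat.ofHom (algebraMap B (B ⊗[Γ(Y, V)] Γ(X, f ⁻¹ᵁ V)))))
      f (Spec.map (CommRingCat.ofHom (algebraMap Γ(Y, V) B)) ≫ hV.fromSpec) := by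
  letI := (f.app V).hom.toAlgebra
  have h1 : IsPullback (Spec.map (CommRingCat.ofHom (Algebra.TensorProduct.includeRight :
          Γ(X, f ⁻¹ᵁ V) →ₐ[Γ(Y, V)] B ⊗[Γ(Y, V)] Γ(X, f ⁻¹ᵁ V)).toRingHom))
      (Spec.map (CommRingCat.ofHom (algebraMap B (B ⊗[Γ(Y, V)] Γ(X, f ⁻¹ᵁ V)))))
      (Spec.map (f.app V)) (Spec.map (CommRingCat.ofHom (algebraMap Γ(Y, V) B))) := by
    apply IsPullback.flip
    exact isPullback_SpecMap_of_isPushout _ _ _ _
      (CommRingCat.isPushout_tensorProduct Γ(Y, V) B Γ(X, f ⁻¹ᵁ V))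
  exact h1.paste_horiz (isPullback_fromSpec f hV)

lemma flat_snd_iff (B : Type u) [CommRing B] [Algebra Γ(Y, V) B] :
    letI := (f.app V).hom.toAlgebra
    Flat (pullback.snd f (Spec.map (CommRingCat.ofHom (algebraMap Γ(Y, V) B)) ≫ hV.fromSpec)) ↔
      Module.Flat B (B ⊗[Γ(Y, V)] Γ(X, f ⁻¹ᵁ V)) := by
  letI := (f.app V).hom.toAlgebra
  have h := isPullback_tensor f hV B
  rw [← h.isoPullback_inv_snd, MorphismProperty.cancel_left_of_respectsIso (P := @Flat),
    Flat.SpecMap_iff]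
  exact RingHom.flat_algebraMap_iff

lemma lfp_snd_iff (B : Type u) [CommRing B] [Algebra Γ(Y, V) B] :
    letI := (f.app V).hom.toAlgebra
    LocallyOfFinitePresentation
        (pullback.snd f (Spec.map (CommRingCat.ofHom (algebraMap Γ(Y, V) B)) ≫ hV.fromSpec)) ↔
      Algebra.FinitePresentation B (B ⊗[Γ(Y, V)] Γ(X, f ⁻¹ᵁ V)) := by
  letI := (f.app V).hom.toAlgebra
  have h := isPullback_tensor f hV B
  rw [← h.isoPullback_inv_snd,
    MorphismProperty.cancel_left_of_respectsIso (P := @LocallyOfFinitePresentation),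
    LocallyOfFinitePresentation.SpecMap_iff]
  exact RingHom.finitePresentation_algebraMap

lemma rk_fromSpec (p : Spec Γ(Y, V)) :
    letI := (f.app V).hom.toAlgebra
    rk f (hV.fromSpec p) = fibRank Γ(Y, V) Γ(X, f ⁻¹ᵁ V) p := by
  letI := (f.app V).hom.toAlgebra
  haveI : Module.Finite Γ(Y, V) Γ(X, f ⁻¹ᵁ V) := finite_app f hV
  rw [← rk_of_isPullback (isPullback_fromSpec f hV) p]
  exact rk_SpecMap_algebraMap Γ(Y, V) Γ(X, f ⁻¹ᵁ V) p

include hV in
lemma isLocallyConstant_fibRank (hδ : IsLocallyConstant (rk f)) :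
    letI := (f.app V).hom.toAlgebra
    IsLocallyConstant (fibRank Γ(Y, V) Γ(X, f ⁻¹ᵁ V)) := by
  letI := (f.app V).hom.toAlgebra
  have h1 : fibRank Γ(Y, V) Γ(X, f ⁻¹ᵁ V) = rk f ∘ hV.fromSpec := by
    ext p
    exact (rk_fromSpec f hV p).symm
  rw [h1]
  exact hδ.comp_continuous hV.fromSpec.continuous

end affine

lemma flatIdeal_eq_of_forall {A : Type u} [CommRing A] {M N : Type u} [AddCommGroup M]
    [Module A M] [AddCommGroup N] [Module A N]
    (h : ∀ (B : Type u) [CommRing B] [Algebra A B],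
      Module.Flat B (B ⊗[A] M) ↔ Module.Flat B (B ⊗[A] N)) : flatIdeal A M = flatIdeal A N := by
  ext a
  rw [mem_flatIdeal, mem_flatIdeal]
  exact forall_congr' fun B => forall_congr' fun _ => forall_congr' fun _ => by rw [h B]

section sheaf
variable {X Y : Scheme.{u}} (f : X ⟶ Y) [IsFinite f]

/-- The ideal of sections over the affine open `V` vanishing on every scheme over which `f`
becomes flat. -/
noncomputable def flatIdealAt (V : Y.Opens) : Ideal Γ(Y, V) :=
  letI := (f.app V).hom.toAlgebra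
  flatIdeal Γ(Y, V) Γ(X, f ⁻¹ᵁ V)

lemma flatIdealAt_map (hδ : IsLocallyConstant (rk f)) {V V' : Y.Opens} (hV : IsAffineOpen V)
    (hV' : IsAffineOpen V') (i : Opposite.op V ⟶ Opposite.op V') :
    (flatIdealAt f V).map (Y.presheaf.map i).hom = flatIdealAt f V' := by
  letI a1 : Algebra Γ(Y, V) Γ(X, f ⁻¹ᵁ V) := (f.app V).hom.toAlgebra
  letI a2 : Algebra Γ(Y, V') Γ(X, f ⁻¹ᵁ V') := (f.app V').hom.toAlgebra
  letI a3 : Algebra Γ(Y, V) Γ(Y, V') := (Y.presheaf.map i).hom.toAlgebra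
  haveI : Module.Finite Γ(Y, V) Γ(X, f ⁻¹ᵁ V) := finite_app f hV
  have h1 := flatIdeal_baseChange (A := Γ(Y, V)) (M := Γ(X, f ⁻¹ᵁ V))
    (isLocallyConstant_fibRank f hV hδ) Γ(Y, V')
  change Ideal.map (algebraMap Γ(Y, V) Γ(Y, V')) (flatIdeal Γ(Y, V) Γ(X, f ⁻¹ᵁ V)) =
    flatIdeal Γ(Y, V') Γ(X, f ⁻¹ᵁ V')
  rw [← h1]
  apply flatIdeal_eq_of_forall
  intro B _ _
  letI : Algebra Γ(Y, V) B := ((algebraMap Γ(Y, V') B).comp (algebraMap Γ(Y, V) Γ(Y, V'))).toAlgebra
  haveI : IsScalarTower Γ(Y, V) Γ(Y, V') B := .of_algebraMap_eq' rfl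
  have h2 : Module.Flat B (B ⊗[Γ(Y, V')] (Γ(Y, V') ⊗[Γ(Y, V)] Γ(X, f ⁻¹ᵁ V))) ↔
      Module.Flat B (B ⊗[Γ(Y, V)] Γ(X, f ⁻¹ᵁ V)) :=
    ⟨fun h => Module.Flat.of_linearEquiv
        (AlgebraTensorModule.cancelBaseChange Γ(Y, V) Γ(Y, V') B B Γ(X, f ⁻¹ᵁ V)).symm,
      fun h => Module.Flat.of_linearEquiv
        (AlgebraTensorModule.cancelBaseChange Γ(Y, V) Γ(Y, V') B B Γ(X, f ⁻¹ᵁ V))⟩
  rw [h2, ← flat_snd_iff f hV B, ← flat_snd_iff f hV' B]
  have h3 : Spec.map (CommRingCat.ofHom (algebraMap Γ(Y, V) B)) ≫ hV.fromSpec =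
      Spec.map (CommRingCat.ofHom (algebraMap Γ(Y, V') B)) ≫ hV'.fromSpec := by
    have h4 : CommRingCat.ofHom (algebraMap Γ(Y, V) B) =
        Y.presheaf.map i ≫ CommRingCat.ofHom (algebraMap Γ(Y, V') B) := rfl
    rw [h4, Spec.map_comp, Category.assoc, IsAffineOpen.map_fromSpec hV hV' i]
  rw [h3]

/-- The flattening ideal sheaf of a finite morphism with locally constant fibre rank. -/
noncomputable def flatSheaf (hδ : IsLocallyConstant (rk f)) : Y.IdealSheafData where
  ideal V := flatIdealAt f V.1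
  map_ideal_basicOpen V r := flatIdealAt_map f hδ V.2 (V.2.basicOpen r) _

omit [IsFinite f] in
lemma flat_snd_comp {T T' : Scheme.{u}} (a : T' ⟶ T) (g : T ⟶ Y)
    (hg : Flat (pullback.snd f g)) : Flat (pullback.snd f (a ≫ g)) := by
  have h : (pullbackLeftPullbackSndIso f g a).inv ≫ pullback.snd (pullback.snd f g) a =
      pullback.snd f (a ≫ g) := by simp
  rw [← h]
  infer_instance

omit [IsFinite f] in
lemma snd_snd_iff (P : MorphismProperty Scheme.{u}) [P.RespectsIso] {T T' : Scheme.{u}}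
    (a : T' ⟶ T) (g : T ⟶ Y) :
    P (pullback.snd (pullback.snd f g) a) ↔ P (pullback.snd f (a ≫ g)) := by
  have h : (pullbackLeftPullbackSndIso f g a).inv ≫ pullback.snd (pullback.snd f g) a =
      pullback.snd f (a ≫ g) := by simp
  rw [← h, P.cancel_left_of_respectsIso]

/-- the universal property of the flattening ideal sheaf, first half: a morphism over which `f`
becomes flat factors through the closed subscheme. -/
lemma flatSheaf_le_ker (hδ : IsLocallyConstant (rk f)) {T : Scheme.{u}} (g : T ⟶ Y)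
    (hg : Flat (pullback.snd f g)) : flatSheaf f hδ ≤ g.ker := by
  rw [Scheme.Hom.ker, Scheme.IdealSheafData.le_ofIdeals_iff]
  intro V a ha
  change g.app V.1 a = 0
  apply T.IsSheaf.section_ext
  intro x hx
  obtain ⟨_, ⟨W, hW, rfl⟩, hxW, hWV⟩ := T.isBasis_affineOpens.exists_subset_of_mem_open hx
    (g ⁻¹ᵁ V.1).isOpen
  refine ⟨W, hWV, hxW, ?_⟩
  rw [map_zero]
  letI a1 : Algebra Γ(Y, V.1) Γ(X, f ⁻¹ᵁ V.1) := (f.app V.1).hom.toAlgebra
  letI a2 : Algebra Γ(Y, V.1) Γ(T, W) := (g.appLE V.1 W hWV).hom.toAlgebra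
  have h1 : Module.Flat Γ(T, W) (Γ(T, W) ⊗[Γ(Y, V.1)] Γ(X, f ⁻¹ᵁ V.1)) := by
    rw [← flat_snd_iff f V.2 Γ(T, W)]
    have h2 : Spec.map (CommRingCat.ofHom (algebraMap Γ(Y, V.1) Γ(T, W))) ≫ V.2.fromSpec =
        IsAffineOpen.fromSpec hW ≫ g :=
      IsAffineOpen.SpecMap_appLE_fromSpec g V.2 hW hWV
    rw [h2]
    exact flat_snd_comp f _ g hg
  exact ha Γ(T, W) h1

/-- `f` becomes flat over the closed subscheme defined by the flattening ideal sheaf. -/
lemma flat_snd_subschemeι (hδ : IsLocallyConstant (rk f)) :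
    Flat (pullback.snd f (flatSheaf f hδ).subschemeι) := by
  apply IsZariskiLocalAtTarget.of_openCover (P := @Flat) (flatSheaf f hδ).subschemeCover.openCover
  intro V
  change Flat (pullback.snd (pullback.snd f (flatSheaf f hδ).subschemeι)
    ((flatSheaf f hδ).subschemeCover.f V))
  rw [snd_snd_iff f @Flat]
  letI a1 : Algebra Γ(Y, V.1) Γ(X, f ⁻¹ᵁ V.1) := (f.app V.1).hom.toAlgebra
  haveI : Module.Finite Γ(Y, V.1) Γ(X, f ⁻¹ᵁ V.1) := finite_app f V.2
  have h1 : (flatSheaf f hδ).subschemeCover.f V ≫ (flatSheaf f hδ).subschemeι =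
      Spec.map (CommRingCat.ofHom (algebraMap Γ(Y, V.1)
        (Γ(Y, V.1) ⧸ flatIdeal Γ(Y, V.1) Γ(X, f ⁻¹ᵁ V.1)))) ≫ V.2.fromSpec := by
    rw [Scheme.IdealSheafData.subschemeCover_map_subschemeι,
      Scheme.IdealSheafData.glueDataObjι, Category.assoc, IsAffineOpen.isoSpec_inv_ι]
    rfl
  rw [h1]
  exact (flat_snd_iff f V.2 _).mpr (flat_quotient (isLocallyConstant_fibRank f V.2 hδ))

/-- The universal property of the flattening closed subscheme. -/
theorem flat_snd_iff_exists (hδ : IsLocallyConstant (rk f)) {T : Scheme.{u}} (g : T ⟶ Y) :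
    Flat (pullback.snd f g) ↔ ∃ g' : T ⟶ (flatSheaf f hδ).subscheme,
      g' ≫ (flatSheaf f hδ).subschemeι = g := by
  constructor
  · intro h
    refine ⟨IsClosedImmersion.lift (flatSheaf f hδ).subschemeι g ?_,
      IsClosedImmersion.lift_fac _ _ _⟩
    rw [Scheme.IdealSheafData.ker_subschemeι]
    exact flatSheaf_le_ker f hδ g h
  · rintro ⟨g', rfl⟩
    exact flat_snd_comp f g' _ (flat_snd_subschemeι f hδ)

/-- The flattening closed subscheme has full support. -/
theorem support_flatSheaf (hδ : IsLocallyConstant (rk f)) : (flatSheaf f hδ).support = ⊤ := by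
  rw [eq_top_iff]
  intro y _
  have h1 : Flat (pullback.snd f (Y.fromSpecResidueField y)) := inferInstance
  obtain ⟨g', hg'⟩ := (flat_snd_iff_exists f hδ (Y.fromSpecResidueField y)).mp h1
  have h2 : y ∈ Set.range (flatSheaf f hδ).subschemeι := by
    refine ⟨g' (IsLocalRing.closedPoint _), ?_⟩
    rw [← Scheme.Hom.comp_apply, hg']
    exact Scheme.fromSpecResidueField_apply _ _
  rwa [Scheme.IdealSheafData.range_subschemeι] at h2

/-- Over the flattening closed subscheme `f` becomes locally of finite presentation. -/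
lemma locallyOfFinitePresentation_snd_subschemeι (hδ : IsLocallyConstant (rk f)) :
    LocallyOfFinitePresentation (pullback.snd f (flatSheaf f hδ).subschemeι) := by
  apply IsZariskiLocalAtTarget.of_openCover (P := @LocallyOfFinitePresentation)
    (flatSheaf f hδ).subschemeCover.openCover
  intro V
  change LocallyOfFinitePresentation (pullback.snd (pullback.snd f (flatSheaf f hδ).subschemeι)
    ((flatSheaf f hδ).subschemeCover.f V))
  rw [snd_snd_iff f @LocallyOfFinitePresentation]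
  letI a1 : Algebra Γ(Y, V.1) Γ(X, f ⁻¹ᵁ V.1) := (f.app V.1).hom.toAlgebra
  haveI : Module.Finite Γ(Y, V.1) Γ(X, f ⁻¹ᵁ V.1) := finite_app f V.2
  have h1 : (flatSheaf f hδ).subschemeCover.f V ≫ (flatSheaf f hδ).subschemeι =
      Spec.map (CommRingCat.ofHom (algebraMap Γ(Y, V.1)
        (Γ(Y, V.1) ⧸ flatIdeal Γ(Y, V.1) Γ(X, f ⁻¹ᵁ V.1)))) ≫ V.2.fromSpec := by
    rw [Scheme.IdealSheafData.subschemeCover_map_subschemeι,
      Scheme.IdealSheafData.glueDataObjι, Category.assoc, IsAffineOpen.isoSpec_inv_ι]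
    rfl
  rw [h1]
  have h2 := finitePresentation_quotient (isLocallyConstant_fibRank f V.2 hδ)
  exact (lfp_snd_iff f V.2 _).mpr inferInstance

/-- If `f` is locally of finite presentation, then so is the flattening closed immersion. -/
lemma locallyOfFinitePresentation_subschemeι (hδ : IsLocallyConstant (rk f))
    [LocallyOfFinitePresentation f] :
    LocallyOfFinitePresentation (flatSheaf f hδ).subschemeι := by
  apply IsZariskiLocalAtSource.of_openCover (P := @LocallyOfFinitePresentation)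
    (flatSheaf f hδ).subschemeCover.openCover
  intro V
  change LocallyOfFinitePresentation
    ((flatSheaf f hδ).subschemeCover.f V ≫ (flatSheaf f hδ).subschemeι)
  letI a1 : Algebra Γ(Y, V.1) Γ(X, f ⁻¹ᵁ V.1) := (f.app V.1).hom.toAlgebra
  haveI : Module.Finite Γ(Y, V.1) Γ(X, f ⁻¹ᵁ V.1) := finite_app f V.2
  have h1 : (flatSheaf f hδ).subschemeCover.f V ≫ (flatSheaf f hδ).subschemeι =
      Spec.map (CommRingCat.ofHom (algebraMap Γ(Y, V.1)
        (Γ(Y, V.1) ⧸ flatIdeal Γ(Y, V.1) Γ(X, f ⁻¹ᵁ V.1)))) ≫ V.2.fromSpec := by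
    rw [Scheme.IdealSheafData.subschemeCover_map_subschemeι,
      Scheme.IdealSheafData.glueDataObjι, Category.assoc, IsAffineOpen.isoSpec_inv_ι]
    rfl
  rw [h1]
  have h2 : Algebra.FinitePresentation Γ(Y, V.1) Γ(X, f ⁻¹ᵁ V.1) := by
    have := LocallyOfFinitePresentation.finitePresentation_appLE f V.2 (V.2.preimage f) le_rfl
    rw [← Scheme.Hom.app_eq_appLE] at this
    exact this
  have h3 : Module.FinitePresentation Γ(Y, V.1) Γ(X, f ⁻¹ᵁ V.1) :=
    Module.FinitePresentation.of_finite_of_finitePresentation _ _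
  have h4 := flatIdeal_fg (isLocallyConstant_fibRank f V.2 hδ)
  have h5 : LocallyOfFinitePresentation (Spec.map (CommRingCat.ofHom (algebraMap Γ(Y, V.1)
        (Γ(Y, V.1) ⧸ flatIdeal Γ(Y, V.1) Γ(X, f ⁻¹ᵁ V.1))))) := by
    rw [LocallyOfFinitePresentation.SpecMap_iff]
    exact RingHom.finitePresentation_algebraMap.mpr (Algebra.FinitePresentation.quotient h4)
  exact MorphismProperty.comp_mem @LocallyOfFinitePresentation _ _ h5 inferInstance

end sheaf

section topology
variable {X Y : Scheme.{u}} (f : X ⟶ Y) [IsFinite f]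

open Topology

/-- The fibre rank is upper semicontinuous. -/
lemma eventually_rk_le (y : Y) : ∀ᶠ y' in 𝓝 y, rk f y' ≤ rk f y := by
  obtain ⟨_, ⟨V, hV, rfl⟩, hyV, -⟩ := Y.isBasis_affineOpens.exists_subset_of_mem_open
    (Set.mem_univ y) isOpen_univ
  letI a1 : Algebra Γ(Y, V) Γ(X, f ⁻¹ᵁ V) := (f.app V).hom.toAlgebra
  haveI : Module.Finite Γ(Y, V) Γ(X, f ⁻¹ᵁ V) := finite_app f hV
  have h1 : y ∈ Set.range (IsAffineOpen.fromSpec hV) := by
    rw [IsAffineOpen.range_fromSpec]; exact hyV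
  obtain ⟨p, rfl⟩ := h1
  obtain ⟨g, hg, m, hm⟩ := exists_generators (M := Γ(X, f ⁻¹ᵁ V)) p
  have h2 : IsOpen ((IsAffineOpen.fromSpec hV) '' {q | g ∉ PrimeSpectrum.asIdeal q}) :=
    (IsAffineOpen.fromSpec hV).isOpenEmbedding.isOpenMap _ (PrimeSpectrum.basicOpen g).isOpen
  filter_upwards [h2.mem_nhds ⟨p, hg, rfl⟩]
  rintro _ ⟨q, hq, rfl⟩
  rw [rk_fromSpec f hV, rk_fromSpec f hV]
  exact fibRank_le_of_generators q g hq _ m hm

lemma isOpen_rk_lt (n : ℕ) : IsOpen {y | rk f y < n} := by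
  rw [isOpen_iff_mem_nhds]
  intro y hy
  filter_upwards [eventually_rk_le f y] with y' hy'
  exact lt_of_le_of_lt hy' hy

/-- If `f` is of finite presentation, then the fibre rank is constant near generic points. -/
lemma eventually_rk_eq [LocallyOfFinitePresentation f] (y : Y) (hy : ∀ x : Y, x ⤳ y → x = y) :
    ∀ᶠ y' in 𝓝 y, rk f y' = rk f y := by
  obtain ⟨_, ⟨V, hV, rfl⟩, hyV, -⟩ := Y.isBasis_affineOpens.exists_subset_of_mem_open
    (Set.mem_univ y) isOpen_univ
  letI a1 : Algebra Γ(Y, V) Γ(X, f ⁻¹ᵁ V) := (f.app V).hom.toAlgebra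
  haveI : Module.Finite Γ(Y, V) Γ(X, f ⁻¹ᵁ V) := finite_app f hV
  have h2 : Algebra.FinitePresentation Γ(Y, V) Γ(X, f ⁻¹ᵁ V) := by
    have := LocallyOfFinitePresentation.finitePresentation_appLE f hV (hV.preimage f) le_rfl
    rw [← Scheme.Hom.app_eq_appLE] at this
    exact this
  have h3 : Module.FinitePresentation Γ(Y, V) Γ(X, f ⁻¹ᵁ V) :=
    Module.FinitePresentation.of_finite_of_finitePresentation _ _
  have h1 : y ∈ Set.range (IsAffineOpen.fromSpec hV) := by
    rw [IsAffineOpen.range_fromSpec]; exact hyV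
  obtain ⟨p, rfl⟩ := h1
  have hp : ∀ q : PrimeSpectrum Γ(Y, V), q ≤ p → q = p := by
    intro q hq
    have h4 : q ⤳ p := (PrimeSpectrum.le_iff_specializes q p).mp hq
    have h5 := hy _ (h4.map (IsAffineOpen.fromSpec hV).continuous)
    exact (IsAffineOpen.fromSpec hV).isOpenEmbedding.injective h5
  obtain ⟨g, hg, hg'⟩ := exists_forall_fibRank_eq (M := Γ(X, f ⁻¹ᵁ V)) p hp
  have h2 : IsOpen ((IsAffineOpen.fromSpec hV) '' {q | g ∉ PrimeSpectrum.asIdeal q}) :=
    (IsAffineOpen.fromSpec hV).isOpenEmbedding.isOpenMap _ (PrimeSpectrum.basicOpen g).isOpen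
  filter_upwards [h2.mem_nhds ⟨p, hg, rfl⟩]
  rintro _ ⟨q, hq, rfl⟩
  rw [rk_fromSpec f hV, rk_fromSpec f hV]
  exact hg' q hq

end topology

end Groth.Agent.Grpsch.FibRank
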