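import Groth.Agent.Grpsch.FieldUni
import Groth.Agent.Sga3C.DimTop
import Mathlib.AlgebraicGeometry.Morphisms.Finite
import Mathlib.AlgebraicGeometry.Morphisms.UniversallyOpen

/-!
# Groupoids on a field: dimension (Stacks 04LU)
-/

set_option autoImplicit false
universe u

open CategoryTheory CategoryTheory.Limits AlgebraicGeometry Order

namespace Groth.Agent.Grpsch.FieldDim

open Groth.Agent.Grpsch.Points Groth.Agent.Grpsch.FieldGrpd Groth.Agent.Grpsch.Restrict
open Groth.Agent.Grpsch.FieldUni

/-- A flat integral morphism preserves codimensions of points. -/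
theorem coheight_eq_of_flat_isIntegralHom {X Y : Scheme.{u}} (f : X ⟶ Y) [Flat f]
    [IsIntegralHom f] (x : X) : coheight x = coheight (f x) := by
  have hmono : StrictMono f := by
    intro a b hab
    have hba : b ⤳ a := hab.le
    refine lt_of_le_not_ge (hba.map f.continuous : f b ⤳ f a) ?_
    intro (h : f a ⤳ f b)
    have he : f a = f b := (h.antisymm (hba.map f.continuous)).eq
    have := Sga3C.DimTop.eq_of_specializes_of_isIntegralHom f b a hba he.symm
    subst this
    exact lt_irrefl _ hab
  refine coheight_eq_of_strictMono f hmono ?_ x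
  intro a b hb
  obtain ⟨a', ha', rfl⟩ := Flat.generalizingMap f (hb.le : b ⤳ f a)
  refine ⟨a', lt_of_le_not_ge ha' ?_, rfl⟩
  intro (h : a ⤳ a')
  exact hb.not_ge (h.map f.continuous : f a ⤳ f a')

variable {S : Scheme.{u}} (G : Grpd.GroupoidScheme S)

/-- the projection `R' → R` of a restriction inherits stable properties of `g : U' → U`. -/
lemma toR_prop {U' : Scheme.{u}} (g : U' ⟶ G.U) (P : MorphismProperty Scheme.{u})
    [P.IsStableUnderBaseChange] [P.IsStableUnderComposition] (hg : P g) : P (toR G g) := by
  refine P.comp_mem _ _ ?_ ?_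
  · exact P.of_isPullback (IsPullback.of_hasPullback (pullback.snd g G.t ≫ G.s) g).flip hg
  · exact P.of_isPullback (IsPullback.of_hasPullback g G.t) hg

lemma flat_to_field {k : Type u} [Field k] {X U : Scheme.{u}} (eU : U ≅ Spec (CommRingCat.of k))
    (f : X ⟶ U) : Flat f := by
  have h1 : Flat (f ≫ eU.hom) := by
    wlog hX : ∃ R, X = Spec R
    · refine (IsZariskiLocalAtSource.iff_of_openCover X.affineCover).mpr fun i ↦ ?_
      rw [← Category.assoc]
      exact this eU _ ⟨_, rfl⟩
    obtain ⟨R, rfl⟩ := hX
    obtain ⟨φ, hφ⟩ := Spec.map_surjective (f ≫ eU.hom)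
    rw [← hφ, HasRingHomProperty.Spec_iff (P := @Flat)]
    let _ := φ.hom.toAlgebra
    change Module.Flat k R
    infer_instance
  exact (MorphismProperty.cancel_right_of_respectsIso @Flat _ eU.hom).mp h1

lemma jacobson_of_iso {k : Type u} [Field k] {U : Scheme.{u}} (eU : U ≅ Spec (CommRingCat.of k)) :
    JacobsonSpace U :=
  JacobsonSpace.of_isOpenEmbedding eU.hom.isOpenEmbedding

section
variable (k : Type u) [Field k] (eU : G.U ≅ Spec (CommRingCat.of k)) [LocallyOfFiniteType G.s]
  [LocallyOfFiniteType G.t]

include eU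

omit [LocallyOfFiniteType G.t] in
lemma jacobson_R : JacobsonSpace G.R := by
  have := jacobson_of_iso eU
  exact LocallyOfFiniteType.jacobsonSpace G.s

/-- All closed points of `R` have the same codimension as the identity. -/
theorem coheight_eq_coheight_e (r : G.R) (hr : IsClosed ({r} : Set G.R)) (u : G.U) :
    coheight r = coheight (G.e u) := by
  have hJ := jacobson_R G k eU
  have hJU := jacobson_of_iso eU
  have hsub : Subsingleton G.U := eU.hom.homeomorph.injective.subsingleton
  have hlft : LocallyOfFiniteType (G.R.fromSpecResidueField r) :=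
    isClosed_singleton_iff_locallyOfFiniteType.mp hr
  let K := AlgebraicClosure (G.R.residueField r)
  let y : Spec (CommRingCat.of K) ⟶ Spec (G.R.residueField r) :=
    Spec.map (CommRingCat.ofHom (algebraMap (G.R.residueField r) K))
  have hy : IsIntegralHom y := by
    rw [IsIntegralHom.SpecMap_iff]
    exact algebraMap_isIntegral_iff.mpr inferInstance
  let x : Spec (CommRingCat.of K) ⟶ G.R := y ≫ G.R.fromSpecResidueField r
  have hs : IsFinite (G.R.fromSpecResidueField r ≫ G.s) :=
    isFinite_iff_locallyOfFiniteType_of_jacobsonSpace.mpr inferInstance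
  have ht : IsFinite (G.R.fromSpecResidueField r ≫ G.t) :=
    isFinite_iff_locallyOfFiniteType_of_jacobsonSpace.mpr inferInstance
  have hxs : IsIntegralHom (x ≫ G.s) := by
    simp only [x, Category.assoc]; infer_instance
  have hxt : IsIntegralHom (x ≫ G.t) := by
    simp only [x, Category.assoc]; infer_instance
  have h1 : Flat (arrowsShear G x) :=
    arrowsShear_prop G x @Flat (flat_to_field eU _) (flat_to_field eU _)
  have h2 : IsIntegralHom (arrowsShear G x) := arrowsShear_prop G x @IsIntegralHom hxs hxt
  have h3 : Flat (toR G (x ≫ G.s)) := toR_prop G _ @Flat (flat_to_field eU _)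
  have h4 : IsIntegralHom (toR G (x ≫ G.s)) := toR_prop G _ @IsIntegralHom hxs
  let p := IsLocalRing.closedPoint K
  have h5 : arrowsShear G x ((restrict G (x ≫ G.s)).e p) = r := by
    have h5 : arrowsShear G x ((restrict G (x ≫ G.s)).e p) =
      ((restrict G (x ≫ G.s)).e ≫ arrowsShear G x) p := rfl
    rw [h5, e_arrowsShear]
    exact Scheme.fromSpecResidueField_apply r _
  have h6 : toR G (x ≫ G.s) ((restrict G (x ≫ G.s)).e p) = G.e u := by
    have h7 := comm_e (hom G (x ≫ G.s))
    have h8 : toR G (x ≫ G.s) ((restrict G (x ≫ G.s)).e p) =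
      ((restrict G (x ≫ G.s)).e ≫ (hom G (x ≫ G.s)).fR) p := rfl
    rw [h8, h7, Scheme.Hom.comp_apply]
    exact congrArg _ (Subsingleton.elim _ _)
  have h7 := coheight_eq_of_flat_isIntegralHom (arrowsShear G x) ((restrict G (x ≫ G.s)).e p)
  have h8 := coheight_eq_of_flat_isIntegralHom (toR G (x ≫ G.s)) ((restrict G (x ≫ G.s)).e p)
  rw [h5] at h7
  rw [h6] at h8
  exact h7.symm.trans h8

/-- Stacks 04LU (4) for the identity. -/
theorem topologicalKrullDim_eq_coheight_e (u : G.U) :
    topologicalKrullDim G.R = (coheight (G.e u) : WithBot ℕ∞) := by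
  have hJ := jacobson_R G k eU
  have h1 := Sga3C.DimTop.topologicalKrullDim_open_eq_of_closedPoints (X := G.R) Set.univ
    isOpen_univ ⟨G.e u, trivial⟩ (coheight (G.e u))
    (fun x _ hx => coheight_eq_coheight_e G k eU x hx u)
  rw [← h1]
  exact (IsHomeomorph.topologicalKrullDim_eq _ (Homeomorph.Set.univ G.R).isHomeomorph).symm

end

end Groth.Agent.Grpsch.FieldDim
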