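import Groth.Agent.Grpsch.Points
import Mathlib.AlgebraicGeometry.Morphisms.UniversallyOpen
import Mathlib.AlgebraicGeometry.PullbackCarrier

/-!
# Groupoids on the spectrum of a field: topological lemmas

For a cartesian square over the spectrum of a field, all the projections are universally open. We
deduce that closures are compatible with products, and (Stacks 04Q6, 04Q9) that the image of a
morphism of groupoids over the identity of `Spec k` is closed as soon as it is locally closed.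
-/

set_option autoImplicit false
universe u

open CategoryTheory CategoryTheory.Limits AlgebraicGeometry

namespace Groth.Agent.Grpsch.FieldGrpd

open Groth.Agent.Grpsch.Points

section general

variable {P X Y U : Scheme.{u}} {f : P ⟶ X} {g : P ⟶ Y} {h : X ⟶ U} {k : Y ⟶ U}
  [IsIntegral U] [Subsingleton U]

/-- Over the spectrum of a field: for `N` open in `X ×_U Y` and a point `y` of `Y`, the image in `X`
of the points of `N` over `y` is open. -/
theorem isOpen_image_fibre (hP : IsPullback f g h k) {N : Set P} (hN : IsOpen N) (y : Y) :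
    IsOpen {x : X | ∃ q ∈ N, f q = x ∧ g q = y} := by
  let y' := Y.fromSpecResidueField y
  have h1 : IsPullback (pullback.fst g y' ≫ f) (pullback.snd g y') h (y' ≫ k) :=
    (IsPullback.of_hasPullback g y').paste_horiz hP
  have h2 : UniversallyOpen (pullback.fst g y' ≫ f) :=
    MorphismProperty.of_isPullback (P := @UniversallyOpen) h1.flip inferInstance
  have h3 : {x : X | ∃ q ∈ N, f q = x ∧ g q = y} =
      (pullback.fst g y' ≫ f) '' (pullback.fst g y' ⁻¹' N) := by
    ext x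
    constructor
    · rintro ⟨q, hq, rfl, hq2⟩
      have : q ∈ Set.range (pullback.fst g y') := by
        rw [Scheme.Pullback.range_fst, Scheme.range_fromSpecResidueField]
        exact hq2
      obtain ⟨q', rfl⟩ := this
      exact ⟨q', hq, by simp⟩
    · rintro ⟨q', hq', rfl⟩
      refine ⟨pullback.fst g y' q', hq', by simp, ?_⟩
      rw [← Scheme.Hom.comp_apply, pullback.condition, Scheme.Hom.comp_apply]
      exact Scheme.fromSpecResidueField_apply _ _
  rw [h3]
  exact (Scheme.Hom.isOpenMap _) _ (hN.preimage (Scheme.Hom.continuous _))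

/-- Over the spectrum of a field, the closure of a product of subsets is the product of the
closures. -/
theorem mem_closure_of_isPullback (hP : IsPullback f g h k) {A : Set X} {B : Set Y} {q : P}
    (hq1 : f q ∈ closure A) (hq2 : g q ∈ closure B) : q ∈ closure (f ⁻¹' A ∩ g ⁻¹' B) := by
  rw [mem_closure_iff]
  intro N hN hqN
  obtain ⟨_, ⟨q₁, hq₁N, rfl, hq₁⟩, hq₁A⟩ := mem_closure_iff.mp hq1 _
    (isOpen_image_fibre hP hN (g q)) ⟨q, hqN, rfl, rfl⟩
  obtain ⟨_, ⟨q₂, hq₂N, rfl, hq₂⟩, hq₂A⟩ := mem_closure_iff.mp hq2 _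
    (isOpen_image_fibre hP.flip hN (f q₁)) ⟨q₁, hq₁N, hq₁, rfl⟩
  exact ⟨q₂, hq₂N, by rw [Set.mem_preimage, hq₂]; exact hq₁A, hq₂A⟩

end general

section points

variable {S : Scheme.{u}} (G : Grpd.GroupoidScheme S)

/-- `(q.1)⁻¹ * (q.1 * q.2) = q.2` on points. -/
lemma exists_inv_comp (q : ↥(pullback G.s G.t)) :
    ∃ q' : ↥(pullback G.s G.t), pullback.fst G.s G.t q' = G.i (pullback.fst G.s G.t q) ∧
      pullback.snd G.s G.t q' = G.c q ∧ G.c q' = pullback.snd G.s G.t q := by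
  let p₁ := pullback.fst G.s G.t
  let p₂ := pullback.snd G.s G.t
  have h : (p₁ ≫ G.i) ≫ G.s = (mul G p₁ p₂ pullback.condition) ≫ G.t := by
    rw [mul_t, inv_s]
  refine ⟨pullback.lift (p₁ ≫ G.i) (mul G p₁ p₂ pullback.condition) h q, ?_, ?_, ?_⟩
  · rw [← Scheme.Hom.comp_apply, pullback.lift_fst]; simp [p₁]
  · rw [← Scheme.Hom.comp_apply, pullback.lift_snd, c_eq_mul]
  · have := inv_mul_cancel_left G p₁ p₂ pullback.condition h
    unfold mul at this
    rw [← Scheme.Hom.comp_apply]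
    exact congrArg (fun φ : pullback G.s G.t ⟶ G.R => φ q) this

/-- `(q.1 * q.2) * (q.2)⁻¹ = q.1` on points. -/
lemma exists_comp_inv (q : ↥(pullback G.s G.t)) :
    ∃ q' : ↥(pullback G.s G.t), pullback.fst G.s G.t q' = G.c q ∧
      pullback.snd G.s G.t q' = G.i (pullback.snd G.s G.t q) ∧
      G.c q' = pullback.fst G.s G.t q := by
  let p₁ := pullback.fst G.s G.t
  let p₂ := pullback.snd G.s G.t
  have h : (mul G p₁ p₂ pullback.condition) ≫ G.s = (p₂ ≫ G.i) ≫ G.t := by
    rw [mul_s, inv_t]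
  refine ⟨pullback.lift (mul G p₁ p₂ pullback.condition) (p₂ ≫ G.i) h q, ?_, ?_, ?_⟩
  · rw [← Scheme.Hom.comp_apply, pullback.lift_fst, c_eq_mul]
  · rw [← Scheme.Hom.comp_apply, pullback.lift_snd]; simp [p₂]
  · have := mul_inv_cancel_right G p₁ p₂ pullback.condition h
    unfold mul at this
    rw [← Scheme.Hom.comp_apply]
    exact congrArg (fun φ : pullback G.s G.t ⟶ G.R => φ q) this

lemma exists_comp_e (z : G.R) :
    ∃ q : ↥(pullback G.s G.t), pullback.fst G.s G.t q = z ∧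
      pullback.snd G.s G.t q = G.e (G.s z) ∧ G.c q = z := by
  refine ⟨pullback.lift (𝟙 _) (𝟙 _ ≫ G.s ≫ G.e) (by simp) z, ?_, ?_, ?_⟩
  · rw [← Scheme.Hom.comp_apply, pullback.lift_fst]; rfl
  · rw [← Scheme.Hom.comp_apply, pullback.lift_snd]; simp
  · have := G.comp_e (𝟙 G.R)
    rw [← Scheme.Hom.comp_apply, this]
    rfl

end points

section hom

variable {S : Scheme.{u}} {G₁ G₂ : Grpd.GroupoidScheme S} (a : Grpd.GroupoidScheme.Hom G₁ G₂)

lemma hom_mul {T : Scheme.{u}} (α β : T ⟶ G₁.R) (h : α ≫ G₁.s = β ≫ G₁.t) :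
    mul G₁ α β h ≫ a.fR = mul G₂ (α ≫ a.fR) (β ≫ a.fR)
      (by rw [Category.assoc, Category.assoc, a.comm_s, a.comm_t, ← Category.assoc,
        ← Category.assoc, h]) := a.comm_c α β h

/-- Compatibility of a morphism of groupoid schemes with identities. -/
lemma comm_e : G₁.e ≫ a.fR = a.fU ≫ G₂.e := by
  have hst : (G₁.e ≫ a.fR) ≫ G₂.s = (G₁.e ≫ a.fR) ≫ G₂.t := by
    rw [Category.assoc, Category.assoc, a.comm_s, a.comm_t, ← Category.assoc, ← Category.assoc,
      G₁.e_s, G₁.e_t]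
  have hs : (G₁.e ≫ a.fR) ≫ G₂.s = a.fU := by
    rw [Category.assoc, a.comm_s, ← Category.assoc, G₁.e_s, Category.id_comp]
  have ht : (G₁.e ≫ a.fR) ≫ G₂.t = a.fU := by
    rw [Category.assoc, a.comm_t, ← Category.assoc, G₁.e_t, Category.id_comp]
  have h1 : mul G₂ (G₁.e ≫ a.fR) (G₁.e ≫ a.fR) hst = G₁.e ≫ a.fR := by
    rw [← hom_mul a G₁.e G₁.e (by rw [G₁.e_s, G₁.e_t])]
    congr 1
    have := mul_e G₁ G₁.e (𝟙 _) (by simp)
    simpa using this
  have h3 : mul G₂ (G₁.e ≫ a.fR) (a.fU ≫ G₂.e)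
      (by rw [hs, Category.assoc, G₂.e_t, Category.comp_id]) = G₁.e ≫ a.fR :=
    mul_e G₂ (G₁.e ≫ a.fR) a.fU _
  exact mul_left_cancel G₂ _ _ _ _ _ (h1.trans h3.symm)

/-- Compatibility of a morphism of groupoid schemes with inverses. -/
lemma comm_i : G₁.i ≫ a.fR = a.fR ≫ G₂.i := by
  have h : (G₁.i ≫ a.fR) ≫ G₂.s = a.fR ≫ G₂.t := by
    rw [Category.assoc, a.comm_s, ← Category.assoc, G₁.i_s, a.comm_t]
  have h1 : mul G₂ (G₁.i ≫ a.fR) a.fR h = (G₁.s ≫ a.fU) ≫ G₂.e := by
    have h2 := hom_mul a G₁.i (𝟙 _) (by simp)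
    have h3 := inv_mul G₁ (𝟙 G₁.R) (by simp)
    have h4 : mul G₁ G₁.i (𝟙 _) (by simp) = G₁.s ≫ G₁.e := by
      refine Eq.trans (mul_congr G₁ _ (by simp) rfl) (h3.trans (by simp))
    rw [h4] at h2
    refine Eq.trans (mul_congr G₂ _ rfl (by simp)) (h2.symm.trans ?_)
    rw [Category.assoc, comm_e, Category.assoc]
  have h' : (a.fR ≫ G₂.i) ≫ G₂.s = a.fR ≫ G₂.t := inv_s G₂ _
  have h5 : mul G₂ (a.fR ≫ G₂.i) a.fR h' = (G₁.s ≫ a.fU) ≫ G₂.e := by
    rw [inv_mul G₂ a.fR h', ← a.comm_s, Category.assoc]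
  exact mul_right_cancel G₂ _ _ _ _ _ (h1.trans h5.symm)

/-- The image of `R₁` is closed under composition. -/
lemma mem_range_c [Mono a.fU] (q : ↥(pullback G₂.s G₂.t))
    (h1 : pullback.fst G₂.s G₂.t q ∈ Set.range a.fR)
    (h2 : pullback.snd G₂.s G₂.t q ∈ Set.range a.fR) : G₂.c q ∈ Set.range a.fR := by
  have hq : q ∈ Set.range (pullback.map G₁.s G₁.t G₂.s G₂.t a.fR a.fR a.fU
      a.comm_s.symm a.comm_t.symm) := by
    rw [Scheme.Pullback.range_map]
    exact ⟨h1, h2⟩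
  obtain ⟨q', rfl⟩ := hq
  refine ⟨G₁.c q', ?_⟩
  rw [← Scheme.Hom.comp_apply, ← Scheme.Hom.comp_apply]
  have : G₁.c ≫ a.fR = pullback.map G₁.s G₁.t G₂.s G₂.t a.fR a.fR a.fU
      a.comm_s.symm a.comm_t.symm ≫ G₂.c := by
    rw [c_eq_mul G₁, hom_mul, comp_c]
    apply mul_congr
    · exact (pullback.lift_fst _ _ _).symm
    · exact (pullback.lift_snd _ _ _).symm
  rw [this]

lemma i_mem_range (r : G₂.R) (h : r ∈ Set.range a.fR) : G₂.i r ∈ Set.range a.fR := by
  obtain ⟨r', rfl⟩ := h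
  refine ⟨G₁.i r', ?_⟩
  rw [← Scheme.Hom.comp_apply, ← Scheme.Hom.comp_apply, comm_i]

lemma i_mem_closure (r : G₂.R) (h : r ∈ closure (Set.range a.fR)) :
    G₂.i r ∈ closure (Set.range a.fR) :=
  map_mem_closure G₂.i.continuous h fun _ hx => i_mem_range a _ hx

/-- The closure of the image of `R₁` is closed under composition (Stacks 04Q7). -/
lemma mem_closure_c [IsIntegral G₂.U] [Subsingleton G₂.U] [Mono a.fU]
    (q : ↥(pullback G₂.s G₂.t))
    (h1 : pullback.fst G₂.s G₂.t q ∈ closure (Set.range a.fR))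
    (h2 : pullback.snd G₂.s G₂.t q ∈ closure (Set.range a.fR)) :
    G₂.c q ∈ closure (Set.range a.fR) :=
  map_mem_closure G₂.c.continuous
    (mem_closure_of_isPullback (IsPullback.of_hasPullback G₂.s G₂.t) h1 h2)
    fun x hx => mem_range_c a x hx.1 hx.2

/-- Stacks 04Q9 (and 04Q6). -/
theorem isClosed_range_of_isLocallyClosed [IsIntegral G₂.U] [Subsingleton G₂.U] [IsIso a.fU]
    (hlc : IsLocallyClosed (Set.range a.fR)) : IsClosed (Set.range a.fR) := by
  obtain ⟨O, C, hO, hC, hOC⟩ := hlc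
  have hOZ : ∀ x, x ∈ O → x ∈ closure (Set.range a.fR) → x ∈ Set.range a.fR := by
    intro x hx hx'
    rw [hOC]
    refine ⟨hx, ?_⟩
    have : closure (Set.range a.fR) ⊆ C := hC.closure_subset_iff.mpr (by rw [hOC]; exact Set.inter_subset_right)
    exact this hx'
  have hAO : Set.range a.fR ⊆ O := by rw [hOC]; exact Set.inter_subset_left
  rw [← closure_eq_iff_isClosed]
  refine Set.Subset.antisymm ?_ subset_closure
  intro z hz
  have hopen := isOpen_image_fibre (isPullback_c_fst G₂)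
    (hO.preimage (pullback.snd G₂.s G₂.t).continuous) z
  have hU : ∀ x : G₂.U, G₂.e x ∈ Set.range a.fR := by
    intro x
    refine ⟨G₁.e (inv a.fU x), ?_⟩
    rw [← Scheme.Hom.comp_apply, ← Scheme.Hom.comp_apply, comm_e, IsIso.inv_hom_id_assoc]
  obtain ⟨q₀, h1, h2, h3⟩ := exists_comp_e G₂ z
  obtain ⟨_, ⟨q, hqO, rfl, hqz⟩, hqA⟩ := mem_closure_iff.mp hz _ hopen
    ⟨q₀, hAO (by rw [h2]; exact hU _), h3, h1⟩
  -- the second factor of `q` lies in the closure, hence in the image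
  obtain ⟨q₁, h11, h12, h13⟩ := exists_inv_comp G₂ q
  have hq1 : pullback.snd G₂.s G₂.t q ∈ closure (Set.range a.fR) := by
    rw [← h13]
    refine mem_closure_c a q₁ ?_ ?_
    · rw [h11, hqz]; exact i_mem_closure a _ hz
    · rw [h12]; exact subset_closure hqA
  have hq2 := hOZ _ hqO hq1
  obtain ⟨q₂, h21, h22, h23⟩ := exists_comp_inv G₂ q
  rw [← hqz, ← h23]
  refine mem_range_c a q₂ ?_ ?_
  · rw [h21]; exact hqA
  · rw [h22]; exact i_mem_range a _ hq2

end hom

end Groth.Agent.Grpsch.FieldGrpd
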