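import Groth.Agent.FlatA.GenericFree2
import Mathlib.FieldTheory.Separable
import Mathlib.RingTheory.FiniteType
import Mathlib.RingTheory.Algebraic.Basic
import Mathlib.RingTheory.Algebraic.Integral
import Mathlib.RingTheory.IntegralClosure.IsIntegralClosure.Basic

/-!
# Subfields of finitely generated domains over a field are algebraic

If `A` is a domain of finite type over a field `k`, and `x : A` is such that all `x ^ m - 1` are
zero or units (e.g. `x` lies in a subfield of `A`), then `x` is algebraic over `k`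
(compare Stacks, Varieties, "Uniqueness of base field").
-/

set_option autoImplicit false
universe u

open Polynomial

namespace Groth.Agent.Grpsch.SubfieldAlg

/-- Units of a domain which are in a subring over which it is generically free are units
generically. -/
lemma exists_dvd_pow {R A : Type u} [CommRing R] [IsDomain R] [CommRing A] [IsDomain A]
    [Algebra R A] (hinj : Function.Injective (algebraMap R A)) {f : R} (hf : f ≠ 0)
    (hfree : FlatA.GenericFree.FreeAway R A f) {v : R} (hv : IsUnit (algebraMap R A v)) :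
    ∃ n : ℕ, v ∣ f ^ n := by
  obtain ⟨s, hs, hs'⟩ := hfree
  have hne : s.Nonempty := by
    by_contra h
    rw [Set.not_nonempty_iff_eq_empty] at h
    obtain ⟨n, hn⟩ := hs' 1
    rw [h, Submodule.span_empty, Submodule.mem_bot, Algebra.smul_def, mul_one] at hn
    exact pow_ne_zero n hf (hinj (by rw [hn, map_zero]))
  obtain ⟨e, he⟩ := hne
  obtain ⟨b, hb⟩ := hv.exists_right_inv
  obtain ⟨n, hn⟩ := hs' (b * e)
  refine ⟨n, ?_⟩
  have h1 : LinearIndependent R ((↑) : s → A) := hs
  have hn' : f ^ n • (b * e) ∈ Submodule.span R (Set.range ((↑) : s → A)) := by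
    rwa [Subtype.range_coe_subtype]
  rw [Finsupp.mem_span_range_iff_exists_finsupp] at hn'
  obtain ⟨c, hc⟩ := hn'
  have h2 : Finsupp.linearCombination R ((↑) : s → A) (v • c) =
      Finsupp.linearCombination R ((↑) : s → A) (Finsupp.single ⟨e, he⟩ (f ^ n)) := by
    rw [map_smul, Finsupp.linearCombination_single]
    have h3 : Finsupp.linearCombination R ((↑) : s → A) c = f ^ n • (b * e) := hc
    rw [h3, smul_comm]
    congr 1
    rw [Algebra.smul_def, ← mul_assoc, hb, one_mul]
  have h4 := h1 h2
  have h5 := DFunLike.congr_fun h4 ⟨e, he⟩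
  rw [Finsupp.single_eq_same] at h5
  exact ⟨c ⟨e, he⟩, h5.symm⟩

theorem isAlgebraic_of_isUnit_pow_sub_one {k A : Type u} [Field k] [CommRing A] [IsDomain A]
    [Algebra k A] [Algebra.FiniteType k A] (x : A) (hx : ∀ m : ℕ, x ^ m ≠ 1 → IsUnit (x ^ m - 1)) :
    IsAlgebraic k x := by
  by_contra htr
  have hinj : Function.Injective (aeval x : k[X] →ₐ[k] A) :=
    transcendental_iff_injective.mp htr
  let _ : Algebra k[X] A := (aeval x : k[X] →ₐ[k] A).toRingHom.toAlgebra
  have : IsScalarTower k k[X] A := IsScalarTower.of_algebraMap_eq fun a =>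
    ((aeval x : k[X] →ₐ[k] A).commutes a).symm
  have : Algebra.FiniteType k[X] A := Algebra.FiniteType.of_restrictScalars_finiteType k k[X] A
  obtain ⟨f, hf, hfree⟩ := FlatA.GenericFree.genFree_of_finiteType (R := k[X]) A A
  obtain ⟨m, hm, hmk⟩ : ∃ m : ℕ, f.natDegree < m ∧ (m : k) ≠ 0 := by
    by_cases h : ((f.natDegree + 1 : ℕ) : k) = 0
    · refine ⟨f.natDegree + 2, by omega, ?_⟩
      have : ((f.natDegree + 2 : ℕ) : k) = ((f.natDegree + 1 : ℕ) : k) + 1 := by push_cast; ring
      rw [this, h, zero_add]
      exact one_ne_zero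
    · exact ⟨f.natDegree + 1, by omega, h⟩
  have hm0 : 0 < m := by omega
  have hne : (X ^ m - 1 : k[X]) ≠ 0 := by
    rw [← C_1]; exact X_pow_sub_C_ne_zero hm0 1
  have hxm : x ^ m ≠ 1 := by
    intro h
    apply hne
    apply hinj
    rw [map_zero, map_sub, map_pow, aeval_X, map_one, h, sub_self]
  have hu : IsUnit (algebraMap k[X] A (X ^ m - 1)) := by
    have : algebraMap k[X] A (X ^ m - 1) = x ^ m - 1 := by
      change aeval x (X ^ m - 1) = _
      rw [map_sub, map_pow, aeval_X, map_one]
    rw [this]
    exact hx m hxm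
  obtain ⟨n, hn⟩ := exists_dvd_pow hinj hf hfree hu
  have hsq : Squarefree (X ^ m - 1 : k[X]) :=
    (X_pow_sub_one_separable_iff.mpr hmk).squarefree
  have hn0 : n ≠ 0 := by
    rintro rfl
    rw [pow_zero] at hn
    have h1 := Polynomial.natDegree_le_of_dvd hn one_ne_zero
    rw [natDegree_one, ← C_1, natDegree_X_pow_sub_C] at h1
    omega
  have h2 := (hsq.dvd_pow_iff_dvd hn0).mp hn
  have h3 := Polynomial.natDegree_le_of_dvd h2 hf
  rw [← C_1, natDegree_X_pow_sub_C] at h3
  omega

/-- An element of a domain which is algebraic over a field is zero or a unit. -/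
lemma eq_zero_of_isAlgebraic {k A : Type u} [Field k] [CommRing A] [IsDomain A]
    [Algebra k A] {y : A} (hy : IsAlgebraic k y) (hyu : ¬ IsUnit y) : y = 0 := by
  by_contra h0
  apply hyu
  have h1 : IsIntegral k y := hy.isIntegral
  exact h1.isUnit h0

end Groth.Agent.Grpsch.SubfieldAlg
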