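import Groth.Agent.Grpsch.FieldDim
import Groth.Agent.Grpsch.SubfieldAlg
import Mathlib.AlgebraicGeometry.Morphisms.Immersion
import Mathlib.AlgebraicGeometry.Morphisms.FiniteType

/-!
# Groupoids on a field: `dim R = dim G` (Stacks 04MQ)

The key point: on (the reduction of) the irreducible component of `R` through the identity the
source and target morphisms agree.
-/

set_option autoImplicit false
universe u

open CategoryTheory CategoryTheory.Limits AlgebraicGeometry Order

namespace Groth.Agent.Grpsch.FieldStab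

open Groth.Agent.Grpsch.Points Groth.Agent.Grpsch.FieldGrpd Groth.Agent.Grpsch.Restrict
open Groth.Agent.Grpsch.FieldUni

/-- Ring-level statement: `σ τ : k → B` two ring maps, `ε : B → k` a common retraction, `τ` of finite
type. Then for every prime `q ⊆ ker ε`, `σ = τ` modulo `q`. -/
theorem sub_mem_prime {k B : Type u} [Field k] [CommRing B] (σ τ : k →+* B) (ε : B →+* k)
    (hσ : ε.comp σ = RingHom.id k) (hτ : ε.comp τ = RingHom.id k) (hft : τ.FiniteType)
    (q : Ideal B) [q.IsPrime] (hq : q ≤ RingHom.ker ε) (a : k) : σ a - τ a ∈ q := by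
  let π := Ideal.Quotient.mk q
  let _ : Algebra k (B ⧸ q) := (π.comp τ).toAlgebra
  have hfin : Algebra.FiniteType k (B ⧸ q) := by
    have h1 : (π.comp τ).FiniteType := (RingHom.FiniteType.of_surjective π
      Ideal.Quotient.mk_surjective).comp hft
    exact h1
  have h1 : IsAlgebraic k (π (σ a)) := by
    apply SubfieldAlg.isAlgebraic_of_isUnit_pow_sub_one
    intro m hm
    have h2 : (a ^ m - 1) ≠ 0 := by
      intro h
      apply hm
      rw [← map_pow, ← map_pow, sub_eq_zero.mp h, map_one, map_one]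
    have h3 := ((IsUnit.mk0 _ h2).map σ).map π
    rwa [map_sub, map_sub, map_pow, map_pow, map_one, map_one] at h3
  have h2 : IsAlgebraic k (π (σ a - τ a)) := by
    rw [map_sub]
    exact h1.sub (isAlgebraic_algebraMap a)
  have h3 : ¬ IsUnit (π (σ a - τ a)) := by
    intro h
    have h4 := h.map (Ideal.Quotient.lift q ε fun x hx => hq hx)
    rw [Ideal.Quotient.lift_mk, map_sub] at h4
    have h5 : ε (σ a) = a := RingHom.congr_fun hσ a
    have h6 : ε (τ a) = a := RingHom.congr_fun hτ a
    rw [h5, h6, sub_self] at h4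
    exact not_isUnit_zero h4
  have h4 := SubfieldAlg.eq_zero_of_isAlgebraic h2 h3
  exact Ideal.Quotient.eq_zero_iff_mem.mp h4

variable {S : Scheme.{u}} (G : Grpd.GroupoidScheme S)

section
variable (k : Type u) [Field k] (eU : G.U ≅ Spec (CommRingCat.of k)) [LocallyOfFiniteType G.s]
  [LocallyOfFiniteType G.t]

include eU

omit [LocallyOfFiniteType G.s] in
/-- Every generization of the identity lies in the stabilizer. -/
theorem mem_range_stabToR (u : G.U) (z : G.R) (hz : z ⤳ G.e u) :
    z ∈ Set.range (stabToR G) := by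
  have hsub : Subsingleton G.U := eU.hom.homeomorph.injective.subsingleton
  obtain ⟨_, ⟨V, hV, rfl⟩, heV, -⟩ := G.R.isBasis_affineOpens.exists_subset_of_mem_open
    (Set.mem_univ (G.e u)) isOpen_univ
  replace hV : IsAffineOpen V := hV
  have hzV : z ∈ V := hz.mem_open V.isOpen heV
  obtain ⟨φs, hφs⟩ := Spec.map_surjective (hV.fromSpec ≫ G.s ≫ eU.hom)
  obtain ⟨φt, hφt⟩ := Spec.map_surjective (hV.fromSpec ≫ G.t ≫ eU.hom)
  let ε' : Spec (CommRingCat.of k) ⟶ Spec Γ(G.R, V) :=
    IsOpenImmersion.lift hV.fromSpec (eU.inv ≫ G.e) (by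
      rw [hV.range_fromSpec]
      rintro _ ⟨p, rfl⟩
      rw [Scheme.Hom.comp_apply, Subsingleton.elim (eU.inv p) u]
      exact heV)
  have hε' : ε' ≫ hV.fromSpec = eU.inv ≫ G.e := IsOpenImmersion.lift_fac _ _ _
  obtain ⟨ε, hε⟩ := Spec.map_surjective ε'
  have hs : φs ≫ ε = 𝟙 _ := by
    apply Spec.map_injective
    rw [Spec.map_comp, hε, hφs, reassoc_of% hε', ← Category.assoc G.e, G.e_s, Category.id_comp,
      Iso.inv_hom_id, Spec.map_id]
  have ht : φt ≫ ε = 𝟙 _ := by
    apply Spec.map_injective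
    rw [Spec.map_comp, hε, hφt, reassoc_of% hε', ← Category.assoc G.e, G.e_t, Category.id_comp,
      Iso.inv_hom_id, Spec.map_id]
  have hft : φt.hom.FiniteType := by
    have h1 : LocallyOfFiniteType (Spec.map φt) := by rw [hφt]; infer_instance
    exact (HasRingHomProperty.Spec_iff (P := @LocallyOfFiniteType)).mp h1
  obtain ⟨Q, hQ⟩ : z ∈ Set.range hV.fromSpec := by rw [hV.range_fromSpec]; exact hzV
  let p₀ : Spec (CommRingCat.of k) := IsLocalRing.closedPoint k
  have hP : hV.fromSpec (Spec.map ε p₀) = G.e u := by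
    rw [hε, ← Scheme.Hom.comp_apply, hε', Scheme.Hom.comp_apply, Subsingleton.elim (eU.inv p₀) u]
  have hQP : Q ⤳ Spec.map ε p₀ := by
    rw [← hV.fromSpec.isOpenEmbedding.isInducing.specializes_iff, hQ, hP]
    exact hz
  have hle : Q.asIdeal ≤ RingHom.ker ε.hom := by
    have h1 : Q.asIdeal ≤ (Spec.map ε p₀).asIdeal :=
      (PrimeSpectrum.le_iff_specializes Q (Spec.map ε p₀)).mpr hQP
    refine h1.trans ?_
    intro x hx
    have h2 : ε.hom x ∈ p₀.asIdeal := hx
    have h3 : p₀.asIdeal = ⊥ := IsLocalRing.maximalIdeal_eq_bot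
    rw [h3] at h2
    exact h2
  have key : ∀ a : k, φs.hom a - φt.hom a ∈ Q.asIdeal := by
    intro a
    refine sub_mem_prime φs.hom φt.hom ε.hom ?_ ?_ hft Q.asIdeal hle a
    · exact congrArg CommRingCat.Hom.hom hs
    · exact congrArg CommRingCat.Hom.hom ht
  let ρ : Γ(G.R, V) ⟶ CommRingCat.of (Γ(G.R, V) ⧸ Q.asIdeal) :=
    CommRingCat.ofHom (Ideal.Quotient.mk Q.asIdeal)
  have hst : φs ≫ ρ = φt ≫ ρ := by
    ext a
    have := Ideal.Quotient.eq_zero_iff_mem.mpr (key a)
    rw [map_sub, sub_eq_zero] at this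
    exact this
  have hst' : (Spec.map ρ ≫ hV.fromSpec) ≫ G.s = (Spec.map ρ ≫ hV.fromSpec) ≫ G.t := by
    rw [← cancel_mono eU.hom, Category.assoc, Category.assoc, Category.assoc, Category.assoc,
      ← hφs, ← hφt, ← Spec.map_comp, ← Spec.map_comp, hst]
  let lam := stabLift G (Spec.map ρ ≫ hV.fromSpec) _ rfl hst'
  have hlam : lam ≫ stabToR G = Spec.map ρ ≫ hV.fromSpec := stabLift_stabToR G _ _ rfl hst'
  have hQ' : Q ∈ Set.range (Spec.map ρ) := by
    have h1 : Set.range (Spec.map ρ) = PrimeSpectrum.zeroLocus (RingHom.ker ρ.hom : Set _) :=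
      range_comap_of_surjective _ ρ.hom Ideal.Quotient.mk_surjective
    rw [h1]
    intro x hx
    exact Ideal.Quotient.eq_zero_iff_mem.mp hx
  obtain ⟨w, hw⟩ := hQ'
  refine ⟨lam w, ?_⟩
  rw [← Scheme.Hom.comp_apply, hlam, Scheme.Hom.comp_apply, hw, hQ]

omit [LocallyOfFiniteType G.s] [LocallyOfFiniteType G.t] eU in
lemma isEmbedding_stabToR : Topology.IsEmbedding (stabToR G) := by
  have h1 : IsImmersion G.diag := by rw [diag_eq_diagonal]; infer_instance
  have h2 : IsImmersion (stabToR G) :=
    MorphismProperty.of_isPullback (P := @IsImmersion) (isPullback_stab G).flip h1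
  exact (stabToR G).isEmbedding

/-- The codimension of the identity in the stabilizer and in `R` are the same. -/
theorem coheight_eStab (u : G.U) : coheight (G.eStab u) = coheight (G.e u) := by
  have hemb := isEmbedding_stabToR G
  have he : stabToR G (G.eStab u) = G.e u := by
    rw [← Scheme.Hom.comp_apply, eStab_stabToR]
  let f : Set.Ici (G.eStab u) → Set.Ici (G.e u) := fun x => ⟨stabToR G x.1, by
    have h1 : x.1 ⤳ G.eStab u := x.2
    have h2 := h1.map (stabToR G).continuous
    rw [he] at h2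
    exact h2⟩
  have hf : Function.Bijective f := by
    constructor
    · intro x y hxy
      exact Subtype.ext (hemb.injective (congrArg Subtype.val hxy))
    · rintro ⟨z, hz⟩
      obtain ⟨w, rfl⟩ := mem_range_stabToR G k eU u z hz
      refine ⟨⟨w, ?_⟩, rfl⟩
      have h1 : stabToR G w ⤳ G.e u := hz
      rw [← he, hemb.isInducing.specializes_iff] at h1
      exact h1
  let e : Set.Ici (G.eStab u) ≃o Set.Ici (G.e u) :=
    { Equiv.ofBijective f hf with
      map_rel_iff' := by
        intro a b
        change stabToR G b.1 ⤳ stabToR G a.1 ↔ b.1 ⤳ a.1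
        exact hemb.isInducing.specializes_iff }
  have h1 := Order.coheight_eq_krullDim_Ici (G.eStab u)
  have h2 := Order.coheight_eq_krullDim_Ici (G.e u)
  have h3 := Order.krullDim_eq_of_orderIso e
  rw [h3, ← h2] at h1
  exact_mod_cast h1

/-- Stacks 04MQ. -/
theorem topologicalKrullDim_eq (u : G.U) :
    topologicalKrullDim G.R = topologicalKrullDim G.stabilizer := by
  apply le_antisymm
  · rw [FieldDim.topologicalKrullDim_eq_coheight_e G k eU u, ← coheight_eStab G k eU u]
    have h1 : (coheight (G.eStab u) : WithBot ℕ∞) ≤ krullDim G.stabilizer :=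
      Order.coheight_le_krullDim _
    have h2 := Sga3C.DimTop.topologicalKrullDim_eq_krullDim (X := G.stabilizer)
    exact h1.trans h2.symm.le
  · exact (isEmbedding_stabToR G).isInducing.topologicalKrullDim_le

end

end Groth.Agent.Grpsch.FieldStab
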