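import Groth.Agent.Grpsch.Points

/-!
# Restriction of a groupoid scheme

Given a groupoid scheme `G = (U, R, s, t, c)` over `S` and a morphism `g : U' ⟶ U` we construct the
restriction `(U', R', s', t', c')` with `R' = U' ×_{g, U, t} R ×_{s, U, g} U'`
(Stacks, Groupoids, Section 18), with its `T`-point calculus.
-/

set_option autoImplicit false
universe u

open CategoryTheory CategoryTheory.Limits AlgebraicGeometry

namespace Groth.Agent.Grpsch.Restrict

open Groth.Agent.Grpsch.Points

variable {S : Scheme.{u}} (G : Grpd.GroupoidScheme S) {U' : Scheme.{u}} (g : U' ⟶ G.U)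

/-- The scheme of arrows of the restriction: triples `(a, r, b)` with `t r = g a`, `s r = g b`. -/
noncomputable abbrev arrows : Scheme.{u} := pullback (pullback.snd g G.t ≫ G.s) g

/-- target `(a, r, b) ↦ a` -/
noncomputable def tgt : arrows G g ⟶ U' := pullback.fst _ _ ≫ pullback.fst _ _

/-- source `(a, r, b) ↦ b` -/
noncomputable def src : arrows G g ⟶ U' := pullback.snd _ _

/-- the projection `(a, r, b) ↦ r` -/
noncomputable def toR : arrows G g ⟶ G.R := pullback.fst _ _ ≫ pullback.snd _ _

@[reassoc (attr := simp)]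
lemma toR_t : toR G g ≫ G.t = tgt G g ≫ g := by
  rw [toR, tgt, Category.assoc, Category.assoc, pullback.condition]

@[reassoc (attr := simp)]
lemma toR_s : toR G g ≫ G.s = src G g ≫ g := by
  rw [toR, src, Category.assoc, pullback.condition]

variable {T T' : Scheme.{u}}

/-- The `T`-point `(a, r, b)` of the restriction. -/
noncomputable def mk (a : T ⟶ U') (r : T ⟶ G.R) (b : T ⟶ U') (ha : r ≫ G.t = a ≫ g)
    (hb : r ≫ G.s = b ≫ g) : T ⟶ arrows G g :=
  pullback.lift (pullback.lift a r ha.symm) b (by rw [pullback.lift_snd_assoc, hb])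

section
variable (a : T ⟶ U') (r : T ⟶ G.R) (b : T ⟶ U') (ha : r ≫ G.t = a ≫ g) (hb : r ≫ G.s = b ≫ g)

@[reassoc (attr := simp)]
lemma mk_tgt : mk G g a r b ha hb ≫ tgt G g = a := by
  rw [mk, tgt, pullback.lift_fst_assoc, pullback.lift_fst]

@[reassoc (attr := simp)]
lemma mk_toR : mk G g a r b ha hb ≫ toR G g = r := by
  rw [mk, toR, pullback.lift_fst_assoc, pullback.lift_snd]

@[reassoc (attr := simp)]
lemma mk_src : mk G g a r b ha hb ≫ src G g = b := by
  rw [mk, src, pullback.lift_snd]
end

variable {G g} in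
lemma arrows_hom_ext {α β : T ⟶ arrows G g} (h1 : α ≫ tgt G g = β ≫ tgt G g)
    (h2 : α ≫ toR G g = β ≫ toR G g) (h3 : α ≫ src G g = β ≫ src G g) : α = β := by
  refine pullback.hom_ext (pullback.hom_ext ?_ ?_) h3
  · simpa [tgt] using h1
  · simpa [toR] using h2

lemma mul_aux (α β : T ⟶ arrows G g) (h : α ≫ src G g = β ≫ tgt G g) :
    (α ≫ toR G g) ≫ G.s = (β ≫ toR G g) ≫ G.t := by
  rw [Category.assoc, Category.assoc, toR_s, toR_t, reassoc_of% h]

/-- composition in the restriction -/
noncomputable def comp (α β : T ⟶ arrows G g) (h : α ≫ src G g = β ≫ tgt G g) :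
    T ⟶ arrows G g :=
  mk G g (α ≫ tgt G g) (mul G (α ≫ toR G g) (β ≫ toR G g) (mul_aux G g α β h)) (β ≫ src G g)
    (by rw [mul_t, Category.assoc, Category.assoc, toR_t])
    (by rw [mul_s, Category.assoc, Category.assoc, toR_s])

@[reassoc (attr := simp)]
lemma comp_tgt (α β : T ⟶ arrows G g) (h : α ≫ src G g = β ≫ tgt G g) :
    comp G g α β h ≫ tgt G g = α ≫ tgt G g := mk_tgt ..

@[reassoc (attr := simp)]
lemma comp_src (α β : T ⟶ arrows G g) (h : α ≫ src G g = β ≫ tgt G g) :
    comp G g α β h ≫ src G g = β ≫ src G g := mk_src ..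

@[reassoc (attr := simp)]
lemma comp_toR (α β : T ⟶ arrows G g) (h : α ≫ src G g = β ≫ tgt G g) :
    comp G g α β h ≫ toR G g =
      mul G (α ≫ toR G g) (β ≫ toR G g) (mul_aux G g α β h) := mk_toR ..

/-- The composition morphism. -/
noncomputable def cR : pullback (src G g) (tgt G g) ⟶ arrows G g :=
  comp G g (pullback.fst _ _) (pullback.snd _ _) pullback.condition

lemma lift_cR (α β : T ⟶ arrows G g) (h : α ≫ src G g = β ≫ tgt G g) :
    pullback.lift α β h ≫ cR G g = comp G g α β h := by
  apply arrows_hom_ext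
  · simp only [cR, Category.assoc, comp_tgt, pullback.lift_fst_assoc]
  · simp only [cR, Category.assoc, comp_toR, comp_mul]
    apply mul_congr
    · rw [pullback.lift_fst_assoc]
    · rw [pullback.lift_snd_assoc]
  · simp only [cR, Category.assoc, comp_src, pullback.lift_snd_assoc]

/-- The restriction of the groupoid scheme `G` along `g : U' ⟶ U`. -/
noncomputable def restrict : Grpd.GroupoidScheme S where
  U := U'
  R := arrows G g
  pU := g ≫ G.pU
  pR := toR G g ≫ G.pR
  s := src G g
  t := tgt G g
  e := mk G g (𝟙 _) (g ≫ G.e) (𝟙 _) (by simp) (by simp)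
  i := mk G g (src G g) (toR G g ≫ G.i) (tgt G g) (by simp) (by simp)
  c := cR G g
  s_over := by rw [← G.s_over, ← Category.assoc, ← Category.assoc, toR_s]
  t_over := by rw [← G.t_over, ← Category.assoc, ← Category.assoc, toR_t]
  comp_s α β h := by rw [lift_cR, comp_src]
  comp_t α β h := by rw [lift_cR, comp_tgt]
  assoc α β γ h₁ h₂ := by
    simp only [lift_cR]
    apply arrows_hom_ext
    · simp
    · simp only [comp_toR]
      refine Eq.trans ?_ ((mul_assoc G (α ≫ toR G g) (β ≫ toR G g) (γ ≫ toR G g)
        (mul_aux G g _ _ h₁) (mul_aux G g _ _ h₂)).trans ?_)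
      · exact mul_congr _ _ rfl rfl
      · exact mul_congr _ _ rfl rfl
    · simp
  e_s := by simp
  e_t := by simp
  comp_e α := by
    rw [lift_cR]
    apply arrows_hom_ext
    · simp
    · rw [comp_toR]
      refine Eq.trans (mul_congr G _ rfl ?_) (mul_e G (α ≫ toR G g) (α ≫ src G g ≫ g) (by simp))
      simp
    · simp
  e_comp α := by
    rw [lift_cR]
    apply arrows_hom_ext
    · simp
    · rw [comp_toR]
      refine Eq.trans (mul_congr G _ ?_ rfl) (e_mul G (α ≫ toR G g) (α ≫ tgt G g ≫ g) (by simp))
      simp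
    · simp
  i_s := by simp
  i_t := by simp
  comp_i α := by
    rw [lift_cR]
    apply arrows_hom_ext
    · simp
    · rw [comp_toR]
      refine Eq.trans (mul_congr G _ rfl ?_) ((mul_inv G (α ≫ toR G g) (by simp)).trans ?_)
      · simp
      · simp
    · simp
  i_comp α := by
    rw [lift_cR]
    apply arrows_hom_ext
    · simp
    · rw [comp_toR]
      refine Eq.trans (mul_congr G _ ?_ rfl) ((inv_mul G (α ≫ toR G g) (by simp)).trans ?_)
      · simp
      · simp
    · simp

/-- The canonical morphism from the restriction to the groupoid. -/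
noncomputable def hom : Grpd.GroupoidScheme.Hom (restrict G g) G where
  fU := g
  fR := toR G g
  fU_over := rfl
  comm_s := toR_s G g
  comm_t := toR_t G g
  comm_c α β h := by
    have h' : α ≫ src G g = β ≫ tgt G g := h
    have := comp_toR G g α β h'
    rw [← lift_cR G g α β h'] at this
    exact this

end Groth.Agent.Grpsch.Restrict
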