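import Groth.Agent.Grpsch.UniAt
import Groth.Agent.Grpsch.Restrict
import Groth.Agent.Grpsch.FieldGrpd
import Groth.Agent.Fdesc.GeomAlgClosed
import Mathlib.FieldTheory.IsAlgClosed.AlgebraicClosure

/-!
# Groupoids on a field: every point has a unique maximal generization (Stacks 04LT)
-/

set_option autoImplicit false
universe u

open CategoryTheory CategoryTheory.Limits AlgebraicGeometry

namespace Groth.Agent.Grpsch.FieldUni

open Groth.Agent.Grpsch.Points Groth.Agent.Grpsch.FieldGrpd Groth.Agent.Grpsch.Restrict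
open Groth.Agent.Grpsch.UniAt (UniAt)

variable {S : Scheme.{u}} (G : Grpd.GroupoidScheme S)

section shear
variable {U' : Scheme.{u}} (x : U' ⟶ G.R)

/-- `(b, ρ) ↦ x(b) * ρ` -/
noncomputable def shear : pullback (x ≫ G.s) G.t ⟶ G.R :=
  mul G (pullback.fst (x ≫ G.s) G.t ≫ x) (pullback.snd _ _)
    (by rw [Category.assoc, pullback.condition])

lemma isPullback_shear_aux : IsPullback
    (pullback.lift (pullback.fst (x ≫ G.s) G.t ≫ x) (pullback.snd _ _)
      (by rw [Category.assoc, pullback.condition]))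
    (pullback.fst (x ≫ G.s) G.t) (pullback.fst G.s G.t) x := by
  refine IsPullback.of_right ?_ (by rw [pullback.lift_fst])
    (IsPullback.of_hasPullback G.s G.t).flip
  rw [pullback.lift_snd]
  exact (IsPullback.of_hasPullback (x ≫ G.s) G.t).flip

/-- left translation by `x` identifies `U' ×_{s x, U, t} R` with `U' ×_{t x, U, t} R`. -/
lemma isPullback_shear :
    IsPullback (shear G x) (pullback.fst (x ≫ G.s) G.t) G.t (x ≫ G.t) :=
  (isPullback_shear_aux G x).paste_horiz (isPullback_c_fst G)

/-- `(a, ρ, b) ↦ x(a) * ρ`, from the restriction along `s ∘ x` to `R`. -/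
noncomputable def arrowsShear : arrows G (x ≫ G.s) ⟶ G.R :=
  pullback.fst _ _ ≫ shear G x

lemma arrowsShear_eq : arrowsShear G x = mul G (tgt G (x ≫ G.s) ≫ x) (toR G (x ≫ G.s))
    (by rw [Category.assoc, toR_t]) := by
  rw [arrowsShear, shear, comp_mul]
  apply mul_congr
  · rw [tgt, Category.assoc]
  · rw [toR]

lemma e_arrowsShear : (restrict G (x ≫ G.s)).e ≫ arrowsShear G x = x := by
  rw [arrowsShear_eq]
  refine (comp_mul G _ _ _ _).trans ?_
  refine Eq.trans (mul_congr G _ ?_ ?_) (mul_e G x (x ≫ G.s) (by simp))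
  · exact (mk_tgt_assoc G (x ≫ G.s) (𝟙 _) ((x ≫ G.s) ≫ G.e) (𝟙 _) (by simp) (by simp) x).trans
      (Category.id_comp _)
  · exact mk_toR G (x ≫ G.s) (𝟙 _) ((x ≫ G.s) ≫ G.e) (𝟙 _) (by simp) (by simp)

/-- If `P` is stable under composition and base change, and holds for `s ∘ x` and `t ∘ x`, then it
holds for `(a, ρ, b) ↦ x(a) * ρ`. -/
lemma arrowsShear_prop (P : MorphismProperty Scheme.{u}) [P.IsStableUnderBaseChange]
    [P.IsStableUnderComposition] (hs : P (x ≫ G.s)) (ht : P (x ≫ G.t)) : P (arrowsShear G x) := by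
  refine P.comp_mem _ _ ?_ ?_
  · exact P.of_isPullback (IsPullback.of_hasPullback (pullback.snd (x ≫ G.s) G.t ≫ G.s) (x ≫ G.s)).flip hs
  · exact P.of_isPullback (isPullback_shear G x).flip ht

end shear

/-- A groupoid on the spectrum of an algebraically closed field: `e` has a unique maximal
generization. -/
theorem uniAt_e (K : Type u) [Field K] [IsAlgClosed K]
    (eU : G.U ≅ Spec (CommRingCat.of K)) (u : G.U) : UniAt (G.e u) := by
  have hne : Nonempty G.U := ⟨u⟩
  have hint : IsIntegral G.U := isIntegral_of_isOpenImmersion eU.hom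
  have hsub : Subsingleton G.U := eU.hom.homeomorph.injective.subsingleton
  intro η₁ η₂ h1 h2 hm1 hm2
  let x₁ := G.R.fromSpecResidueField η₁
  let x₂ := G.R.fromSpecResidueField η₂
  have hirr : IrreducibleSpace ↥(pullback (x₁ ≫ G.s) (x₂ ≫ G.t)) := by
    have hg : GeometricallyIrreducible (x₁ ≫ G.s) := by
      have h3 : GeometricallyIrreducible ((x₁ ≫ G.s) ≫ eU.hom) :=
        Fdesc.GeomAlgClosed.geometricallyIrreducible_of_irreducibleSpace _
      exact (MorphismProperty.cancel_right_of_respectsIso @GeometricallyIrreducible _ eU.hom).mp h3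
    infer_instance
  let m : pullback (x₁ ≫ G.s) (x₂ ≫ G.t) ⟶ pullback G.s G.t :=
    pullback.map _ _ _ _ x₁ x₂ (𝟙 _) (by simp) (by simp)
  let ξ := genericPoint ↥(pullback (x₁ ≫ G.s) (x₂ ≫ G.t))
  have hrange : Set.range m = pullback.fst G.s G.t ⁻¹' {η₁} ∩ pullback.snd G.s G.t ⁻¹' {η₂} := by
    rw [Scheme.Pullback.range_map, Scheme.range_fromSpecResidueField,
      Scheme.range_fromSpecResidueField]
  have hgen : ∀ q : ↥(pullback G.s G.t), pullback.fst G.s G.t q ∈ closure {η₁} →
      pullback.snd G.s G.t q ∈ closure {η₂} → m ξ ⤳ q := by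
    intro q hq1 hq2
    have hq := mem_closure_of_isPullback (IsPullback.of_hasPullback G.s G.t) hq1 hq2
    rw [specializes_iff_mem_closure]
    refine closure_minimal ?_ isClosed_closure hq
    rw [← hrange]
    rintro _ ⟨p, rfl⟩
    rw [← specializes_iff_mem_closure]
    exact (genericPoint_specializes p).map m.continuous
  have key1 : G.c (m ξ) = η₁ := by
    apply hm1
    obtain ⟨q, h3, h4, h5⟩ := exists_comp_e G η₁
    have h6 : G.c (m ξ) ⤳ G.c q := by
     refine (hgen q ?_ ?_).map G.c.continuous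
     · rw [h3]; exact subset_closure rfl
     · rw [h4, Subsingleton.elim (G.s η₁) u]
       exact specializes_iff_mem_closure.mp h2
    rwa [h5] at h6
  have key2 : G.c (m ξ) = η₂ := by
    apply hm2
    obtain ⟨q, h3, h4, h5⟩ : ∃ q : ↥(pullback G.s G.t), pullback.fst G.s G.t q = G.e (G.t η₂) ∧
      pullback.snd G.s G.t q = η₂ ∧ G.c q = η₂ := by
      refine ⟨pullback.lift (𝟙 _ ≫ G.t ≫ G.e) (𝟙 _) (by simp) η₂, ?_, ?_, ?_⟩
      · rw [← Scheme.Hom.comp_apply, pullback.lift_fst]; simp
      · rw [← Scheme.Hom.comp_apply, pullback.lift_snd]; rfl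
      · have := G.e_comp (𝟙 G.R)
        rw [← Scheme.Hom.comp_apply, this]
        rfl
    have h6 : G.c (m ξ) ⤳ G.c q := by
      refine (hgen q ?_ ?_).map G.c.continuous
      · rw [h3, Subsingleton.elim (G.t η₂) u]
        exact specializes_iff_mem_closure.mp h1
      · rw [h4]; exact subset_closure rfl
    rwa [h5] at h6
  rw [← key1, key2]

/-- Stacks 04LT: on a groupoid over a field every point of `R` has a unique maximal
generization. -/
theorem uniAt (k : Type u) [Field k] (eU : G.U ≅ Spec (CommRingCat.of k)) (r : G.R) :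
    UniAt r := by
  let K := AlgebraicClosure (G.R.residueField r)
  let x : Spec (CommRingCat.of K) ⟶ G.R :=
    Spec.map (CommRingCat.ofHom (algebraMap (G.R.residueField r) K)) ≫ G.R.fromSpecResidueField r
  have hflat : ∀ f : Spec (CommRingCat.of K) ⟶ G.U, Flat f := by
    intro f
    have h1 : Flat (f ≫ eU.hom) := by
      obtain ⟨φ, hφ⟩ := Spec.map_surjective (f ≫ eU.hom)
      rw [← hφ, HasRingHomProperty.Spec_iff (P := @Flat)]
      letI := φ.hom.toAlgebra
      change Module.Flat k K
      infer_instance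
    exact (MorphismProperty.cancel_right_of_respectsIso @Flat _ eU.hom).mp h1
  have h1 : Flat (arrowsShear G x) := arrowsShear_prop G x @Flat (hflat _) (hflat _)
  have h2 := uniAt_e (restrict G (x ≫ G.s)) K (Iso.refl _) (IsLocalRing.closedPoint K)
  have h3 := h2.of_flat (arrowsShear G x)
  have h4 : arrowsShear G x ((restrict G (x ≫ G.s)).e (IsLocalRing.closedPoint K)) = r := by
    have h5 : arrowsShear G x ((restrict G (x ≫ G.s)).e (IsLocalRing.closedPoint K)) =
      ((restrict G (x ≫ G.s)).e ≫ arrowsShear G x) (IsLocalRing.closedPoint K) := rfl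
    rw [h5, e_arrowsShear]
    exact Scheme.fromSpecResidueField_apply r _
  rwa [h4] at h3

end Groth.Agent.Grpsch.FieldUni
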