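import Mathlib.AlgebraicGeometry.Morphisms.FlatRank
import Mathlib.AlgebraicGeometry.FunctionField

/-!
# The rank of a finite flat morphism of integral schemes is the degree of function fields
-/

set_option autoImplicit false

open CategoryTheory CategoryTheory.Limits AlgebraicGeometry

namespace Groth.Agent.Grpsch.FinrankGen

universe u

/-- the stalk at (a point equal to) the generic point is the fraction field of sections over
an affine open. -/
lemma isFractionRing_stalk {X : Scheme.{u}} [IsIntegral X] {U : X.Opens} (hU : IsAffineOpen U)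
    (x : X) (hx : x ∈ U) (hgen : x = genericPoint X) :
    letI := X.presheaf.algebra_section_stalk (U := U) ⟨x, hx⟩
    IsFractionRing Γ(X, U) (X.presheaf.stalk x) := by
  subst hgen
  have : Nonempty U := ⟨⟨_, hx⟩⟩
  exact functionField_isFractionRing_of_isAffineOpen X U hU

theorem finrank_eq_stalk {X Y : Scheme.{u}} [IsIntegral X] [IsIntegral Y] (f : X ⟶ Y)
    [IsFinite f] [Flat f] (hgen : f (genericPoint X) = genericPoint Y) (y : Y) :
    letI := (f.stalkMap (genericPoint X)).hom.toAlgebra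
    f.finrank y = Module.finrank (Y.presheaf.stalk (f (genericPoint X)))
      (X.presheaf.stalk (genericPoint X)) := by
  obtain ⟨V, hV, hyV, -⟩ := exists_isAffineOpen_mem_and_subset (x := y) (U := ⊤) trivial
  have hU : IsAffineOpen (f ⁻¹ᵁ V) := hV.preimage f
  have hVne : Nonempty V := ⟨⟨y, hyV⟩⟩
  have hgV : f (genericPoint X) ∈ V := by
    rw [hgen]
    exact ((genericPoint_spec Y).mem_open_set_iff V.isOpen).mpr (by simpa using hVne)
  have hgU : genericPoint X ∈ f ⁻¹ᵁ V := hgV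
  have hUne : Nonempty (f ⁻¹ᵁ V : X.Opens) := ⟨⟨_, hgU⟩⟩
  let := (f.stalkMap (genericPoint X)).hom.toAlgebra
  let := (f.app V).hom.toAlgebra
  let : Algebra Γ(Y, V) (Y.presheaf.stalk (f (genericPoint X))) :=
    Y.presheaf.algebra_section_stalk (U := V) ⟨_, hgV⟩
  let : Algebra Γ(X, f ⁻¹ᵁ V) (X.presheaf.stalk (genericPoint X)) :=
    X.presheaf.algebra_section_stalk (U := f ⁻¹ᵁ V) ⟨_, hgU⟩
  let : Algebra Γ(Y, V) (X.presheaf.stalk (genericPoint X)) :=
    ((algebraMap Γ(X, f ⁻¹ᵁ V) (X.presheaf.stalk (genericPoint X))).comp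
      (algebraMap Γ(Y, V) Γ(X, f ⁻¹ᵁ V))).toAlgebra
  have : IsScalarTower Γ(Y, V) Γ(X, f ⁻¹ᵁ V) (X.presheaf.stalk (genericPoint X)) :=
    .of_algebraMap_eq' rfl
  have : IsScalarTower Γ(Y, V) (Y.presheaf.stalk (f (genericPoint X)))
      (X.presheaf.stalk (genericPoint X)) := by
    refine .of_algebraMap_eq' ?_
    have h := f.germ_stalkMap V (genericPoint X) hgV
    exact congr(($h).hom).symm
  have h1 : IsFractionRing Γ(Y, V) (Y.presheaf.stalk (f (genericPoint X))) :=
    isFractionRing_stalk hV _ hgV hgen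
  have h2 : IsFractionRing Γ(X, f ⁻¹ᵁ V) (X.presheaf.stalk (genericPoint X)) :=
    isFractionRing_stalk hU _ hgU rfl
  have hfin : (f.app V).hom.Finite := f.finite_app V hV
  have hflat : (f.app V).hom.Flat := by
    have := f.flat_appLE hV hU le_rfl
    rwa [Scheme.Hom.appLE_eq_app] at this
  have : Module.Finite Γ(Y, V) Γ(X, f ⁻¹ᵁ V) := hfin
  have : Module.Flat Γ(Y, V) Γ(X, f ⁻¹ᵁ V) := hflat
  rw [IsFractionRing.finrank_eq Γ(Y, V) (Y.presheaf.stalk (f (genericPoint X)))
    Γ(X, f ⁻¹ᵁ V) (X.presheaf.stalk (genericPoint X))]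
  obtain ⟨p, rfl⟩ : y ∈ Set.range hV.fromSpec := by
    rw [hV.range_fromSpec]
    exact hyV
  have hpb : IsPullback hU.fromSpec (Spec.map (f.app V)) f hV.fromSpec := by
    refine (IsOpenImmersion.isPullback _ hU.fromSpec hV.fromSpec f ?_ ?_).flip
    · have := IsAffineOpen.SpecMap_appLE_fromSpec f hV hU le_rfl
      rw [Scheme.Hom.appLE_eq_app] at this
      exact this.symm
    · rw [hV.opensRange_fromSpec, hU.opensRange_fromSpec]
  rw [← Scheme.Hom.finrank_of_isPullback _ _ _ _ hpb p]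
  refine (Scheme.Hom.finrank_SpecMap_algebraMap Γ(Y, V) Γ(X, f ⁻¹ᵁ V) p).trans ?_
  rw [← Ideal.finrank_fiber_eq_finrank (R := Γ(Y, V)) (M := Γ(X, f ⁻¹ᵁ V)) p.asIdeal,
    Ideal.finrank_fiber_eq_rankAtStalk]
  rfl

end Groth.Agent.Grpsch.FinrankGen
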