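import Mathlib.AlgebraicGeometry.Morphisms.ClosedImmersion
import Mathlib.AlgebraicGeometry.IdealSheaf.Basic
import Mathlib.AlgebraicGeometry.Noetherian
import Mathlib.Algebra.CharP.Lemmas
import Mathlib.RingTheory.Noetherian.Nilpotent
import Groth.Agent.S0353
import Groth.Agent.Sga3B.RedIdComp

/-!
# The absolute Frobenius powers of a scheme of characteristic `p`
-/

set_option autoImplicit false

universe u

open CategoryTheory AlgebraicGeometry TopologicalSpace Opposite

namespace Groth.Agent.Grpsch.FrobSch

/-- The `p ^ n`-power map of a ring in which `p = 0`. -/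
def powHom (R : Type u) [CommRing R] (p : ℕ) (hp : p.Prime) (h : (p : R) = 0) (n : ℕ) : R →+* R where
  toFun a := a ^ p ^ n
  map_one' := one_pow _
  map_zero' := zero_pow (pow_ne_zero _ hp.ne_zero)
  map_mul' a b := mul_pow _ _ _
  map_add' a b := by
    rw [add_pow_prime_pow_eq hp a b n, h, zero_mul, zero_mul, zero_mul, add_zero]

@[simp] lemma powHom_apply (R : Type u) [CommRing R] (p : ℕ) (hp : p.Prime) (h : (p : R) = 0) (n : ℕ)
    (a : R) : powHom R p hp h n a = a ^ p ^ n := rfl

variable (X : Scheme.{u}) (p : ℕ) (hp : p.Prime) (h : ∀ U : X.Opens, ((p : ℕ) : Γ(X, U)) = 0) (n : ℕ)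

/-- The `n`-th power of the absolute Frobenius, as a morphism of presheafed spaces. -/
def frobPre : X.toPresheafedSpace.Hom X.toPresheafedSpace where
  base := 𝟙 _
  c :=
    { app := fun U => CommRingCat.ofHom (powHom (X.presheaf.obj U) p hp (h U.unop) n)
      naturality := by
        intro U V i
        ext a
        change (X.presheaf.map i a) ^ p ^ n = X.presheaf.map i (a ^ p ^ n)
        rw [map_pow] }

lemma frobPre_stalkMap (x : X) (a : X.presheaf.stalk x) :
    ((frobPre X p hp h n).stalkMap x).hom a = (a : X.presheaf.stalk x) ^ p ^ n := by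
  obtain ⟨U, hx, s, rfl⟩ := X.presheaf.exists_germ_eq (x := x) a
  have h1 := PresheafedSpace.stalkMap_germ_apply (frobPre X p hp h n) U x hx s
  refine h1.trans ?_
  change X.presheaf.germ U x hx (s ^ p ^ n) = _
  rw [map_pow]

/-- The `n`-th power of the absolute Frobenius. -/
def frob : X ⟶ X where
  toHom := frobPre X p hp h n
  prop x := by
    constructor
    intro a ha
    have h1 := frobPre_stalkMap X p hp h n x a
    rw [h1] at ha
    exact (isUnit_pow_iff (pow_ne_zero n hp.ne_zero)).mp ha

instance isAffineHom_frob : IsAffineHom (frob X p hp h n) := ⟨fun _ hU => hU⟩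

lemma frob_app_apply (U : X.Opens) (a : Γ(X, U)) :
    ((frob X p hp h n).app U).hom a = (a ^ p ^ n : Γ(X, U)) := rfl

lemma ker_le_nilradical {X D : Scheme.{u}} (d : D ⟶ X) [IsClosedImmersion d] [Surjective d] :
    d.ker ≤ X.nilradical := by
  rw [← Scheme.IdealSheafData.vanishingIdeal_top,
    ← Scheme.IdealSheafData.le_support_iff_le_vanishingIdeal]
  intro x _
  exact d.range_subset_ker_support (d.surjective.range_eq ▸ trivial)

/-- If `d : D ⟶ X` is a surjective closed immersion into a Noetherian scheme of characteristic `p`,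
then a power of the absolute Frobenius of `X` gives an affine morphism `X ⟶ D`. -/
theorem exists_affine_lift {X D : Scheme.{u}} [IsLocallyNoetherian X] [CompactSpace X]
    (d : D ⟶ X) [IsClosedImmersion d] [Surjective d] (p : ℕ) (hp : p.Prime)
    (h : ∀ U : X.Opens, ((p : ℕ) : Γ(X, U)) = 0) :
    ∃ φ : X ⟶ D, IsAffineHom φ := by
  have hk := ker_le_nilradical d
  let 𝒰 := X.affineCover.finiteSubcover
  let U : 𝒰.I₀ → X.affineOpens := fun i => ⟨(𝒰.f i).opensRange, isAffineOpen_opensRange _⟩
  have hN : ∀ i, ∃ N : ℕ, ∀ a ∈ d.ker.ideal (U i), a ^ N = 0 := by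
    intro i
    have h1 : IsNoetherianRing Γ(X, (U i).1) := IsLocallyNoetherian.component_noetherian (U i)
    obtain ⟨N, hN⟩ := IsNoetherianRing.isNilpotent_nilradical Γ(X, (U i).1)
    refine ⟨N, fun a ha => ?_⟩
    have h2 : a ∈ nilradical Γ(X, (U i).1) := hk (U i) ha
    have h3 : a ^ N ∈ nilradical Γ(X, (U i).1) ^ N := Ideal.pow_mem_pow h2 N
    rw [hN] at h3
    simpa using h3
  choose N hN using hN
  have : Fintype 𝒰.I₀ := Fintype.ofFinite _
  let n : ℕ := Finset.univ.sup N
  have hle : d.ker ≤ (frob X p hp h n).ker := by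
    refine Scheme.IdealSheafData.le_of_iSup_eq_top U 𝒰.iSup_opensRange fun i a ha => ?_
    rw [Scheme.Hom.ker_apply, RingHom.mem_ker, frob_app_apply]
    have h1 : N i ≤ p ^ n := (Finset.le_sup (Finset.mem_univ i)).trans (Nat.lt_pow_self hp.one_lt).le
    exact pow_eq_zero_of_le h1 (hN i a ha)
  refine ⟨IsClosedImmersion.lift d (frob X p hp h n) hle, ?_⟩
  have h2 : IsAffineHom (IsClosedImmersion.lift d (frob X p hp h n) hle ≫ d) := by
    rw [IsClosedImmersion.lift_fac]; infer_instance
  exact MorphismProperty.of_postcomp (W := @IsAffineHom) (W' := @IsSeparated) _ d inferInstance h2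

lemma natCast_eq_zero (K : Type u) [Field K] {X : Scheme.{u}} (f : X ⟶ Spec (CommRingCat.of K))
    (p : ℕ) [CharP K p] (U : X.Opens) : ((p : ℕ) : Γ(X, U)) = 0 := by
  let ρ : K →+* Γ(X, U) :=
    ((X.presheaf.map (homOfLE (le_top : U ≤ ⊤)).op).hom.comp f.appTop.hom).comp
      (Scheme.ΓSpecIso (CommRingCat.of K)).inv.hom
  rw [← map_natCast ρ p, CharP.cast_eq_zero, map_zero]

/-- A group scheme of finite type over an algebraically closed field has an affine morphism (not
over `K`) to a smooth one. -/
theorem exists_affine_to_smooth (K : Type u) [Field K] [IsAlgClosed K]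
    (G : Over (Spec (CommRingCat.of K))) [GrpObj G] [LocallyOfFiniteType G.hom]
    [QuasiCompact G.hom] :
    ∃ (H : Over (Spec (CommRingCat.of K))) (_ : GrpObj H) (_ : Smooth H.hom)
      (_ : QuasiCompact H.hom) (φ : G.left ⟶ H.left), IsAffineHom φ := by
  obtain ⟨p, hp⟩ := CharP.exists K
  rcases CharP.char_is_prime_or_zero K p with hpr | rfl
  · obtain ⟨D, _, d, -, hd, hs, hr⟩ := Sga3B.RedIdComp.exists_reduced G
    have hl : LocallyOfFiniteType D.hom := by rw [← Over.w d]; infer_instance
    have hq : QuasiCompact D.hom := by rw [← Over.w d]; infer_instance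
    have hn : IsLocallyNoetherian G.left := LocallyOfFiniteType.isLocallyNoetherian G.hom
    have hc : CompactSpace G.left := by
      have := (quasiCompact_iff_compactSpace (f := G.hom)).mp inferInstance
      exact this
    obtain ⟨φ, hφ⟩ := exists_affine_lift d.left p hpr (natCast_eq_zero K G.hom p)
    exact ⟨D, inferInstance, Books.AlgPtsSmooth.smooth_of_isReduced D, hq, φ, hφ⟩
  · have : CharZero K := CharP.charP_to_charZero K
    exact ⟨G, inferInstance, S0353.result K G, inferInstance, 𝟙 _, inferInstance⟩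

end Groth.Agent.Grpsch.FrobSch
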