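import Mathlib.RingTheory.MvPolynomial.Basic
import Mathlib.Algebra.MvPolynomial.NoZeroDivisors
import Mathlib.RingTheory.AlgebraicIndependent.Basic
import Mathlib.FieldTheory.IntermediateField.Adjoin.Basic
import Mathlib.LinearAlgebra.Dimension.Constructions
import Mathlib.LinearAlgebra.FiniteDimensional.Basic
import Mathlib.LinearAlgebra.Basis.SMul

/-!
# Growth of the spaces of sections of powers of a line bundle: the algebra

`F/K` is the function field of a projective variety of dimension `g`, `x i = z_i / z_0` the quotients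
of `g + 1` sections without common zeros of a line bundle `M`, `C i` the ring of functions on the
affine open `z_i ≠ 0`, `V m` the space of sections of `M ^ m` (divided by `z_0 ^ m`). We compare
`dim V m` with `[F : K(x)]` times the dimension of the space of polynomials of degree `≤ m`.
-/

set_option autoImplicit false

open MvPolynomial

namespace Groth.Agent.Grpsch.GrowthAlg

variable {K F : Type*} [Field K] [Field F] [Algebra K F] {g : ℕ}

/-- polynomials of degree `≤ n` in `x_1, …, x_g` -/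
noncomputable def P (x : Fin (g + 1) → F) (n : ℕ) : Submodule K F :=
  (restrictTotalDegree (Fin g) K n).map (aeval (fun j : Fin g => x j.succ)).toLinearMap

/-- number of monomials of degree `≤ n` in `g` variables (as the dimension of a vector space) -/
noncomputable def pdim (K : Type*) [Field K] (g n : ℕ) : ℕ :=
  Module.finrank K (restrictTotalDegree (Fin g) K n)

/-- `K[x_j / x_i]` -/
noncomputable def A (K : Type*) [Field K] [Algebra K F] (x : Fin (g + 1) → F) (i : Fin (g + 1)) :
    Subalgebra K F :=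
  Algebra.adjoin K (Set.range fun j => x j * (x i)⁻¹)

variable (x : Fin (g + 1) → F)

lemma mem_P {n : ℕ} {q : F} : q ∈ P (K := K) x n ↔ ∃ r : MvPolynomial (Fin g) K,
    r.totalDegree ≤ n ∧ aeval (fun j : Fin g => x j.succ) r = q := by
  simp only [P, Submodule.mem_map, mem_restrictTotalDegree]
  rfl

lemma P_mono {m n : ℕ} (h : m ≤ n) : P (K := K) x m ≤ P x n := by
  intro q hq
  rw [mem_P] at hq ⊢
  obtain ⟨r, hr, rfl⟩ := hq
  exact ⟨r, hr.trans h, rfl⟩

lemma mul_mem_P {m n : ℕ} {a b : F} (ha : a ∈ P (K := K) x m) (hb : b ∈ P (K := K) x n) :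
    a * b ∈ P (K := K) x (m + n) := by
  rw [mem_P] at ha hb ⊢
  obtain ⟨r, hr, rfl⟩ := ha
  obtain ⟨s, hs, rfl⟩ := hb
  exact ⟨r * s, (totalDegree_mul _ _).trans (add_le_add hr hs), map_mul _ _ _⟩

lemma algebraMap_mem_P (c : K) (n : ℕ) : algebraMap K F c ∈ P (K := K) x n := by
  rw [mem_P]
  exact ⟨MvPolynomial.C c, by simp, by simp⟩

lemma one_mem_P (n : ℕ) : (1 : F) ∈ P (K := K) x n := by
  simpa using algebraMap_mem_P (K := K) x 1 n

section
variable {x} (hx0 : x 0 = 1) (hx : ∀ i, x i ≠ 0)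
include hx0

lemma x_mem_P (i : Fin (g + 1)) : x i ∈ P (K := K) x 1 := by
  refine Fin.cases ?_ (fun j => ?_) i
  · rw [hx0]; exact one_mem_P x 1
  · rw [mem_P]
    exact ⟨X j, by simp, by simp⟩

lemma x_pow_mem_P (i : Fin (g + 1)) (n : ℕ) : x i ^ n ∈ P (K := K) x n := by
  induction n with
  | zero => rw [pow_zero]; exact one_mem_P x 0
  | succ n ih => rw [pow_succ]; exact mul_mem_P x ih (x_mem_P hx0 i)

omit hx0 in
lemma div_mem_A (i j : Fin (g + 1)) : x j * (x i)⁻¹ ∈ A K x i :=
  Algebra.subset_adjoin ⟨j, rfl⟩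

/-- Claim 1 -/
lemma mem_A_of_mem_P {n : ℕ} {q : F} (hq : q ∈ P (K := K) x n) (i : Fin (g + 1)) :
    q * ((x i)⁻¹) ^ n ∈ A K x i := by
  rw [mem_P] at hq
  obtain ⟨r, hr, rfl⟩ := hq
  have h1 : (x i)⁻¹ ∈ A K x i := by
    have := div_mem_A (K := K) (x := x) i 0
    rwa [hx0, one_mul] at this
  rw [r.as_sum, map_sum, Finset.sum_mul]
  refine Subalgebra.sum_mem _ fun s hs => ?_
  rw [aeval_monomial, mul_assoc]
  refine Subalgebra.mul_mem _ (Subalgebra.algebraMap_mem _ _) ?_
  have hdeg : (s.sum fun _ e => e) ≤ n := (le_totalDegree hs).trans hr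
  obtain ⟨d, hd⟩ := Nat.exists_eq_add_of_le hdeg
  have h2 : (s.prod fun j k => x j.succ ^ k) * ((x i)⁻¹) ^ n =
      (s.prod fun j k => (x j.succ * (x i)⁻¹) ^ k) * ((x i)⁻¹) ^ d := by
    rw [hd, pow_add, ← mul_assoc]
    congr 1
    simp only [Finsupp.prod, Finsupp.sum, mul_pow, Finset.prod_mul_distrib, Finset.prod_pow_eq_pow_sum]
  rw [h2]
  refine Subalgebra.mul_mem _ ?_ (Subalgebra.pow_mem _ h1 _)
  exact Subalgebra.prod_mem _ fun j _ => Subalgebra.pow_mem _ (div_mem_A i j.succ) _

include hx in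
/-- Claim 2 -/
lemma exists_mul_pow_mem_P {i : Fin (g + 1)} {a : F} (ha : a ∈ A K x i) :
    ∃ d : ℕ, a * x i ^ d ∈ P (K := K) x d := by
  induction ha using Algebra.adjoin_induction with
  | mem a ha =>
    obtain ⟨j, rfl⟩ := ha
    refine ⟨1, ?_⟩
    rw [pow_one, mul_assoc, inv_mul_cancel₀ (hx i), mul_one]
    exact x_mem_P hx0 j
  | algebraMap c => exact ⟨0, by simpa using algebraMap_mem_P x c 0⟩
  | add a b _ _ iha ihb =>
    obtain ⟨d, hd⟩ := iha
    obtain ⟨e, he⟩ := ihb
    refine ⟨d + e, ?_⟩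
    have h1 := mul_mem_P x hd (x_pow_mem_P (K := K) hx0 i e)
    have h2 := mul_mem_P x he (x_pow_mem_P (K := K) hx0 i d)
    rw [add_comm e d] at h2
    have h3 := Submodule.add_mem _ h1 h2
    convert h3 using 1
    ring
  | mul a b _ _ iha ihb =>
    obtain ⟨d, hd⟩ := iha
    obtain ⟨e, he⟩ := ihb
    refine ⟨d + e, ?_⟩
    have h1 := mul_mem_P x hd he
    convert h1 using 1
    ring

include hx in
lemma exists_mem_P_of_mem_A_zero {a : F} (ha : a ∈ A K x 0) : ∃ d, a ∈ P (K := K) x d := by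
  obtain ⟨d, hd⟩ := exists_mul_pow_mem_P hx0 hx ha
  rw [hx0, one_pow, mul_one] at hd
  exact ⟨d, hd⟩

include hx in
/-- Claim 3 -/
lemma mem_P_of_forall_mem_A (hind : AlgebraicIndependent K (fun j : Fin g => x j.succ)) {n : ℕ}
    {ψ : F} (hψ : ∀ i, ψ * ((x i)⁻¹) ^ n ∈ A K x i) : ψ ∈ P (K := K) x n := by
  have h0 := hψ 0
  rw [hx0, inv_one, one_pow, mul_one] at h0
  obtain ⟨d, hd⟩ := exists_mem_P_of_mem_A_zero hx0 hx h0
  rw [mem_P] at hd ⊢
  obtain ⟨r, hr, rfl⟩ := hd
  refine ⟨r, ?_, rfl⟩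
  rcases Nat.eq_zero_or_pos g with rfl | hg
  · have : r.totalDegree = 0 := by
      rw [totalDegree_eq_zero_iff]
      intro m _ i
      exact i.elim0
    omega
  by_cases hr0 : r = 0
  · rw [hr0]; simp
  let j : Fin g := ⟨0, hg⟩
  obtain ⟨e, he⟩ := exists_mul_pow_mem_P hx0 hx (hψ j.succ)
  rw [mem_P] at he
  obtain ⟨t, ht, het⟩ := he
  have h1 : aeval (fun j : Fin g => x j.succ) (t * X j ^ n) =
      aeval (fun j : Fin g => x j.succ) (r * X j ^ e) := by
    rw [map_mul, map_mul, map_pow, map_pow, aeval_X, het]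
    have hne := hx j.succ
    have h4 : (x j.succ)⁻¹ ^ n * x j.succ ^ n = 1 := by
      rw [← mul_pow, inv_mul_cancel₀ hne, one_pow]
    linear_combination (aeval (fun j : Fin g => x j.succ) r * x j.succ ^ e) * h4
  have h2 := hind h1
  have ht0 : t ≠ 0 := by
    rintro rfl
    rw [zero_mul] at h2
    exact mul_ne_zero hr0 (pow_ne_zero e (X_ne_zero j)) h2.symm
  have h3 := congrArg totalDegree h2
  rw [totalDegree_mul_of_isDomain ht0 (pow_ne_zero n (X_ne_zero j)),
    totalDegree_mul_of_isDomain hr0 (pow_ne_zero e (X_ne_zero j)), totalDegree_X_pow,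
    totalDegree_X_pow] at h3
  omega

end

lemma finrank_P {x : Fin (g + 1) → F}
    (hind : AlgebraicIndependent K (fun j : Fin g => x j.succ)) (n : ℕ) :
    Module.finrank K (P (K := K) x n) = pdim K g n :=
  (LinearEquiv.finrank_eq (Submodule.equivMapOfInjective
    (aeval (fun j : Fin g => x j.succ)).toLinearMap hind
    (restrictTotalDegree (Fin g) K n))).symm

instance finiteDimensional_P (x : Fin (g + 1) → F) (n : ℕ) :
    FiniteDimensional K (P (K := K) x n) := by
  unfold P
  infer_instance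

/-- the field `K(x_1, …, x_g)` -/
noncomputable abbrev F₀ (K : Type*) [Field K] [Algebra K F] (x : Fin (g + 1) → F) :
    IntermediateField K F :=
  IntermediateField.adjoin K (Set.range fun j : Fin g => x j.succ)

section
variable {x}

lemma P_le_F₀ {n : ℕ} {a : F} (ha : a ∈ P (K := K) x n) : a ∈ F₀ K x := by
  rw [mem_P] at ha
  obtain ⟨r, -, rfl⟩ := ha
  have h1 : aeval (fun j : Fin g => x j.succ) r ∈
      Algebra.adjoin K (Set.range fun j : Fin g => x j.succ) := by
    rw [Algebra.adjoin_range_eq_range_aeval]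
    exact ⟨r, rfl⟩
  exact IntermediateField.algebra_adjoin_le_adjoin K _ h1

lemma x_mem_F₀ (hx0 : x 0 = 1) (i : Fin (g + 1)) : x i ∈ F₀ K x :=
  P_le_F₀ (x_mem_P hx0 i)

lemma A_le_F₀ (hx0 : x 0 = 1) (i : Fin (g + 1)) {a : F} (ha : a ∈ A K x i) : a ∈ F₀ K x := by
  have : A K x i ≤ (F₀ K x).toSubalgebra := by
    refine Algebra.adjoin_le ?_
    rintro _ ⟨j, rfl⟩
    exact (F₀ K x).mul_mem (x_mem_F₀ hx0 j) ((F₀ K x).inv_mem (x_mem_F₀ hx0 i))
  exact this ha

lemma exists_denom {y : F} (hy : y ∈ F₀ K x) :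
    ∃ (n : ℕ) (q : F), q ≠ 0 ∧ q ∈ P (K := K) x n ∧ q * y ∈ P (K := K) x n := by
  rw [IntermediateField.mem_adjoin_range_iff] at hy
  obtain ⟨r, s, rfl⟩ := hy
  by_cases hs : aeval (fun j : Fin g => x j.succ) s = 0
  · refine ⟨0, 1, one_ne_zero, one_mem_P x 0, ?_⟩
    rw [hs, div_zero, mul_zero]
    exact Submodule.zero_mem _
  · refine ⟨max r.totalDegree s.totalDegree, _, hs, ?_, ?_⟩
    · rw [mem_P]; exact ⟨s, le_max_right _ _, rfl⟩
    · rw [mul_div_cancel₀ _ hs, mem_P]
      exact ⟨r, le_max_left _ _, rfl⟩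

lemma exists_common_denom (Y : Finset F) (hY : ∀ y ∈ Y, y ∈ F₀ K x) :
    ∃ (n : ℕ) (q : F), q ≠ 0 ∧ q ∈ P (K := K) x n ∧ ∀ y ∈ Y, q * y ∈ P (K := K) x n := by
  classical
  induction Y using Finset.induction_on with
  | empty => exact ⟨0, 1, one_ne_zero, one_mem_P x 0, by simp⟩
  | insert y Y hyY ih =>
    obtain ⟨n, q, hq0, hq, hqY⟩ := ih fun z hz => hY z (Finset.mem_insert_of_mem hz)
    obtain ⟨m, r, hr0, hr, hry⟩ := exists_denom (hY y (Finset.mem_insert_self _ _))
    refine ⟨n + m, q * r, mul_ne_zero hq0 hr0, mul_mem_P x hq hr, fun z hz => ?_⟩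
    rw [Finset.mem_insert] at hz
    rcases hz with rfl | hz
    · rw [mul_assoc]; exact mul_mem_P x hq hry
    · rw [mul_right_comm]; exact mul_mem_P x (hqY z hz) hr

variable (C : Fin (g + 1) → Subalgebra K F)

/-- The space of sections of `M ^ m`. -/
def V (x : Fin (g + 1) → F) (C : Fin (g + 1) → Subalgebra K F) (m : ℕ) : Submodule K F where
  carrier := {φ | ∀ i, φ * ((x i)⁻¹) ^ m ∈ C i}
  add_mem' {a b} ha hb i := by
    rw [add_mul]; exact (C i).add_mem (ha i) (hb i)
  zero_mem' i := by rw [zero_mul]; exact (C i).zero_mem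
  smul_mem' c a ha i := by
    rw [Algebra.smul_mul_assoc]; exact (C i).smul_mem (ha i) c

lemma mem_V {m : ℕ} {φ : F} : φ ∈ V x C m ↔ ∀ i, φ * ((x i)⁻¹) ^ m ∈ C i := Iff.rfl

section upper

variable (hx0 : x 0 = 1) (hx : ∀ i, x i ≠ 0)
  (hind : AlgebraicIndependent K (fun j : Fin g => x j.succ))
  (hfin : ∀ i, ∃ T : Finset F, ∀ c ∈ C i, c ∈ Submodule.span (A K x i) (T : Set F))
  [FiniteDimensional (F₀ K x) F]

include hx0 hx hind hfin

/-- Upper bound. -/
theorem exists_upper : ∃ D : ℕ, ∀ m : ℕ, FiniteDimensional K (V x C m) ∧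
    Module.finrank K (V x C m) ≤ Module.finrank (F₀ K x) F * pdim K g (m + D) := by
  classical
  choose T hT using hfin
  let b := Module.finBasis (F₀ K x) F
  let Y : Finset F := Finset.univ.biUnion fun i => Finset.univ.biUnion fun k =>
    (T i).image fun s => ((b.coord k s : F₀ K x) : F)
  have hYmem : ∀ i k s, s ∈ T i → ((b.coord k s : F₀ K x) : F) ∈ Y := by
    intro i k s hs
    simp only [Y, Finset.mem_biUnion, Finset.mem_univ, true_and, Finset.mem_image]
    exact ⟨i, k, s, hs, rfl⟩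
  have hYF : ∀ y ∈ Y, y ∈ F₀ K x := by
    intro y hy
    simp only [Y, Finset.mem_biUnion, Finset.mem_univ, true_and, Finset.mem_image] at hy
    obtain ⟨i, k, s, -, rfl⟩ := hy
    exact (b.coord k s).2
  obtain ⟨D, H, hH0, hH, hHY⟩ := exists_common_denom Y hYF
  refine ⟨D, fun m => ?_⟩
  -- coordinates of elements of `C i`
  have key1 : ∀ i k, ∀ c ∈ Submodule.span (A K x i) (T i : Set F),
      H * ((b.coord k c : F₀ K x) : F) * ((x i)⁻¹) ^ D ∈ A K x i := by
    intro i k c hc
    induction hc using Submodule.span_induction with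
    | mem s hs => exact mem_A_of_mem_P hx0 (hHY _ (hYmem i k s hs)) i
    | zero => rw [map_zero]; simp
    | add c d _ _ hc hd =>
      rw [map_add]
      have := (A K x i).add_mem hc hd
      convert this using 1
      push_cast
      ring
    | smul a c _ hc =>
      have h1 : b.coord k (a • c) = (⟨(a : F), A_le_F₀ hx0 i a.2⟩ : F₀ K x) • b.coord k c := by
        rw [← map_smul]
        rfl
      rw [h1, smul_eq_mul]
      have := (A K x i).mul_mem a.2 hc
      convert this using 1
      push_cast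
      ring
  have key2 : ∀ φ ∈ V x C m, ∀ k, H * ((b.coord k φ : F₀ K x) : F) ∈ P (K := K) x (m + D) := by
    intro φ hφ k
    refine mem_P_of_forall_mem_A hx0 hx hind fun i => ?_
    have h1 := key1 i k _ (hT i _ (hφ i))
    have h2 : b.coord k (φ * ((x i)⁻¹) ^ m) =
        (⟨((x i)⁻¹) ^ m, _root_.pow_mem ((F₀ K x).inv_mem (x_mem_F₀ hx0 i)) m⟩ : F₀ K x) •
          b.coord k φ := by
      rw [← map_smul, mul_comm]
      rfl
    rw [h2, smul_eq_mul] at h1
    convert h1 using 1
    push_cast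
    ring
  let Φ : V x C m →ₗ[K] (Fin (Module.finrank (F₀ K x) F) → P (K := K) x (m + D)) :=
    LinearMap.pi fun k =>
      { toFun := fun φ => ⟨H * ((b.coord k φ.1 : F₀ K x) : F), key2 φ.1 φ.2 k⟩
        map_add' := fun φ ψ => by
          apply Subtype.ext
          simp only [Submodule.coe_add, map_add, IntermediateField.coe_add, mul_add]
        map_smul' := fun c φ => by
          apply Subtype.ext
          have h1 : b.coord k (c • φ.1) = c • b.coord k φ.1 := by
            rw [← algebraMap_smul (F₀ K x) c φ.1, map_smul, algebraMap_smul]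
          simp only [SetLike.val_smul, h1, RingHom.id_apply]
          rw [mul_smul_comm] }
  have hΦ : Function.Injective Φ := by
    rw [← LinearMap.ker_eq_bot, LinearMap.ker_eq_bot']
    intro φ hφ
    have h1 : ∀ k, b.coord k φ.1 = 0 := by
      intro k
      have h2 := congrArg Subtype.val (congrFun hφ k)
      have h3 : H * ((b.coord k φ.1 : F₀ K x) : F) = 0 := h2
      rcases mul_eq_zero.mp h3 with h4 | h4
      · exact absurd h4 hH0
      · exact_mod_cast h4
    apply Subtype.ext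
    exact b.forall_coord_eq_zero_iff.mp h1
  have hfd : FiniteDimensional K (V x C m) := FiniteDimensional.of_injective Φ hΦ
  refine ⟨hfd, ?_⟩
  have h1 := LinearMap.finrank_le_finrank_of_injective hΦ
  rw [Module.finrank_pi_fintype, Finset.sum_const, Finset.card_univ, Fintype.card_fin, finrank_P hind,
    smul_eq_mul] at h1
  exact h1

end upper

section lower

variable (hx0 : x 0 = 1)
  (hind : AlgebraicIndependent K (fun j : Fin g => x j.succ))
  (hAC : ∀ i, A K x i ≤ C i)
  (h0 : ∀ b ∈ C 0, ∀ i, ∃ k : ℕ, b * ((x i)⁻¹) ^ k ∈ C i)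
  (hfrac : ∀ b : F, ∃ a ∈ A K x 0, a ≠ 0 ∧ a * b ∈ C 0)
  [FiniteDimensional (F₀ K x) F]

include hx0 hind hAC h0 hfrac

/-- Lower bound. -/
theorem exists_lower : ∃ D : ℕ, ∀ m : ℕ, FiniteDimensional K (V x C (m + D)) →
    Module.finrank (F₀ K x) F * pdim K g m ≤ Module.finrank K (V x C (m + D)) := by
  classical
  let b := Module.finBasis (F₀ K x) F
  choose a ha ha0 hab using fun k => hfrac (b k)
  have hxC : ∀ i, (x i)⁻¹ ∈ C i := by
    intro i
    have := hAC i (div_mem_A (K := K) (x := x) i 0)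
    rwa [hx0, one_mul] at this
  -- uniform `D`
  have h1 : ∀ k i, ∃ d : ℕ, a k * b k * ((x i)⁻¹) ^ d ∈ C i := fun k i => h0 _ (hab k) i
  choose d hd using h1
  let D := ∑ k, ∑ i, d k i
  have hD : ∀ k i, d k i ≤ D := fun k i =>
    (Finset.single_le_sum (f := fun i => d k i) (fun _ _ => Nat.zero_le _) (Finset.mem_univ i)).trans
      (Finset.single_le_sum (f := fun k => ∑ i, d k i) (fun _ _ => Nat.zero_le _) (Finset.mem_univ k))
  have h2 : ∀ k i, a k * b k * ((x i)⁻¹) ^ D ∈ C i := by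
    intro k i
    obtain ⟨e, he⟩ := Nat.exists_eq_add_of_le (hD k i)
    rw [he, pow_add, ← mul_assoc]
    exact (C i).mul_mem (hd k i) ((C i).pow_mem (hxC i) e)
  refine ⟨D, fun m hfd => ?_⟩
  have key : ∀ k, ∀ q ∈ P (K := K) x m, q * (a k * b k) ∈ V x C (m + D) := by
    intro k q hq i
    have h3 := (C i).mul_mem (hAC i (mem_A_of_mem_P hx0 hq i)) (h2 k i)
    convert h3 using 1
    ring
  let Ψ : (Fin (Module.finrank (F₀ K x) F) → P (K := K) x m) →ₗ[K] V x C (m + D) :=
    { toFun := fun q => ∑ k, ⟨(q k).1 * (a k * b k), key k _ (q k).2⟩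
      map_add' := fun q r => by
        rw [← Finset.sum_add_distrib]
        refine Finset.sum_congr rfl fun k _ => Subtype.ext ?_
        simp only [Pi.add_apply, Submodule.coe_add, add_mul]
      map_smul' := fun c q => by
        rw [RingHom.id_apply, Finset.smul_sum]
        refine Finset.sum_congr rfl fun k _ => Subtype.ext ?_
        simp only [Pi.smul_apply, SetLike.val_smul, Algebra.smul_mul_assoc] }
  have hΨ : Function.Injective Ψ := by
    rw [← LinearMap.ker_eq_bot, LinearMap.ker_eq_bot']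
    intro q hq
    have h3 : ∑ k, ((q k).1 * a k) * b k = 0 := by
      have h4 := congrArg Subtype.val hq
      simp only [Ψ, LinearMap.coe_mk, AddHom.coe_mk, AddSubmonoidClass.coe_finsetSum,
        ZeroMemClass.coe_zero] at h4
      rw [← h4]
      exact Finset.sum_congr rfl fun k _ => by ring
    have h5 : ∀ k, (q k).1 * a k ∈ F₀ K x := fun k =>
      (F₀ K x).mul_mem (P_le_F₀ (q k).2) (A_le_F₀ hx0 0 (ha k))
    have h6 := (Fintype.linearIndependent_iff.mp b.linearIndependent)
      (fun k => (⟨_, h5 k⟩ : F₀ K x)) h3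
    funext k
    have h7 := congrArg Subtype.val (h6 k)
    have h8 : (q k).1 * a k = 0 := h7
    rcases mul_eq_zero.mp h8 with h9 | h9
    · exact Subtype.ext h9
    · exact absurd h9 (ha0 k)
  have h3 := LinearMap.finrank_le_finrank_of_injective hΨ
  rwa [Module.finrank_pi_fintype, Finset.sum_const, Finset.card_univ, Fintype.card_fin,
    finrank_P hind, smul_eq_mul] at h3

end lower

end

end Groth.Agent.Grpsch.GrowthAlg
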