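import Groth.Agent.Grpsch.GrowthAlg
import Mathlib.RingTheory.AlgebraicIndependent.TranscendenceBasis
import Mathlib.RingTheory.Algebraic.Integral

/-!
# Growth: checking the algebraic hypotheses
-/

set_option autoImplicit false

open MvPolynomial

namespace Groth.Agent.Grpsch.GrowthAlg

variable {K F : Type*} [Field K] [Field F] [Algebra K F] {g : ℕ} {x : Fin (g + 1) → F}

lemma A_zero_eq (hx0 : x 0 = 1) :
    A K x 0 = Algebra.adjoin K (Set.range fun j : Fin g => x j.succ) := by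
  apply le_antisymm
  · refine Algebra.adjoin_le ?_
    rintro _ ⟨j, rfl⟩
    refine Fin.cases ?_ (fun j => ?_) j
    · simp only [hx0, inv_one, mul_one]
      exact Subalgebra.one_mem _
    · simp only [hx0, inv_one, mul_one]
      exact Algebra.subset_adjoin ⟨j, rfl⟩
  · refine Algebra.adjoin_le ?_
    rintro _ ⟨j, rfl⟩
    refine Algebra.subset_adjoin ⟨j.succ, ?_⟩
    simp only [hx0, inv_one, mul_one]

variable {C : Fin (g + 1) → Subalgebra K F}

theorem exists_mul_mem (hAC : A K x 0 ≤ C 0) (hint : ∀ c ∈ C 0, IsIntegral (A K x 0) c)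
    (hfr : ∀ b : F, ∃ c ∈ C 0, ∃ d ∈ C 0, d ≠ 0 ∧ b * d = c) (b : F) :
    ∃ a ∈ A K x 0, a ≠ 0 ∧ a * b ∈ C 0 := by
  obtain ⟨c, hc, d, hd, hd0, hb⟩ := hfr b
  let _ : Algebra (A K x 0) (C 0) := (Subalgebra.inclusion hAC).toRingHom.toAlgebra
  have : IsScalarTower (A K x 0) (C 0) F := IsScalarTower.of_algebraMap_eq fun _ => rfl
  have h1 : IsIntegral (A K x 0) (⟨d, hd⟩ : C 0) := by
    rw [← isIntegral_algebraMap_iff (B := F) Subtype.val_injective]
    exact hint d hd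
  obtain ⟨r, hr0, ⟨e, he⟩⟩ := h1.isAlgebraic.exists_nonzero_dvd
    (mem_nonZeroDivisors_of_ne_zero (fun h => hd0 (congrArg Subtype.val h)))
  have he' : (r : F) = d * e := congrArg Subtype.val he
  refine ⟨r, r.2, fun h => hr0 (Subtype.ext h), ?_⟩
  rw [he']
  have : d * (e : F) * b = e * c := by rw [← hb]; ring
  rw [this]
  exact (C 0).mul_mem e.2 hc

theorem finiteDimensional_F₀ (hx0 : x 0 = 1)
    (hfin : ∃ T : Finset F, ∀ c ∈ C 0, c ∈ Submodule.span (A K x 0) (T : Set F))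
    (hfrac : ∀ b : F, ∃ a ∈ A K x 0, a ≠ 0 ∧ a * b ∈ C 0) :
    FiniteDimensional (F₀ K x) F := by
  obtain ⟨T, hT⟩ := hfin
  refine ⟨⟨T, ?_⟩⟩
  rw [eq_top_iff]
  rintro b -
  obtain ⟨a, ha, ha0, hab⟩ := hfrac b
  have h1 : ∀ c ∈ Submodule.span (A K x 0) (T : Set F), c ∈ Submodule.span (F₀ K x) (T : Set F) := by
    intro c hc
    induction hc using Submodule.span_induction with
    | mem s hs => exact Submodule.subset_span hs
    | zero => exact Submodule.zero_mem _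
    | add c d _ _ hc hd => exact Submodule.add_mem _ hc hd
    | smul r c _ hc =>
      have := Submodule.smul_mem _ (⟨(r : F), A_le_F₀ hx0 0 r.2⟩ : F₀ K x) hc
      exact this
  have h2 := Submodule.smul_mem _ (⟨a⁻¹, (F₀ K x).inv_mem (A_le_F₀ hx0 0 ha)⟩ : F₀ K x) (h1 _ (hT _ hab))
  have h3 : (⟨a⁻¹, (F₀ K x).inv_mem (A_le_F₀ hx0 0 ha)⟩ : F₀ K x) • (a * b) = b := by
    change a⁻¹ * (a * b) = b
    rw [inv_mul_cancel_left₀ ha0]
  rwa [h3] at h2

theorem algebraicIndependent (hx0 : x 0 = 1) (hint : ∀ c ∈ C 0, IsIntegral (A K x 0) c)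
    (hfrac : ∀ b : F, ∃ a ∈ A K x 0, a ≠ 0 ∧ a * b ∈ C 0)
    (htr : (g : Cardinal) ≤ Algebra.trdeg K F) :
    AlgebraicIndependent K (fun j : Fin g => x j.succ) := by
  have h1 : Algebra.IsAlgebraic (A K x 0) F := by
    constructor
    intro b
    obtain ⟨a, ha, ha0, hab⟩ := hfrac b
    have h2 : IsAlgebraic (A K x 0) (a * b) := (hint _ hab).isAlgebraic
    have h3 : IsAlgebraic (A K x 0) a := isAlgebraic_algebraMap (⟨a, ha⟩ : A K x 0)
    have h4 := h3.inv.mul h2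
    rwa [inv_mul_cancel_left₀ ha0] at h4
  rw [A_zero_eq hx0] at h1
  exact (Algebra.IsAlgebraic.isTranscendenceBasis_of_lift_le_trdeg_of_finite K
    (fun j : Fin g => x j.succ) (by simpa using htr)).1

end Groth.Agent.Grpsch.GrowthAlg
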