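import Groth.Agent.Dix.Center
import Mathlib.AlgebraicGeometry.Morphisms.FiniteType

/-!
# Sections over open subsets as elements of the function field
-/

set_option autoImplicit false
universe u

open AlgebraicGeometry CategoryTheory CategoryTheory.Limits TopologicalSpace Opposite
open Groth.Agent.Dix.Center

namespace Groth.Agent.Grpsch.GrowthFF

variable (X : Scheme.{u}) [AlgebraicGeometry.IsIntegral X]

/-- The local ring at `x` inside the function field. -/
noncomputable def O (x : X) : Subring X.functionField := (toK X x).range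

variable {X}

lemma mem_O {x : X} {φ : X.functionField} : φ ∈ O X x ↔ ∃ a, toK X x a = φ := Iff.rfl

lemma toK_mem_O {x : X} (a : X.presheaf.stalk x) : toK X x a ∈ O X x := ⟨a, rfl⟩

lemma toK_germ {x : X} {U : X.Opens} (hx : x ∈ U) (s : Γ(X, U)) (hη : genericPoint X ∈ U) :
    toK X x (X.presheaf.germ U x hx s) = X.presheaf.germ U (genericPoint X) hη s :=
  TopCat.Presheaf.germ_stalkSpecializes_apply X.presheaf hx (genericPoint_specializes X x) s

lemma genericPoint_mem {x : X} {U : X.Opens} (hx : x ∈ U) : genericPoint X ∈ U :=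
  (genericPoint_specializes X x).mem_open U.isOpen hx

/-- an element of the function field regular at all points of `U` is a section over `U` -/
theorem exists_section (U : X.Opens) (hη : genericPoint X ∈ U) (φ : X.functionField)
    (h : ∀ x ∈ U, φ ∈ O X x) : ∃ s : Γ(X, U), X.presheaf.germ U (genericPoint X) hη s = φ := by
  have h1 : ∀ x : U, ∃ (V : X.Opens) (hx : x.1 ∈ V) (hV : V ≤ U) (s : Γ(X, V)),
      X.presheaf.germ V (genericPoint X) (genericPoint_mem hx) s = φ := by
    intro x
    obtain ⟨a, ha⟩ := h x.1 x.2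
    obtain ⟨V, hxV, s, rfl⟩ := X.presheaf.exists_germ_eq a
    refine ⟨V ⊓ U, ⟨hxV, x.2⟩, inf_le_right, X.presheaf.map (homOfLE inf_le_left).op s, ?_⟩
    rw [X.presheaf.germ_res_apply, ← ha, toK_germ]
  choose V hxV hVU s hs using h1
  have hcov : U ≤ iSup V := by
    intro x hx
    exact Opens.mem_iSup.mpr ⟨⟨x, hx⟩, hxV ⟨x, hx⟩⟩
  obtain ⟨t, ht, -⟩ := X.sheaf.existsUnique_gluing' V U (fun x => homOfLE (hVU x)) hcov s (by
    intro x y
    have hη' : genericPoint X ∈ V x ⊓ V y := ⟨genericPoint_mem (hxV x), genericPoint_mem (hxV y)⟩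
    apply germ_injective_of_isIntegral X (genericPoint X) hη'
    have e1 := X.presheaf.germ_res_apply (Opens.infLELeft (V x) (V y)) (genericPoint X) hη' (s x)
    have e2 := X.presheaf.germ_res_apply (Opens.infLERight (V x) (V y)) (genericPoint X) hη' (s y)
    rw [hs] at e1 e2
    exact e1.trans e2.symm)
  refine ⟨t, ?_⟩
  have h2 := ht ⟨genericPoint X, hη⟩
  rw [← hs ⟨genericPoint X, hη⟩, ← h2]
  symm
  exact X.presheaf.germ_res_apply _ _ _ _

lemma germ_mem_O {x : X} {U : X.Opens} (hx : x ∈ U) (hη : genericPoint X ∈ U) (s : Γ(X, U)) :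
    X.presheaf.germ U (genericPoint X) hη s ∈ O X x := by
  rw [← toK_germ hx]
  exact toK_mem_O _

/-- `φ` and `φ⁻¹` are regular at `x` iff `φ` is the image of a unit of the local ring -/
lemma isUnit_iff {x : X} {a : X.presheaf.stalk x} (ha : toK X x a ≠ 0) :
    IsUnit a ↔ (toK X x a)⁻¹ ∈ O X x := by
  constructor
  · rintro ⟨b, rfl⟩
    refine ⟨(b⁻¹ : (X.presheaf.stalk x)ˣ), ?_⟩
    refine eq_inv_of_mul_eq_one_left ?_
    rw [← map_mul, Units.inv_mul, map_one]
  · rintro ⟨b, hb⟩
    refine IsUnit.of_mul_eq_one b ?_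
    apply toK_injective X x
    rw [map_mul, hb, mul_inv_cancel₀ ha, map_one]

section algebra

variable (X) (K : Type u) [Field K] [X.Over (Spec (CommRingCat.of K))]

/-- the structure map `K → Γ(X, U)` -/
noncomputable def kSec (U : X.Opens) : CommRingCat.of K ⟶ Γ(X, U) :=
  (Scheme.ΓSpecIso (CommRingCat.of K)).inv ≫ (X ↘ Spec (CommRingCat.of K)).appTop ≫
    X.presheaf.map (homOfLE le_top).op

omit [AlgebraicGeometry.IsIntegral X] in
lemma kSec_res {U V : X.Opens} (h : V ≤ U) :
    kSec X K U ≫ X.presheaf.map (homOfLE h).op = kSec X K V := by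
  rw [kSec, Category.assoc, Category.assoc, ← Functor.map_comp]
  rfl

/-- the structure map `K → K(X)` -/
noncomputable def kF : K →+* X.functionField :=
  (kSec X K ⊤ ≫ X.presheaf.germ ⊤ (genericPoint X) trivial).hom

lemma kF_apply (U : X.Opens) (hη : genericPoint X ∈ U) (c : K) :
    kF X K c = X.presheaf.germ U (genericPoint X) hη (kSec X K U c) := by
  rw [← kSec_res X K (le_top : U ≤ ⊤)]
  exact (X.presheaf.germ_res_apply _ _ _ _).symm

/-- the function field as `K`-algebra -/
@[reducible] noncomputable def kAlg : Algebra K X.functionField := (kF X K).toAlgebra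

lemma kF_mem_O (x : X) (c : K) : kF X K c ∈ O X x := by
  rw [kF_apply X K ⊤ trivial]
  exact germ_mem_O (U := ⊤) trivial _ _

attribute [local instance] kAlg

variable {X}

/-- The ring of sections over `U` as a subalgebra of the function field. -/
noncomputable def Reg (U : X.Opens) : Subalgebra K X.functionField where
  carrier := {φ | ∀ x ∈ U, φ ∈ O X x}
  add_mem' := fun ha hb x hx => (O X x).add_mem (ha x hx) (hb x hx)
  mul_mem' := fun ha hb x hx => (O X x).mul_mem (ha x hx) (hb x hx)
  algebraMap_mem' := fun c x _ => kF_mem_O X K x c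

lemma mem_Reg {U : X.Opens} {φ : X.functionField} : φ ∈ Reg K U ↔ ∀ x ∈ U, φ ∈ O X x := Iff.rfl

lemma Reg_anti {U V : X.Opens} (h : U ≤ V) {φ : X.functionField} (hφ : φ ∈ Reg K V) : φ ∈ Reg K U :=
  fun x hx => hφ x (h hx)

/-- sections over `U` are the elements of `Reg` -/
noncomputable def secEquiv (U : X.Opens) (hη : genericPoint X ∈ U) : Γ(X, U) →+* Reg K U where
  toFun a := ⟨X.presheaf.germ U (genericPoint X) hη a, fun _ hx => germ_mem_O hx hη a⟩
  map_one' := Subtype.ext (map_one _)
  map_mul' a b := Subtype.ext (map_mul _ a b)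
  map_zero' := Subtype.ext (map_zero _)
  map_add' a b := Subtype.ext (map_add _ a b)

lemma secEquiv_bijective (U : X.Opens) (hη : genericPoint X ∈ U) :
    Function.Bijective (secEquiv K U hη) := by
  constructor
  · intro a b hab
    exact germ_injective_of_isIntegral X (genericPoint X) hη (congrArg Subtype.val hab)
  · rintro ⟨φ, hφ⟩
    obtain ⟨a, ha⟩ := exists_section U hη φ hφ
    exact ⟨a, Subtype.ext ha⟩

end algebra

end Groth.Agent.Grpsch.GrowthFF
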