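import Groth.Agent.Grpsch.GrowthAlg
import Mathlib.Algebra.Order.Antidiag.FinsuppEquiv
import Mathlib.Analysis.SpecificLimits.Basic

/-!
# Growth: the numerical part
-/

set_option autoImplicit false

open MvPolynomial

namespace Groth.Agent.Grpsch.GrowthNum

open Groth.Agent.Grpsch.GrowthAlg

lemma sum_multichoose (g n : ℕ) :
    ∑ k ∈ Finset.range (n + 1), Nat.multichoose g k = Nat.multichoose (g + 1) n := by
  induction n with
  | zero => simp
  | succ n ih => rw [Finset.sum_range_succ, ih, Nat.multichoose_succ_succ, add_comm]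

lemma pdim_eq (K : Type*) [Field K] (g n : ℕ) : pdim K g n = (g + n).choose n := by
  classical
  have h0 : {s : Fin g →₀ ℕ | (s.sum fun _ e => e) ≤ n} =
      (((Finset.range (n + 1)).biUnion fun k => (Finset.univ : Finset (Fin g)).finsuppAntidiag k :
        Finset (Fin g →₀ ℕ)) : Set (Fin g →₀ ℕ)) := by
    ext s
    have hs : (s.sum fun _ e => e) = Finset.univ.sum (s : Fin g → ℕ) :=
      Finsupp.sum_fintype _ _ fun _ => rfl
    simp only [Set.mem_ofPred_eq, Finset.coe_biUnion, Set.mem_iUnion, Finset.mem_coe,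
      Finset.mem_range, Finset.mem_finsuppAntidiag, hs]
    constructor
    · intro h
      exact ⟨_, Nat.lt_succ_of_le h, rfl, Finset.subset_univ _⟩
    · rintro ⟨k, hk, hk', -⟩
      omega
  have h1 : pdim K g n = Nat.card {s : Fin g →₀ ℕ | (s.sum fun _ e => e) ≤ n} :=
    Module.finrank_eq_nat_card_basis (basisRestrictSupport K _)
  rw [h1, h0, Nat.card_coe_set_eq, Set.ncard_coe_finset, Finset.card_biUnion]
  · have h2 : (g + n).choose n = Nat.multichoose (g + 1) n := by
      rw [Nat.multichoose_eq, Nat.add_right_comm, Nat.add_sub_cancel]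
    rw [h2, ← sum_multichoose]
    refine Finset.sum_congr rfl fun k _ => ?_
    rw [Finset.card_finsuppAntidiag_nat_eq_multichoose, Finset.card_univ, Fintype.card_fin]
  · intro k _ l _ hkl
    rw [Function.onFun, Finset.disjoint_left]
    intro s hs hs'
    rw [Finset.mem_finsuppAntidiag] at hs hs'
    exact hkl (hs.1.symm.trans hs'.1)

lemma factorial_mul_pdim (K : Type*) [Field K] (g n : ℕ) :
    g.factorial * pdim K g n = (n + 1).ascFactorial g := by
  rw [pdim_eq, Nat.ascFactorial_eq_factorial_mul_choose, add_comm g n, Nat.choose_symm_add]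

lemma pow_le (K : Type*) [Field K] (g n : ℕ) : n ^ g ≤ g.factorial * pdim K g n := by
  rw [factorial_mul_pdim]
  exact (Nat.pow_le_pow_left (Nat.le_succ n) g).trans (Nat.pow_succ_le_ascFactorial (n + 1) g)

lemma le_pow (K : Type*) [Field K] (g n : ℕ) : g.factorial * pdim K g n ≤ (n + g) ^ g := by
  rw [factorial_mul_pdim]
  exact Nat.ascFactorial_le_pow_add n g

lemma pdim_mono (K : Type*) [Field K] (g : ℕ) {m n : ℕ} (h : m ≤ n) : pdim K g m ≤ pdim K g n := by
  rw [pdim_eq, pdim_eq, ← Nat.choose_symm_add, ← Nat.choose_symm_add]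
  exact Nat.choose_le_choose g (by omega)

/-- `A t^g ≤ (a t + c)^g` for all `t` implies `A ≤ a^g`. -/
lemma le_of_forall_pow (g A B a b c : ℕ) (h : ∀ t : ℕ, A * (b * t) ^ g ≤ B * (a * t + c) ^ g) :
    A * b ^ g ≤ B * a ^ g := by
  have h1 : Filter.Tendsto (fun t : ℕ => (B : ℝ) * ((a : ℝ) + (c : ℝ) / (t : ℝ)) ^ g) Filter.atTop
      (nhds ((B : ℝ) * ((a : ℝ) + 0) ^ g)) :=
    (((tendsto_const_div_atTop_nhds_zero_nat (c : ℝ)).const_add (a : ℝ)).pow g).const_mul _
  rw [add_zero] at h1
  have h2 : ∀ᶠ t : ℕ in Filter.atTop,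
      ((A : ℝ) * (b : ℝ) ^ g) ≤ (B : ℝ) * ((a : ℝ) + (c : ℝ) / (t : ℝ)) ^ g := by
    filter_upwards [Filter.eventually_gt_atTop 0] with t ht
    have ht' : (0 : ℝ) < (t : ℝ) := by exact_mod_cast ht
    have h3 : (A : ℝ) * ((b : ℝ) * t) ^ g ≤ B * ((a : ℝ) * t + c) ^ g := by exact_mod_cast h t
    have h4 : (a : ℝ) + (c : ℝ) / t = ((a : ℝ) * t + c) / t := by field_simp
    rw [h4, div_pow, ← mul_div_assoc, le_div_iff₀ (pow_pos ht' g)]
    rw [mul_pow] at h3
    linarith
  have h5 := le_of_tendsto' (x := Filter.atTop) (f := fun _ : ℕ => ((A : ℝ) * (b : ℝ) ^ g))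
    (b := (A : ℝ) * (b : ℝ) ^ g) tendsto_const_nhds (fun _ => le_rfl)
  have h6 := ge_of_tendsto h1 h2
  exact_mod_cast h6

/-- **Numerical comparison.** -/
theorem degree_eq (K : Type*) [Field K] (g δ e a D D' : ℕ) (hδ : 0 < δ) (ha : 0 < a) (d d' : ℕ → ℕ)
    (h1 : ∀ m, δ * pdim K g m ≤ d (m + D)) (h2 : ∀ m, d m ≤ δ * pdim K g (m + D))
    (h3 : ∀ m, e * δ * pdim K g m ≤ d' (m + D')) (h4 : ∀ m, d' m ≤ e * δ * pdim K g (m + D'))
    (h5 : ∀ m, d' m = d (a * m)) : e = a ^ g := by
  apply le_antisymm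
  · have := le_of_forall_pow g e 1 a 1 (a * D' + D + g) fun t => by
      rw [one_mul, one_mul]
      have h6 : e * pdim K g t ≤ pdim K g (a * t + a * D' + D) := by
        have h7 : δ * (e * pdim K g t) ≤ δ * pdim K g (a * t + a * D' + D) := by
          calc δ * (e * pdim K g t) = e * δ * pdim K g t := by ring
            _ ≤ d' (t + D') := h3 t
            _ = d (a * (t + D')) := h5 _
            _ ≤ δ * pdim K g (a * (t + D') + D) := h2 _
            _ = _ := by rw [mul_add]
        exact Nat.le_of_mul_le_mul_left h7 hδ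
      calc e * t ^ g ≤ e * (g.factorial * pdim K g t) := Nat.mul_le_mul_left e (pow_le K g t)
        _ = g.factorial * (e * pdim K g t) := by ring
        _ ≤ g.factorial * pdim K g (a * t + a * D' + D) := Nat.mul_le_mul_left _ h6
        _ ≤ (a * t + a * D' + D + g) ^ g := le_pow K g _
        _ = _ := by congr 1; ring
    simpa using this
  · have := le_of_forall_pow g 1 e 1 a (D + D' + g) fun t => by
      rw [one_mul, one_mul]
      have h6 : pdim K g (a * t) ≤ e * pdim K g (t + D + D') := by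
        have h7 : δ * pdim K g (a * t) ≤ δ * (e * pdim K g (t + D + D')) := by
          obtain ⟨s, hs, hs'⟩ : ∃ s, s + D = a * (t + D) ∧ a * t ≤ s := by
            refine ⟨a * t + (a * D - D), ?_, Nat.le_add_right _ _⟩
            have : D ≤ a * D := Nat.le_mul_of_pos_left D ha
            rw [add_assoc, Nat.sub_add_cancel this, mul_add]
          calc δ * pdim K g (a * t) ≤ δ * pdim K g s := Nat.mul_le_mul_left _ (pdim_mono K g hs')
            _ ≤ d (s + D) := h1 s
            _ = d' (t + D) := by rw [hs, h5]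
            _ ≤ e * δ * pdim K g (t + D + D') := h4 _
            _ = _ := by ring
        exact Nat.le_of_mul_le_mul_left h7 hδ
      calc (a * t) ^ g ≤ g.factorial * pdim K g (a * t) := pow_le K g _
        _ ≤ g.factorial * (e * pdim K g (t + D + D')) := Nat.mul_le_mul_left _ h6
        _ = e * (g.factorial * pdim K g (t + D + D')) := by ring
        _ ≤ e * (t + D + D' + g) ^ g := Nat.mul_le_mul_left _ (le_pow K g _)
        _ = _ := by congr 2; ring
    simpa using this

end Groth.Agent.Grpsch.GrowthNum
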