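import Groth.Agent.Grpsch.GrowthAlg2
import Groth.Agent.Grpsch.GrowthNum
import Groth.Agent.Grpsch.GrowthFF
import Groth.Agent.VarietyB.DimSch
import Groth.Agent.Ega4B.DimFT

/-!
# Growth of sections: geometry

`X` integral, proper over a field `K`, of dimension `g`; `Dat s g`: `g + 1` "sections `z_i` of a line bundle
without common zeros and with affine nonvanishing loci `W i`", expressed through `x i = z_i / z_0` in the function field.
`growth`: `δ * pdim m ≤ dim V (m + D)` and `dim V m ≤ δ * pdim (m + D)`, `δ = [K(X) : K(x)]`.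
-/

set_option autoImplicit false
universe u

open AlgebraicGeometry CategoryTheory CategoryTheory.Limits TopologicalSpace Opposite
open Groth.Agent.Dix.Center Groth.Agent.Dix.QuadVal Groth.Agent.Grpsch.GrowthFF Groth.Agent.Grpsch.GrowthAlg

namespace Groth.Agent.Grpsch.GrowthGeom

variable {X : Scheme.{u}} [AlgebraicGeometry.IsIntegral X] (K : Type u) [Field K]
  [X.Over (Spec (CommRingCat.of K))]


/-- `z_0, …, z_g` -/
structure Dat (X : Scheme.{u}) [AlgebraicGeometry.IsIntegral X] (g : ℕ) where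
  W : Fin (g + 1) → X.Opens
  x : Fin (g + 1) → X.functionField
  aff : ∀ i, IsAffineOpen (W i)
  gen : ∀ i, genericPoint X ∈ W i
  cov : ∀ p : X, ∃ i, p ∈ W i
  x0 : x 0 = 1
  xne : ∀ i, x i ≠ 0
  reg : ∀ i j p, p ∈ W i → x j * (x i)⁻¹ ∈ O X p
  unit : ∀ i j p, p ∈ W i → x i * (x j)⁻¹ ∈ O X p → p ∈ W j

lemma fromSpecStalk_comp : X.fromSpecStalk (genericPoint X) ≫ (X ↘ Spec (CommRingCat.of K)) =
    Spec.map (CommRingCat.ofHom (kF X K)) := by
  set s := X ↘ Spec (CommRingCat.of K) with hs
  have h1 : s = X.toSpecΓ ≫ Spec.map ((Scheme.ΓSpecIso (CommRingCat.of K)).inv ≫ s.appTop) := by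
    rw [Spec.map_comp, ← Scheme.toSpecΓ_naturality_assoc, toSpecΓ_SpecMap_ΓSpecIso_inv]
    simp
  conv_lhs => rw [h1]
  rw [Scheme.fromSpecStalk_toSpecΓ_assoc, ← Spec.map_comp]
  congr 1
  have h2 : kSec X K ⊤ = (Scheme.ΓSpecIso (CommRingCat.of K)).inv ≫ Scheme.Hom.appTop s := by
    rw [kSec]
    simp [hs]
  rw [← h2]
  rfl

/-- centres of valuation rings containing `K` -/
theorem exists_center [UniversallyClosed (X ↘ Spec (CommRingCat.of K))] (V : ValuationSubring X.functionField)
    (hV : ∀ c, kF X K c ∈ V) : ∃ p : X, Dom (toK X p) V := by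
  set s := X ↘ Spec (CommRingCat.of K) with hs
  have hex : ValuativeCriterion.Existence s := by
    have : UniversallyClosed s := inferInstance
    rw [UniversallyClosed.eq_valuativeCriterion] at this
    exact this.1
  let kV : K →+* V := (kF X K).codRestrict V.toSubring hV
  let S : ValuativeCommSq s :=
    { R := V
      K := X.functionField
      i₁ := X.fromSpecStalk (genericPoint X)
      i₂ := Spec.map (CommRingCat.ofHom kV)
      commSq := ⟨by
        rw [fromSpecStalk_comp, ← Spec.map_comp]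
        rfl⟩ }
  obtain ⟨l, hl₁, hl₂⟩ := (hex S).exists_lift
  change Spec (CommRingCat.of V) ⟶ X at l
  change Spec.map (CommRingCat.ofHom (algebraMap V X.functionField)) ≫ l = X.fromSpecStalk (genericPoint X) at hl₁
  refine ⟨l (IsLocalRing.closedPoint V), ?_⟩
  let ψ : X.presheaf.stalk (l (IsLocalRing.closedPoint V)) ⟶ CommRingCat.of V := Scheme.stalkClosedPointTo l
  have hψ : IsLocalHom ψ.hom := Scheme.isLocalHom_stalkClosedPointTo' l
  have hcomp : (algebraMap V X.functionField).comp ψ.hom = toK X (l (IsLocalRing.closedPoint V)) := by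
    have h1 : Spec.map (ψ ≫ CommRingCat.ofHom (algebraMap V X.functionField)) =
        Spec.map (CommRingCat.ofHom (toK X (l (IsLocalRing.closedPoint V)))) := by
      rw [← cancel_mono (X.fromSpecStalk (l (IsLocalRing.closedPoint V)))]
      refine Eq.trans ?_ (SpecMap_toK _).symm
      rw [← hl₁, Spec.map_comp, Category.assoc]
      congr 1
      exact Scheme.Spec_stalkClosedPointTo_fromSpecStalk l
    exact congrArg CommRingCat.Hom.hom (Spec.map_injective h1)
  constructor
  · intro a
    rw [← hcomp]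
    exact V.valuation_le_one (ψ.hom a)
  · intro a ha
    rw [← hcomp]
    refine (V.valuation_lt_one_iff _).mp ?_
    rw [IsLocalRing.mem_maximalIdeal, mem_nonunits_iff] at ha ⊢
    exact fun hu => ha (hψ.map_nonunit _ hu)

attribute [local instance] kAlg

variable {g : ℕ} (d : Dat X g)

namespace Dat

lemma A_le (i : Fin (g + 1)) : A K d.x i ≤ Reg K (d.W i) := by
  refine Algebra.adjoin_le ?_
  rintro _ ⟨j, rfl⟩ p hp
  exact d.reg i j p hp

/-- `C_i` is integral over `A_i`. -/
theorem isIntegral [UniversallyClosed (X ↘ Spec (CommRingCat.of K))] (i : Fin (g + 1)) (c : X.functionField)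
    (hc : c ∈ Reg K (d.W i)) : IsIntegral (A K d.x i) c := by
  have h1 : c ∈ (⨅ V : {V : ValuationSubring X.functionField //
      (A K d.x i : Set X.functionField) ⊆ V.toSubring}, V.1.toSubring) := by
    rw [Subring.mem_iInf]
    rintro ⟨V, hV⟩
    obtain ⟨p, hp⟩ := exists_center K V (fun a => hV ((A K d.x i).algebraMap_mem a))
    obtain ⟨l, hl⟩ := d.cov p
    obtain ⟨a, ha⟩ := d.reg l i p hl
    have ha0 : toK X p a ≠ 0 := by
      rw [ha]
      exact mul_ne_zero (d.xne i) (inv_ne_zero (d.xne l))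
    have hinv : (toK X p a)⁻¹ ∈ V := by
      rw [ha, mul_inv, inv_inv, mul_comm]
      exact hV (div_mem_A i l)
    have hu : IsUnit a := by
      rw [hp.isUnit_iff]
      apply le_antisymm (hp.le_one a)
      have h2 := (V.valuation_le_one_iff _).mpr hinv
      rw [map_inv₀] at h2
      exact (inv_le_one₀ (by
        rw [zero_lt_iff]
        exact (Valuation.ne_zero_iff _).mpr ha0)).mp h2
    rw [isUnit_iff ha0, ha, mul_inv, inv_inv, mul_comm] at hu
    have hpi : p ∈ d.W i := d.unit l i p hl hu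
    obtain ⟨b, rfl⟩ := hc p hpi
    exact hp.mem b
  rw [iInf_valuationSubring_superset] at h1
  have h2 : IsIntegral (Subring.closure (A K d.x i : Set X.functionField)) c := h1
  have h3 : Subring.closure (A K d.x i : Set X.functionField) ≤ (A K d.x i).toSubring :=
    Subring.closure_le.mpr fun _ h => h
  exact h2.map_of_comp_eq (Subring.inclusion h3) (RingHom.id _) rfl

/-- `C_i` is finitely generated -/
theorem exists_adjoin [LocallyOfFiniteType (X ↘ Spec (CommRingCat.of K))] (i : Fin (g + 1)) :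
    ∃ S : Finset X.functionField, Reg K (d.W i) = Algebra.adjoin K (S : Set X.functionField) := by
  have h1 : ((secEquiv K (d.W i) (d.gen i)).comp (kSec X K (d.W i)).hom).FiniteType := by
    apply RingHom.FiniteType.comp_surjective _ (secEquiv_bijective K (d.W i) (d.gen i)).2
    set s := X ↘ Spec (CommRingCat.of K) with hs
    have h1 := s.finiteType_appLE (isAffineOpen_top _) (d.aff i) (by simp)
    have h2 : ((Scheme.ΓSpecIso (CommRingCat.of K)).inv.hom).FiniteType :=
      RingHom.FiniteType.of_surjective _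
        (ConcreteCategory.bijective_of_isIso (Scheme.ΓSpecIso (CommRingCat.of K)).inv).2
    have h3 := h1.comp h2
    have h4 : (kSec X K (d.W i)).hom = (s.appLE ⊤ (d.W i) (by simp)).hom.comp
        (Scheme.ΓSpecIso (CommRingCat.of K)).inv.hom := by
      ext c
      simp only [kSec, Scheme.Hom.appLE, CommRingCat.hom_comp, RingHom.comp_apply]
      rfl
    rw [h4]
    exact h3
  have h2 : (secEquiv K (d.W i) (d.gen i)).comp (kSec X K (d.W i)).hom = algebraMap K (Reg K (d.W i)) := by
    ext c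
    exact (kF_apply X K (d.W i) (d.gen i) c).symm
  rw [h2] at h1
  have h3 : Algebra.FiniteType K (Reg K (d.W i)) := h1
  obtain ⟨S, hS⟩ := Subalgebra.fg_iff_finiteType _ |>.mpr h3
  exact ⟨S, hS.symm⟩

theorem exists_span [UniversallyClosed (X ↘ Spec (CommRingCat.of K))] [LocallyOfFiniteType (X ↘ Spec (CommRingCat.of K))] (i : Fin (g + 1)) :
    ∃ T : Finset X.functionField, ∀ c ∈ Reg K (d.W i), c ∈ Submodule.span (A K d.x i) (T : Set X.functionField) := by
  obtain ⟨S, hS⟩ := d.exists_adjoin K i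
  have h1 : (Algebra.adjoin (A K d.x i) (S : Set X.functionField)).toSubmodule.FG := by
    apply fg_adjoin_of_finite S.finite_toSet
    intro c hc
    exact d.isIntegral K i c (hS ▸ Algebra.subset_adjoin hc)
  obtain ⟨T, hT⟩ := h1
  refine ⟨T, fun c hc => ?_⟩
  rw [hT, Subalgebra.mem_toSubmodule]
  rw [hS] at hc
  have h2 : Algebra.adjoin K (S : Set X.functionField) ≤
      (Algebra.adjoin (A K d.x i) (S : Set X.functionField)).restrictScalars K :=
    Algebra.adjoin_le Algebra.subset_adjoin
  exact h2 hc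

/-- the section `1 / x_i` over `W i` -/
lemma exists_inv (i : Fin (g + 1)) : ∃ t : Γ(X, d.W i),
    X.presheaf.germ (d.W i) (genericPoint X) (d.gen i) t = (d.x i)⁻¹ := by
  apply exists_section
  intro p hp
  have := d.reg i 0 p hp
  rwa [d.x0, one_mul] at this

theorem exists_pow_mul (b : X.functionField) (hb : b ∈ Reg K (d.W 0)) (i : Fin (g + 1)) :
    ∃ k : ℕ, b * ((d.x i)⁻¹) ^ k ∈ Reg K (d.W i) := by
  obtain ⟨t, ht⟩ := d.exists_inv i
  have ht0 : X.presheaf.germ (d.W i) (genericPoint X) (d.gen i) t ≠ 0 := by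
    rw [ht]
    exact inv_ne_zero (d.xne i)
  have hη : genericPoint X ∈ X.basicOpen t := by
    rw [Scheme.mem_basicOpen X t (genericPoint X) (d.gen i)]
    exact ht0.isUnit
  have hle : ∀ p ∈ X.basicOpen t, p ∈ d.W 0 := by
    intro p hp
    have hpi : p ∈ d.W i := X.basicOpen_le t hp
    rw [Scheme.mem_basicOpen X t p hpi, isUnit_iff (by rwa [toK_germ hpi t (d.gen i)]),
      toK_germ hpi t (d.gen i), ht, inv_inv] at hp
    refine d.unit i 0 p hpi ?_
    rwa [d.x0, inv_one, mul_one]
  obtain ⟨β, hβ⟩ := exists_section (X.basicOpen t) hη b (fun p hp => hb p (hle p hp))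
  have hloc := (d.aff i).isLocalization_basicOpen t
  obtain ⟨⟨c, ⟨_, k, rfl⟩⟩, hc⟩ := IsLocalization.surj (M := Submonoid.powers t) β
  refine ⟨k, ?_⟩
  have h1 : b * ((d.x i)⁻¹) ^ k = X.presheaf.germ (d.W i) (genericPoint X) (d.gen i) c := by
    have h2 := congrArg (X.presheaf.germ (X.basicOpen t) (genericPoint X) hη) hc
    rw [map_mul, hβ] at h2
    have h3 : ∀ z : Γ(X, d.W i), X.presheaf.germ (X.basicOpen t) (genericPoint X) hη
        (algebraMap Γ(X, d.W i) Γ(X, X.basicOpen t) z) =
          X.presheaf.germ (d.W i) (genericPoint X) (d.gen i) z := fun z =>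
      X.presheaf.germ_res_apply _ _ _ _
    rw [h3, h3] at h2
    rw [← h2, ← ht, ← map_pow]
  rw [h1]
  exact fun p hp => germ_mem_O hp (d.gen i) c

theorem exists_frac (i : Fin (g + 1)) (b : X.functionField) :
    ∃ c ∈ Reg K (d.W i), ∃ e ∈ Reg K (d.W i), e ≠ 0 ∧ b * e = c := by
  have : Nonempty (d.W i) := ⟨⟨_, d.gen i⟩⟩
  have := functionField_isFractionRing_of_isAffineOpen X (d.W i) (d.aff i)
  obtain ⟨⟨c, e⟩, hc⟩ := IsLocalization.surj (M := nonZeroDivisors Γ(X, d.W i)) b
  refine ⟨_, fun p hp => germ_mem_O hp (d.gen i) c, _, fun p hp => germ_mem_O hp (d.gen i) e.1, ?_, hc⟩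
  intro h0
  have h1 := germ_injective_of_isIntegral X (genericPoint X) (d.gen i) (h0.trans (map_zero _).symm)
  exact nonZeroDivisors.ne_zero e.2 h1

include d in
/-- the dimension of `X` is the transcendence degree -/
theorem le_trdeg [LocallyOfFiniteType (X ↘ Spec (CommRingCat.of K))]
    (hg : topologicalKrullDim X = g) : (g : Cardinal.{u}) ≤ Algebra.trdeg K X.functionField := by
  obtain ⟨S, hS⟩ := d.exists_adjoin K 0
  have hft : Algebra.FiniteType K (Reg K (d.W 0)) := by
    rw [← Subalgebra.fg_iff_finiteType]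
    exact ⟨S, hS.symm⟩
  obtain ⟨n, h1, h2⟩ := Groth.Agent.Ega4B.DimFT.exists_dim K (Reg K (d.W 0))
  have h3 : ringKrullDim Γ(X, d.W 0) = topologicalKrullDim X := by
    rw [← Groth.Agent.VarietyB.DimSch.topologicalKrullDim_affineOpen (d.aff 0),
      Groth.Agent.VarietyB.DimSch.topologicalKrullDim_eq_trd K]
    exact Groth.Agent.VarietyB.DimSch.topologicalKrullDim_opens_eq_trd K (d.W 0) ⟨_, d.gen 0⟩
  have h4 : ringKrullDim Γ(X, d.W 0) = ringKrullDim (Reg K (d.W 0)) :=
    ringKrullDim_eq_of_ringEquiv (RingEquiv.ofBijective _ (secEquiv_bijective K (d.W 0) (d.gen 0)))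
  rw [h3, hg, h2] at h4
  have h5 : g = n := by exact_mod_cast h4
  rw [h5, ← h1]
  exact trdeg_le_of_injective (Reg K (d.W 0)).val Subtype.val_injective

/-- the spaces of sections -/
noncomputable abbrev Vm (m : ℕ) : Submodule K X.functionField :=
  V d.x (fun i => Reg K (d.W i)) m

/-- **Theorem T.** -/
theorem growth [UniversallyClosed (X ↘ Spec (CommRingCat.of K))]
    [LocallyOfFiniteType (X ↘ Spec (CommRingCat.of K))] (hg : topologicalKrullDim X = g) :
    FiniteDimensional (F₀ K d.x) X.functionField ∧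
    ∃ D : ℕ, (∀ m, Module.finrank (F₀ K d.x) X.functionField * pdim K g m ≤
        Module.finrank K (d.Vm K (m + D))) ∧
      ∀ m, Module.finrank K (d.Vm K m) ≤
        Module.finrank (F₀ K d.x) X.functionField * pdim K g (m + D) := by
  have hfrac := exists_mul_mem (C := fun i => Reg K (d.W i)) (d.A_le K 0)
    (fun c hc => d.isIntegral K 0 c hc) (d.exists_frac K 0)
  have hfd : FiniteDimensional (F₀ K d.x) X.functionField :=
    finiteDimensional_F₀ (C := fun i => Reg K (d.W i)) d.x0 (d.exists_span K 0) hfrac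
  have hind := algebraicIndependent (C := fun i => Reg K (d.W i)) d.x0
    (fun c hc => d.isIntegral K 0 c hc) hfrac (d.le_trdeg K hg)
  refine ⟨hfd, ?_⟩
  obtain ⟨D₁, h₁⟩ := exists_upper (C := fun i => Reg K (d.W i)) d.x0 d.xne hind (d.exists_span K)
  obtain ⟨D₂, h₂⟩ := exists_lower (C := fun i => Reg K (d.W i)) d.x0 hind (d.A_le K)
    (fun b hb i => d.exists_pow_mul K b hb i) hfrac
  refine ⟨D₁ + D₂, fun m => ?_, fun m => ?_⟩
  · have h3 := h₂ (m + D₁) (h₁ _).1
    rw [← add_assoc]
    exact (Nat.mul_le_mul_left _ (GrowthNum.pdim_mono K g (Nat.le_add_right _ _))).trans h3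
  · refine (h₁ m).2.trans (Nat.mul_le_mul_left _ (GrowthNum.pdim_mono K g ?_))
    omega

end Dat

end Groth.Agent.Grpsch.GrowthGeom
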