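import Groth.Agent.Grpsch.GrowthPull
import Groth.Agent.Grpsch.GrowthCut
import Groth.Agent.Flat2H.FamDict

/-!
# Growth of sections: from invertible modules to elements of the function field
-/

set_option autoImplicit false
universe u

open AlgebraicGeometry CategoryTheory CategoryTheory.Limits TopologicalSpace Opposite
open Groth.Agent.Dix.Center Groth.Agent.Grpsch.GrowthFF Groth.Agent.Grpsch.GrowthAlg
  Groth.Agent.Grpsch.GrowthGeom Groth.Agent.Grpsch.GrowthPull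
open Groth.Agent.Fdesc.LocGen Groth.Agent.Flat2H.FamExt Groth.Agent.Flat2H.FamDict

namespace Groth.Agent.Grpsch.GrowthLine

variable {X : Scheme.{u}} [AlgebraicGeometry.IsIntegral X]

/-- the germ at the generic point -/
noncomputable def gg {U : X.Opens} (hU : genericPoint X ∈ U) : Γ(X, U) →+* X.functionField :=
  (X.presheaf.germ U (genericPoint X) hU).hom

lemma gg_ores {U V : X.Opens} (h : V ≤ U) (hV : genericPoint X ∈ V) (a : Γ(X, U)) :
    gg hV (ores h a) = gg (h hV) a :=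
  X.presheaf.germ_res_apply _ _ _ _

lemma gg_mem_O {U : X.Opens} (hU : genericPoint X ∈ U) {p : X} (hp : p ∈ U) (a : Γ(X, U)) :
    gg hU a ∈ O X p := germ_mem_O hp hU a

lemma gg_ne_zero {U : X.Opens} (hU : genericPoint X ∈ U) {a : Γ(X, U)} (ha : IsUnit a) : gg hU a ≠ 0 :=
  (ha.map (gg hU)).ne_zero

lemma inv_gg_mem_O {U : X.Opens} (hU : genericPoint X ∈ U) {p : X} (hp : p ∈ U) {a : Γ(X, U)}
    (ha : IsUnit a) : (gg hU a)⁻¹ ∈ O X p := by
  obtain ⟨a, rfl⟩ := ha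
  have : (gg hU (a : Γ(X, U)))⁻¹ = gg hU ((a⁻¹ : (Γ(X, U))ˣ) : Γ(X, U)) := by
    symm
    apply eq_inv_of_mul_eq_one_left
    rw [← map_mul, Units.inv_mul, map_one]
  rw [this]
  exact gg_mem_O hU hp _

variable {ι : Type*} {L : X.Modules} {W : ι → X.Opens} {g : ∀ i j, Γ(X, W i ⊓ W j)}

/-- `γ i`: the coordinate of `e_i` with respect to `e_{i₀}` -/
noncomputable def gam (g : ∀ i j, Γ(X, W i ⊓ W j)) (hη : ∀ i, genericPoint X ∈ W i) (i₀ i : ι) :
    X.functionField :=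
  gg (U := W i ⊓ W i₀) ⟨hη i, hη i₀⟩ (g i i₀)

section

variable (h : Trivs L W g) (hη : ∀ i, genericPoint X ∈ W i) (i₀ : ι)

include h

lemma gam_ne (i : ι) : gam g hη i₀ i ≠ 0 := gg_ne_zero _ (h.isUnit i i₀)

lemma gam_mul (i j : ι) : gg (U := W i ⊓ W j) ⟨hη i, hη j⟩ (g i j) * gam g hη i₀ j = gam g hη i₀ i := by
  have hV : genericPoint X ∈ W i ⊓ W j ⊓ W i₀ := ⟨⟨hη i, hη j⟩, hη i₀⟩
  have h1 := congrArg (gg hV) (h.cocycle i j i₀ (V := W i ⊓ W j ⊓ W i₀) (inf_le_left.trans inf_le_left)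
    (inf_le_left.trans inf_le_right) inf_le_right)
  rw [map_mul, gg_ores, gg_ores, gg_ores] at h1
  exact h1

lemma gam_unit {p : X} {i j : ι} (hi : p ∈ W i) (hj : p ∈ W j) :
    gam g hη i₀ i * (gam g hη i₀ j)⁻¹ ∈ O X p := by
  rw [← gam_mul h hη i₀ i j, mul_assoc, mul_inv_cancel₀ (gam_ne h hη i₀ j), mul_one]
  exact gg_mem_O (U := W i ⊓ W j) _ ⟨hi, hj⟩ _

end

/-- a family defines an element of the function field -/
lemma fam_eq {b : ∀ j, Γ(X, W j)} (hb : IsFam W g b) (hη : ∀ i, genericPoint X ∈ W i) (i₀ i : ι) :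
    gg (hη i) (b i) * gam g hη i₀ i = gg (hη i₀) (b i₀) := by
  have hV : genericPoint X ∈ W i ⊓ W i₀ := ⟨hη i, hη i₀⟩
  have h1 := congrArg (gg hV) (hb i i₀)
  rw [map_mul, gg_ores, gg_ores] at h1
  exact h1

/-- comparison of two trivializations -/
theorem compare {κ : Type*} {W' : κ → X.Opens} {g' : ∀ i j, Γ(X, W' i ⊓ W' j)}
    (h : Trivs L W g) (hη : ∀ i, genericPoint X ∈ W i) (i₀ : ι)
    (h' : Trivs L W' g') (hη' : ∀ i, genericPoint X ∈ W' i) (k₀ : κ) :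
    ∃ c : X.functionField, c ≠ 0 ∧ ∀ i k p, p ∈ W i → p ∈ W' k →
      (gam g hη i₀ i * c * (gam g' hη' k₀ k)⁻¹ ∈ O X p) ∧
      (gam g hη i₀ i * c * (gam g' hη' k₀ k)⁻¹)⁻¹ ∈ O X p := by
  obtain ⟨h0, e, he, hg⟩ := id h
  obtain ⟨h0', e', he', hg'⟩ := id h'
  have hu : ∀ i k, ∃ u : Γ(X, W i ⊓ W' k), IsUnit u ∧ res L inf_le_left (e i) = u • res L inf_le_right (e' k) := by
    intro i k
    obtain ⟨u, hu⟩ := ((he' k).res (inf_le_right : W i ⊓ W' k ≤ W' k)).exists_eq (res L inf_le_left (e i))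
    refine ⟨u, ?_, hu⟩
    have h1 : IsGen (u • res L (inf_le_right : W i ⊓ W' k ≤ W' k) (e' k)) := hu ▸ (he i).res _
    exact ((he' k).res _).isUnit_of_smul h1
  choose u hu hue using hu
  have hm : ∀ i k, genericPoint X ∈ W i ⊓ W' k := fun i k => ⟨hη i, hη' k⟩
  refine ⟨gg (hm i₀ k₀) (u i₀ k₀), gg_ne_zero _ (hu i₀ k₀), ?_⟩
  intro i k p hi hk
  have key : gam g hη i₀ i * gg (hm i₀ k₀) (u i₀ k₀) = gg (hm i k) (u i k) * gam g' hη' k₀ k := by
    let V : X.Opens := (W i ⊓ W i₀) ⊓ (W' k ⊓ W' k₀)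
    have hVi : V ≤ W i := inf_le_left.trans inf_le_left
    have hVi₀ : V ≤ W i₀ := inf_le_left.trans inf_le_right
    have hVk : V ≤ W' k := inf_le_right.trans inf_le_left
    have hVk₀ : V ≤ W' k₀ := inf_le_right.trans inf_le_right
    have hηV : genericPoint X ∈ V := ⟨⟨hη i, hη i₀⟩, hη' k, hη' k₀⟩
    have e1 := congrArg (res L (le_inf hVi hVi₀)) (hg i i₀)
    have e2 := congrArg (res L (le_inf hVi₀ hVk₀)) (hue i₀ k₀)
    have e3 := congrArg (res L (le_inf hVi hVk)) (hue i k)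
    have e4 := congrArg (res L (le_inf hVk hVk₀)) (hg' k k₀)
    simp only [res_res, res_smul] at e1 e2 e3 e4
    rw [e2, smul_smul] at e1
    rw [e4, smul_smul] at e3
    have e5 := ((he' k₀).res hVk₀).ext (e1.symm.trans e3)
    have e6 := congrArg (gg hηV) e5
    rw [map_mul, map_mul, gg_ores, gg_ores, gg_ores, gg_ores] at e6
    exact e6
  rw [key, mul_assoc, mul_inv_cancel₀ (gam_ne h' hη' k₀ k), mul_one]
  exact ⟨gg_mem_O (U := W i ⊓ W' k) _ ⟨hi, hk⟩ _, inv_gg_mem_O (U := W i ⊓ W' k) _ ⟨hi, hk⟩ (hu i k)⟩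

omit [AlgebraicGeometry.IsIntegral X] in
theorem exists_trivs_pts (hL : PicF.IsInvertible L) :
    ∃ (W : X → X.Opens) (g : ∀ i j, Γ(X, W i ⊓ W j)), (∀ p, p ∈ W p) ∧ Trivs L W g := by
  rw [isInvertible_iff] at hL
  choose U e hxU he using hL
  obtain ⟨g, hg⟩ := exists_trans U e he
  exact ⟨U, g, hxU, fun p => ⟨p, hxU p⟩, e, he, hg⟩

lemma inv_gg_mem_O_iff {U : X.Opens} (hU : genericPoint X ∈ U) {p : X} (hp : p ∈ U) {a : Γ(X, U)}
    (ha : gg hU a ≠ 0) : (gg hU a)⁻¹ ∈ O X p ↔ p ∈ X.basicOpen a := by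
  have h1 : toK X p (X.presheaf.germ U p hp a) = gg hU a := toK_germ hp a hU
  rw [Scheme.mem_basicOpen X a p hp, isUnit_iff (by rwa [h1]), h1]

lemma gam_pow (g : ∀ i j, Γ(X, W i ⊓ W j)) (hη : ∀ i, genericPoint X ∈ W i) (i₀ i : ι) (n : ℕ) :
    gam (fun i j => g i j ^ n) hη i₀ i = gam g hη i₀ i ^ n := map_pow _ _ _

/-- a section in the function field -/
theorem exists_elt (h : Trivs L W g) (hη : ∀ i, genericPoint X ∈ W i) (i₀ : ι) {n : ℕ}
    (t : Coh.structureModule X ⟶ CohB1.tensorPow L n) (ht : genericPoint X ∈ CohB1.genLocus _ t) :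
    ∃ z : X.functionField, z ≠ 0 ∧ ∀ i p, p ∈ W i →
      z * (gam g hη i₀ i ^ n)⁻¹ ∈ O X p ∧
      (p ∈ CohB1.genLocus _ t ↔ z⁻¹ * gam g hη i₀ i ^ n ∈ O X p) := by
  obtain ⟨b, hb, hb'⟩ := (h.tensorPow n).exists_fam t
  have hz : ∀ i, gg (hη i) (b i) * gam g hη i₀ i ^ n = gg (hη i₀) (b i₀) := by
    intro i
    have := fam_eq hb hη i₀ i
    rwa [gam_pow] at this
  have hγ : ∀ i, gam g hη i₀ i ^ n ≠ 0 := fun i => pow_ne_zero n (gam_ne h hη i₀ i)
  have hz0 : gg (hη i₀) (b i₀) ≠ 0 := by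
    rw [hb'] at ht
    obtain ⟨j, hj⟩ := Opens.mem_iSup.mp ht
    rw [← hz j]
    refine mul_ne_zero ?_ (hγ j)
    rw [Scheme.mem_basicOpen X (b j) (genericPoint X) (hη j)] at hj
    exact hj.ne_zero
  have hb0 : ∀ i, gg (hη i) (b i) ≠ 0 := by
    intro i hi
    rw [← hz i, hi, zero_mul] at hz0
    exact hz0 rfl
  refine ⟨gg (hη i₀) (b i₀), hz0, fun i p hp => ⟨?_, ?_⟩⟩
  · rw [← hz i, mul_assoc, mul_inv_cancel₀ (hγ i), mul_one]
    exact gg_mem_O (hη i) hp _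
  · rw [hb', Opens.mem_iSup]
    constructor
    · rintro ⟨j, hj⟩
      have hpj : p ∈ W j := X.basicOpen_le _ hj
      rw [← inv_gg_mem_O_iff (hη j) hpj (hb0 j)] at hj
      rw [← hz j, mul_inv]
      have h1 := (O X p).mul_mem hj ((O X p).pow_mem (gam_unit h hη i₀ hp hpj) n)
      convert h1 using 1
      rw [mul_pow, inv_pow]
      ring
    · intro h1
      refine ⟨i, ?_⟩
      rw [← inv_gg_mem_O_iff (hη i) hp (hb0 i)]
      rw [← hz i, mul_inv, mul_assoc, inv_mul_cancel₀ (hγ i), mul_one] at h1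
      exact h1

end Groth.Agent.Grpsch.GrowthLine
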