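import Groth.Agent.Grpsch.GrowthLine

/-!
# Degree of an endomorphism `f` with `f^* L ≅ L ^ (n ^ 2)`, `L` ample: `n ^ (2 * dim X)`
-/

set_option autoImplicit false
universe u

open AlgebraicGeometry CategoryTheory CategoryTheory.Limits TopologicalSpace Opposite
open Groth.Agent.Dix.Center Groth.Agent.Grpsch.GrowthFF Groth.Agent.Grpsch.GrowthAlg
  Groth.Agent.Grpsch.GrowthGeom Groth.Agent.Grpsch.GrowthPull Groth.Agent.Grpsch.GrowthLine
open Groth.Agent.Fdesc.LocGen Groth.Agent.Flat2H.FamExt Groth.Agent.Flat2H.FamDict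

namespace Groth.Agent.Grpsch.GrowthMain

variable {X : Scheme.{u}} [AlgebraicGeometry.IsIntegral X] {g : ℕ}

/-- the datum `d` comes from `g + 1` sections `z i` of the `N`-th power of the line bundle with local
equations `γ p` -/
structure Adapted (d : Dat X g) (N : ℕ) (z : Fin (g + 1) → X.functionField)
    (γ : X → X.functionField) : Prop where
  zne : ∀ i, z i ≠ 0
  γne : ∀ p, γ p ≠ 0
  eq : ∀ i, d.x i = z i * (z 0)⁻¹
  reg : ∀ i p, p ∈ d.W i → z i * (γ p ^ N)⁻¹ ∈ O X p
  unit : ∀ i p, p ∈ d.W i → (z i)⁻¹ * γ p ^ N ∈ O X p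

/-- an ample invertible module gives a datum -/
theorem exists_dat [NoetherianSpace X] (hg : topologicalKrullDim X ≤ g) {L : X.Modules}
    (hL : CohB1.IsAmple L) {W : X → X.Opens} {G : ∀ i j, Γ(X, W i ⊓ W j)} (hW : ∀ p, p ∈ W p)
    (h : Trivs L W G) (hη : ∀ p, genericPoint X ∈ W p) :
    ∃ (d : Dat X g) (N : ℕ) (z : Fin (g + 1) → X.functionField),
      Adapted d N z (fun p => gam G hη (genericPoint X) p) := by
  obtain ⟨N, t, haff, hgen, hcov⟩ := GrowthCut.exists_sections hL (genericPoint X) g hg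
  choose z hz0 hz using fun i => exists_elt h hη (genericPoint X) (t i) (hgen i)
  set γ : X → X.functionField := fun p => gam G hη (genericPoint X) p with hγdef
  have hγ : ∀ p, γ p ≠ 0 := fun p => gam_ne h hη (genericPoint X) p
  have h1 : ∀ i p, z i * (γ p ^ (N + 1))⁻¹ ∈ O X p := fun i p => (hz i p p (hW p)).1
  have h2 : ∀ i p, p ∈ CohB1.genLocus _ (t i) ↔ (z i)⁻¹ * γ p ^ (N + 1) ∈ O X p :=
    fun i p => (hz i p p (hW p)).2
  refine ⟨{ W := fun i => CohB1.genLocus _ (t i)
            x := fun i => z i * (z 0)⁻¹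
            aff := haff
            gen := hgen
            cov := hcov
            x0 := mul_inv_cancel₀ (hz0 0)
            xne := fun i => mul_ne_zero (hz0 i) (inv_ne_zero (hz0 0))
            reg := ?_
            unit := ?_ }, N + 1, z, ⟨hz0, hγ, fun i => rfl, fun i p _ => h1 i p, fun i p hp => (h2 i p).mp hp⟩⟩
  · intro i j p hp
    have h3 := (O X p).mul_mem (h1 j p) ((h2 i p).mp hp)
    convert h3 using 1
    have := hγ p
    have := hz0 i
    have := hz0 0
    field_simp
  · intro i j p hp hx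
    rw [h2]
    have h3 := (O X p).mul_mem hx ((h2 i p).mp hp)
    convert h3 using 1
    have := hz0 i
    have := hz0 j
    have := hz0 0
    field_simp

variable {d : Dat X g} {N : ℕ} {z : Fin (g + 1) → X.functionField} {γ : X → X.functionField}

section algebra

variable (K : Type u) [Field K] [X.Over (Spec (CommRingCat.of K))]

attribute [local instance] kAlg

/-- description of the spaces of sections -/
lemma mem_Vm_iff (A : Adapted d N z γ) {m : ℕ} {φ : X.functionField} :
    φ ∈ d.Vm K m ↔ ∀ p, φ * z 0 ^ m * ((γ p ^ (N * m))⁻¹) ∈ O X p := by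
  have hz := A.zne
  have hγ := A.γne
  constructor
  · intro h p
    obtain ⟨i, hi⟩ := d.cov p
    have h1 : φ * ((d.x i)⁻¹) ^ m ∈ O X p := h i p hi
    have h2 := (O X p).mul_mem h1 ((O X p).pow_mem (A.reg i p hi) m)
    convert h2 using 1
    rw [A.eq i, pow_mul]
    have := hz i
    have := hz 0
    have := hγ p
    simp only [mul_pow, inv_pow, mul_inv, inv_inv]
    field_simp
  · intro h i p hi
    have h2 := (O X p).mul_mem (h p) ((O X p).pow_mem (A.unit i p hi) m)
    convert h2 using 1
    rw [A.eq i, pow_mul]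
    have := hz i
    have := hz 0
    have := hγ p
    simp only [mul_pow, inv_pow, mul_inv, inv_inv]
    field_simp

end algebra

lemma adapted_pull (f : X ⟶ X) [IsAffineHom f] (hη : f (genericPoint X) = genericPoint X)
    (A : Adapted d N z γ) :
    Adapted (pull f hη d) N (fun i => sig f hη (z i)) (fun p => sig f hη (γ (f p))) where
  zne i := (map_ne_zero _).mpr (A.zne i)
  γne p := (map_ne_zero _).mpr (A.γne (f p))
  eq i := by
    change sig f hη (d.x i) = _
    rw [A.eq i, map_mul, map_inv₀]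
  reg i p hp := by
    rw [← map_pow, ← map_inv₀, ← map_mul]
    exact sig_mem_O f hη (A.reg i (f p) hp)
  unit i p hp := by
    rw [← map_pow, ← map_inv₀, ← map_mul]
    exact sig_mem_O f hη (A.unit i (f p) hp)

section algebra

variable (K : Type u) [Field K] [X.Over (Spec (CommRingCat.of K))]

attribute [local instance] kAlg

/-- the spaces of sections of `(f^* L)^m` and `L^{a m}` have the same dimension -/
theorem finrank_pull (f : X ⟶ X) [IsAffineHom f] (hη : f (genericPoint X) = genericPoint X)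
    (A : Adapted d N z γ) (a : ℕ) (c : X.functionField) (hc : c ≠ 0)
    (h : ∀ p, γ p ^ a * c * (sig f hη (γ (f p)))⁻¹ ∈ O X p ∧
      (γ p ^ a * c * (sig f hη (γ (f p)))⁻¹)⁻¹ ∈ O X p) (m : ℕ) :
    Module.finrank K ((pull f hη d).Vm K m) = Module.finrank K (d.Vm K (a * m)) := by
  have hz := A.zne
  have hγ := A.γne
  have hσz : ∀ i, sig f hη (z i) ≠ 0 := fun i => (map_ne_zero _).mpr (hz i)
  have hσγ : ∀ p, sig f hη (γ (f p)) ≠ 0 := fun p => (map_ne_zero _).mpr (hγ (f p))
  let κ : X.functionField := sig f hη (z 0) ^ m * (c ^ (N * m))⁻¹ * (z 0 ^ (a * m))⁻¹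
  have hκ : κ ≠ 0 := mul_ne_zero (mul_ne_zero (pow_ne_zero _ (hσz 0)) (inv_ne_zero (pow_ne_zero _ hc)))
    (inv_ne_zero (pow_ne_zero _ (hz 0)))
  have hκ' : κ = sig f hη (z 0) ^ m * (c ^ (N * m))⁻¹ * (z 0 ^ (a * m))⁻¹ := rfl
  -- `ψ ∈ V'_m ↔ κ ψ ∈ V_{am}`
  have key : ∀ ψ, ψ ∈ (pull f hη d).Vm K m ↔ κ * ψ ∈ d.Vm K (a * m) := by
    intro ψ
    rw [mem_Vm_iff K (adapted_pull f hη A), mem_Vm_iff K A]
    refine forall_congr' fun p => ?_
    have h1 := hz 0
    have h2 := hγ p
    have h3 := hσγ p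
    have h4 : γ p ^ (N * (a * m)) = (γ p ^ a) ^ (N * m) := by
      rw [← pow_mul]; congr 1; ring
    have h5 : γ p ^ a ≠ 0 := pow_ne_zero _ h2
    obtain ⟨hu, hu'⟩ := h p
    rw [hκ', h4]
    generalize γ p ^ a = γa at hu hu' h5 ⊢
    constructor
    · intro h6
      have h7 := (O X p).mul_mem h6 ((O X p).pow_mem hu' (N * m))
      convert h7 using 1
      simp only [mul_pow, inv_pow, mul_inv, inv_inv]
      field_simp
    · intro h6
      have h7 := (O X p).mul_mem h6 ((O X p).pow_mem hu (N * m))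
      convert h7 using 1
      simp only [mul_pow, inv_pow]
      field_simp
  let T : X.functionField →ₗ[K] X.functionField := LinearMap.mulLeft K κ
  have hT : Function.Injective T := fun a b hab => mul_left_cancel₀ hκ hab
  have hmap : ((pull f hη d).Vm K m).map T = d.Vm K (a * m) := by
    ext φ
    rw [Submodule.mem_map]
    constructor
    · rintro ⟨ψ, hψ, rfl⟩
      exact (key ψ).mp hψ
    · intro hφ
      refine ⟨κ⁻¹ * φ, ?_, ?_⟩
      · rw [key, mul_inv_cancel_left₀ hκ]
        exact hφ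
      · exact mul_inv_cancel_left₀ hκ φ
  rw [← hmap]
  exact LinearEquiv.finrank_eq (Submodule.equivMapOfInjective T hT _)

end algebra

lemma map_genericPoint (f : X ⟶ X) [Surjective f] : f (genericPoint X) = genericPoint X := by
  have h1 := (genericPoint_spec X).image f.continuous
  rw [Set.image_univ, f.surjective.range_eq, closure_univ] at h1
  exact h1.eq (genericPoint_spec X)

/-- **Degree of an endomorphism multiplying an ample class by `a`.** -/
theorem finrank_stalkMap_eq_pow (K : Type u) [Field K] (X : Scheme.{u})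
    (s : X ⟶ Spec (CommRingCat.of K)) [IsProper s] [AlgebraicGeometry.IsIntegral X] (g : ℕ)
    (hg : topologicalKrullDim X = g) (L : X.Modules) (hL : CohB1.IsAmple L) (f : X ⟶ X)
    (hf : f ≫ s = s) [IsFinite f] [Surjective f] (a : ℕ) (ha : 1 ≤ a)
    (e : Nonempty ((Scheme.Modules.pullback f).obj L ≅ CohB1.tensorPow L a)) :
    letI := (f.stalkMap (genericPoint X)).hom.toAlgebra
    Module.finrank (X.presheaf.stalk (f (genericPoint X))) (X.presheaf.stalk (genericPoint X)) =
      a ^ g := by
  obtain ⟨e⟩ := e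
  have hη := map_genericPoint f
  let _ : X.Over (Spec (CommRingCat.of K)) := ⟨s⟩
  let _ : Algebra K X.functionField := kAlg X K
  have hs : IsProper (X ↘ Spec (CommRingCat.of K)) := ‹IsProper s›
  have : IsLocallyNoetherian X := LocallyOfFiniteType.isLocallyNoetherian s
  have : CompactSpace X := hL.2.1
  have : IsNoetherian X := { }
  obtain ⟨W, G, hW, hT⟩ := exists_trivs_pts hL.1
  have hWη : ∀ p, genericPoint X ∈ W p := fun p => genericPoint_mem (hW p)
  obtain ⟨d, N, z, A⟩ := exists_dat (g := g) hg.le hL hW hT hWη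
  -- comparison of the two trivializations of `L ^ a`
  have h1 := hT.tensorPow a
  have h2 := (hT.pullback f).of_iso e
  have hWη' : ∀ p, genericPoint X ∈ f ⁻¹ᵁ W p := fun p => by
    change f (genericPoint X) ∈ W p
    rw [hη]
    exact hWη p
  obtain ⟨c, hc, hcc⟩ := compare h1 hWη (genericPoint X) h2 hWη' (genericPoint X)
  have hγ' : ∀ p, gam (fun i j => f.app (W i ⊓ W j) (G i j)) hWη' (genericPoint X) p =
      sig f hη (gam G hWη (genericPoint X) p) := by
    intro p
    exact (sig_germ f hη (W p ⊓ W (genericPoint X)) ⟨hWη p, hWη _⟩ ⟨hWη' p, hWη' _⟩ (G p _)).symm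
  have hcc' : ∀ p, gam G hWη (genericPoint X) p ^ a * c *
      (sig f hη (gam G hWη (genericPoint X) (f p)))⁻¹ ∈ O X p ∧
      (gam G hWη (genericPoint X) p ^ a * c *
        (sig f hη (gam G hWη (genericPoint X) (f p)))⁻¹)⁻¹ ∈ O X p := by
    intro p
    have h3 := hcc p (f p) p (hW p) (hW (f p))
    rwa [gam_pow, hγ'] at h3
  have hdim := finrank_pull K f hη A a c hc hcc'
  obtain ⟨hfd, D, hD1, hD2⟩ := d.growth K hg
  obtain ⟨hfd', D', hD1', hD2'⟩ := (pull f hη d).growth K hg
  let _ : Algebra (X.presheaf.stalk (f (genericPoint X))) (X.presheaf.stalk (genericPoint X)) :=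
    (f.stalkMap (genericPoint X)).hom.toAlgebra
  have htower : Module.finrank (F₀ K (pull f hη d).x) X.functionField =
      Module.finrank (X.presheaf.stalk (f (genericPoint X))) (X.presheaf.stalk (genericPoint X)) *
      Module.finrank (F₀ K d.x) X.functionField :=
    finrank_tower
      ((X.presheaf.stalkCongr (.of_eq hη.symm)).commRingCatIsoToRingEquiv) (F₀ K d.x)
      (F₀ K (pull f hη d).x) (fun y => F₀_pull f hη K hf d y)
  refine GrowthNum.degree_eq K g (Module.finrank (F₀ K d.x) X.functionField) _ a D D' ?_ ha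
    (fun m => Module.finrank K (d.Vm K m)) (fun m => Module.finrank K ((pull f hη d).Vm K m))
    hD1 hD2 ?_ ?_ hdim
  · exact Module.finrank_pos
  · intro m
    rw [← htower]
    exact hD1' m
  · intro m
    rw [← htower]
    exact hD2' m

theorem finrank_stalkMap_eq (K : Type u) [Field K] (X : Scheme.{u})
    (s : X ⟶ Spec (CommRingCat.of K)) [IsProper s] [AlgebraicGeometry.IsIntegral X] (g : ℕ)
    (hg : topologicalKrullDim X = g) (L : X.Modules) (hL : CohB1.IsAmple L) (f : X ⟶ X)
    (hf : f ≫ s = s) [IsFinite f] [Surjective f] (n : ℕ) (hn : 1 ≤ n)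
    (e : Nonempty ((Scheme.Modules.pullback f).obj L ≅ CohB1.tensorPow L (n ^ 2))) :
    letI := (f.stalkMap (genericPoint X)).hom.toAlgebra
    Module.finrank (X.presheaf.stalk (f (genericPoint X))) (X.presheaf.stalk (genericPoint X)) =
      n ^ (2 * g) := by
  rw [pow_mul]
  exact finrank_stalkMap_eq_pow K X s g hg L hL f hf (n ^ 2) (Nat.one_le_pow 2 n hn) e

end Groth.Agent.Grpsch.GrowthMain
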