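import Groth.Agent.Grpsch.GrowthGeom
import Mathlib.AlgebraicGeometry.Morphisms.Finite

/-!
# Growth of sections: pull back along an endomorphism
-/

set_option autoImplicit false
universe u

open AlgebraicGeometry CategoryTheory CategoryTheory.Limits TopologicalSpace Opposite
open Groth.Agent.Dix.Center Groth.Agent.Grpsch.GrowthFF Groth.Agent.Grpsch.GrowthAlg
  Groth.Agent.Grpsch.GrowthGeom

namespace Groth.Agent.Grpsch.GrowthPull

section tower

variable {K F F' E : Type*} [Field K] [Field F] [Algebra K F] [Field F'] [Algebra K F'] [CommRing E]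
  (ι : F ≃+* E) [Algebra E F'] (L : IntermediateField K F) (L' : IntermediateField K F')

/-- Degrees in the tower `F' / E / L`. -/
theorem finrank_tower [FiniteDimensional L F]
    (h : ∀ y : F', y ∈ L' ↔ ∃ z ∈ L, algebraMap E F' (ι z) = y) :
    Module.finrank L' F' = Module.finrank E F' * Module.finrank L F := by
  let _ : Field E := (ι.symm.toMulEquiv.isField (Field.toIsField F)).toField
  let a1 : Algebra L E := ((ι : F →+* E).comp (algebraMap L F)).toAlgebra
  let a2 : Algebra L F' := ((algebraMap E F').comp (algebraMap L E)).toAlgebra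
  have : IsScalarTower L E F' := IsScalarTower.of_algebraMap_eq fun _ => rfl
  have h1 := Module.finrank_mul_finrank L E F'
  have h2 : Module.finrank L F = Module.finrank L E := by
    refine Algebra.finrank_eq_of_equiv_equiv (RingEquiv.refl L) ι ?_
    rfl
  have hL : ∀ z : L, algebraMap E F' (ι z) ∈ L' := fun z => (h _).mpr ⟨z, z.2, rfl⟩
  let i : L →+* L' := ((algebraMap L F').codRestrict L'.toSubring (fun z => hL z))
  have hi : Function.Bijective i := by
    constructor
    · exact i.injective
    · rintro ⟨y, hy⟩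
      obtain ⟨z, hz, rfl⟩ := (h y).mp hy
      exact ⟨⟨z, hz⟩, rfl⟩
  have h3 : Module.finrank L F' = Module.finrank L' F' := by
    refine Algebra.finrank_eq_of_equiv_equiv (RingEquiv.ofBijective i hi) (RingEquiv.refl F') ?_
    rfl
  rw [← h3, ← h1, h2, mul_comm]

end tower

variable {X : Scheme.{u}} [AlgebraicGeometry.IsIntegral X] (f : X ⟶ X)
  (hη : f (genericPoint X) = genericPoint X)

/-- the endomorphism of the function field -/
noncomputable def sig : X.functionField →+* X.functionField :=
  toKY f (genericPoint X) (specializes_of_eq hη)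

lemma sig_toK (p : X) (a : X.presheaf.stalk (f p)) :
    sig f hη (toK X (f p) a) = toK X p (f.stalkMap p a) := by
  rw [toK_stalkMap f p ((genericPoint_specializes X p).map f.continuous)]
  have := X.presheaf.stalkSpecializes_comp (specializes_of_eq hη) (genericPoint_specializes X (f p))
  exact congrArg (f.stalkMap (genericPoint X)) (DFunLike.congr_fun (congrArg CommRingCat.Hom.hom this) a)

lemma sig_germ (U : X.Opens) (hU : genericPoint X ∈ U) (hU' : genericPoint X ∈ f ⁻¹ᵁ U) (s : Γ(X, U)) :
    sig f hη (X.presheaf.germ U (genericPoint X) hU s) =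
      X.presheaf.germ (f ⁻¹ᵁ U) (genericPoint X) hU' (f.app U s) := by
  have hfη : f (genericPoint X) ∈ U := hU'
  have h1 : X.presheaf.stalkSpecializes (specializes_of_eq hη) (X.presheaf.germ U (genericPoint X) hU s) =
      X.presheaf.germ U (f (genericPoint X)) hfη s :=
    TopCat.Presheaf.germ_stalkSpecializes_apply X.presheaf hU (specializes_of_eq hη) s
  have h2 : sig f hη (X.presheaf.germ U (genericPoint X) hU s) =
      f.stalkMap (genericPoint X) (X.presheaf.stalkSpecializes (specializes_of_eq hη)
        (X.presheaf.germ U (genericPoint X) hU s)) := rfl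
  rw [h2, h1]
  exact f.germ_stalkMap_apply U (genericPoint X) hfη s

lemma sig_mem_O {p : X} {φ : X.functionField} (h : φ ∈ O X (f p)) : sig f hη φ ∈ O X p := by
  obtain ⟨a, rfl⟩ := h
  rw [sig_toK]
  exact toK_mem_O _

lemma inv_mem_O {p : X} {φ : X.functionField} (h0 : φ ≠ 0) (h : φ ∈ O X (f p))
    (h' : (sig f hη φ)⁻¹ ∈ O X p) : φ⁻¹ ∈ O X (f p) := by
  obtain ⟨a, rfl⟩ := h
  rw [← isUnit_iff h0]
  have h1 : toK X p (f.stalkMap p a) ≠ 0 := by
    rw [← sig_toK f hη]
    exact (map_ne_zero _).mpr h0
  rw [sig_toK, ← isUnit_iff h1] at h'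
  exact isUnit_of_map_unit (f.stalkMap p).hom a h'

/-- the pulled back sections -/
noncomputable def pull [IsAffineHom f] {g : ℕ} (d : Dat X g) : Dat X g where
  W i := f ⁻¹ᵁ d.W i
  x i := sig f hη (d.x i)
  aff i := (d.aff i).preimage f
  gen i := by
    change f (genericPoint X) ∈ d.W i
    rw [hη]
    exact d.gen i
  cov p := d.cov (f p)
  x0 := by rw [d.x0, map_one]
  xne i := (map_ne_zero _).mpr (d.xne i)
  reg i j p hp := by
    rw [← map_inv₀, ← map_mul]
    exact sig_mem_O f hη (d.reg i j (f p) hp)
  unit i j p hp h := by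
    refine d.unit i j (f p) hp ?_
    have h1 := inv_mem_O f hη (mul_ne_zero (d.xne j) (inv_ne_zero (d.xne i))) (d.reg i j (f p) hp)
      (by rwa [map_mul, map_inv₀, mul_inv, inv_inv, mul_comm])
    rwa [mul_inv, inv_inv, mul_comm] at h1

section algebra

variable (K : Type u) [Field K] [X.Over (Spec (CommRingCat.of K))]

attribute [local instance] kAlg

variable (hf : f ≫ (X ↘ Spec (CommRingCat.of K)) = X ↘ Spec (CommRingCat.of K))

include hf

lemma sig_kF (c : K) : sig f hη (kF X K c) = kF X K c := by
  rw [kF_apply X K ⊤ trivial c]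
  have hη' : genericPoint X ∈ f ⁻¹ᵁ (⊤ : X.Opens) := trivial
  rw [sig_germ f hη ⊤ trivial hη']
  congr 1
  have h1 : kSec X K ⊤ ≫ f.app ⊤ = kSec X K ⊤ := by
    have h2 : kSec X K ⊤ = (Scheme.ΓSpecIso (CommRingCat.of K)).inv ≫
        (X ↘ Spec (CommRingCat.of K)).appTop := by
      rw [kSec]
      simp
    rw [h2, Category.assoc]
    congr 1
    conv_rhs => rw [← hf]
    rfl
  exact congrArg (fun h : CommRingCat.of K ⟶ Γ(X, ⊤) => h.hom c) h1

/-- the endomorphism of the function field as `K`-algebra -/
noncomputable def sigK : X.functionField →ₐ[K] X.functionField :=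
  { sig f hη with commutes' := fun c => sig_kF f hη K hf c }

lemma F₀_pull [IsAffineHom f] {g : ℕ} (d : Dat X g) (y : X.functionField) :
    y ∈ F₀ K (pull f hη d).x ↔ ∃ z ∈ F₀ K d.x, sig f hη z = y := by
  have h1 : F₀ K (pull f hη d).x = (F₀ K d.x).map (sigK f hη K hf) := by
    rw [F₀, F₀, IntermediateField.adjoin_map]
    congr 1
    rw [← Set.range_comp]
    rfl
  rw [h1]
  exact Iff.rfl

end algebra

end Groth.Agent.Grpsch.GrowthPull
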