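import Groth.Agent.S2324
import Groth.Agent.Ega2.SecCalc
import Groth.Agent.CurvesB.DimPts

/-!
# `dim X + 1` sections of a power of an ample module without common zeros
-/

set_option autoImplicit false
universe u

open CategoryTheory CategoryTheory.Limits AlgebraicGeometry TopologicalSpace

namespace Groth.Agent.Grpsch.GrowthSec

open Groth.Agent.Ega2.SecCalc

variable {X : Scheme.{u}}

/-- In a Noetherian scheme a closed subset has finitely many generic points. -/
lemma exists_finite_generic [NoetherianSpace X] {C : Set X} (hC : IsClosed C) :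
    ∃ Z : Set X, Z.Finite ∧ Z ⊆ C ∧ ∀ x ∈ C, ∃ z ∈ Z, z ⤳ x := by
  obtain ⟨S, hfin, hcl, hirr, hCS⟩ := NoetherianSpace.exists_finite_set_isClosed_irreducible hC
  have key : ∀ t : S, ∃ z : X, IsGenericPoint z (t : Set X) := fun t ↦
    QuasiSober.sober (hirr _ t.2) (hcl _ t.2)
  choose z hz using key
  have := hfin.to_subtype
  refine ⟨Set.range z, Set.finite_range z, ?_, fun x hx ↦ ?_⟩
  · rintro _ ⟨t, rfl⟩
    rw [hCS]
    exact ⟨t, t.2, (hz t).mem⟩
  · rw [hCS] at hx
    obtain ⟨t, ht, hxt⟩ := hx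
    exact ⟨z ⟨t, ht⟩, ⟨_, rfl⟩, (hz ⟨t, ht⟩).specializes hxt⟩

/-- A closed subset all of whose points have closures of dimension `< k` is covered by `k` affine
loci of sections. -/
lemma exists_sections_aux [NoetherianSpace X] [X.IsSeparated] (L : X.Modules)
    (hL : CohB1.IsAmple L) (k : ℕ) :
    ∀ (C : Set X), IsClosed C → (∀ x ∈ C, Order.height x < k) →
    ∃ z : Fin k → (Σ n : ℕ, (Coh.structureModule X ⟶ CohB1.tensorPow L (n + 1))),
      (∀ i, IsAffineOpen (CohB1.genLocus _ (z i).2)) ∧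
      ∀ x ∈ C, ∃ i, x ∈ CohB1.genLocus _ (z i).2 := by
  have hc : CompactSpace X := hL.2.1
  induction k with
  | zero =>
    intro C _ h
    exact ⟨Fin.elim0, fun i ↦ i.elim0, fun x hx ↦ absurd (h x hx) (by simp)⟩
  | succ k ih =>
    intro C hC h
    obtain ⟨Z, hZf, hZC, hZ⟩ := exists_finite_generic hC
    obtain ⟨n, s, hs1, -, hs3⟩ := Groth.Agent.S2324.result X L hL Z hZf ⊤ (fun _ _ ↦ trivial)
    obtain ⟨z, hz1, hz2⟩ := ih (C \ CohB1.genLocus _ s)
      (hC.sdiff (CohB1.genLocus _ s).isOpen) fun x hx ↦ by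
        obtain ⟨w, hw, hwx⟩ := hZ x hx.1
        have hne : ¬ (x ⤳ w) := fun hxw ↦ hx.2 (hxw.mem_open (CohB1.genLocus _ s).isOpen (hs1 hw))
        have hlt : x < w := lt_of_le_not_ge hwx hne
        have h1 : Order.height w < (k : ℕ∞) + 1 := by exact_mod_cast h w (hZC hw)
        have h2 : Order.height w ≤ k := (ENat.lt_add_one_iff (ENat.natCast_ne_top k)).mp h1
        by_cases htop : Order.height x < ⊤
        · exact (Order.height_strictMono hlt htop).trans_le h2
        · rw [not_lt, top_le_iff] at htop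
          have h3 := Order.height_mono hlt.le
          rw [htop, top_le_iff] at h3
          rw [h3, top_le_iff] at h2
          exact absurd h2 (ENat.natCast_ne_top k)
    refine ⟨Fin.cons ⟨n, s⟩ z, fun i ↦ ?_, fun x hx ↦ ?_⟩
    · refine Fin.cases ?_ (fun i ↦ ?_) i
      · exact hs3
      · exact hz1 i
    · by_cases hxs : x ∈ CohB1.genLocus _ s
      · exact ⟨0, hxs⟩
      · obtain ⟨i, hi⟩ := hz2 x ⟨hx, hxs⟩
        exact ⟨i.succ, hi⟩

/-- **Existence of sections.** If `L` is ample on `X` of dimension at most `g`, some positive power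
of `L` has `g + 1` sections with affine generating loci which cover `X`. -/
theorem exists_sections [NoetherianSpace X] [X.IsSeparated] (L : X.Modules)
    (hL : CohB1.IsAmple L) (g : ℕ) (hg : topologicalKrullDim X ≤ g) :
    ∃ (n : ℕ) (z : Fin (g + 1) → (Coh.structureModule X ⟶ CohB1.tensorPow L (n + 1))),
      (∀ i, IsAffineOpen (CohB1.genLocus _ (z i))) ∧ ∀ x, ∃ i, x ∈ CohB1.genLocus _ (z i) := by
  obtain ⟨z, h1, h2⟩ := exists_sections_aux L hL (g + 1) Set.univ isClosed_univ fun x _ ↦ by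
    have h1 : ((Order.height x : ℕ∞) : WithBot ℕ∞) ≤ g :=
      (Order.height_le_krullDim x).trans (CurvesB.DimPts.krullDim_eq (X := X) ▸ hg)
    have h2 : Order.height x ≤ (g : ℕ∞) := by exact_mod_cast h1
    have h3 : (g : ℕ∞) < ((g + 1 : ℕ) : ℕ∞) := by exact_mod_cast Nat.lt_succ_self g
    exact h2.trans_lt h3
  let D : ℕ := ∏ i, ((z i).1 + 1)
  have hD : ∀ i, ((z i).1 + 1) ∣ D := fun i ↦ Finset.dvd_prod_of_mem _ (Finset.mem_univ i)
  have hD0 : D ≠ 0 := Finset.prod_ne_zero_iff.mpr fun i _ ↦ Nat.succ_ne_zero _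
  obtain ⟨n, hn⟩ := Nat.exists_eq_succ_of_ne_zero hD0
  choose e he using hD
  have he0 : ∀ i, e i ≠ 0 := fun i h ↦ hD0 (by rw [he i, h, mul_zero])
  refine ⟨n, fun i ↦ castSec ((he i).symm.trans hn) (powSec (z i).2 (e i)), fun i ↦ ?_,
    fun x ↦ ?_⟩
  · rw [genLocus_castSec, genLocus_powSec hL.1 _ (he0 i)]
    exact h1 i
  · obtain ⟨i, hi⟩ := h2 x trivial
    refine ⟨i, ?_⟩
    rw [genLocus_castSec, genLocus_powSec hL.1 _ (he0 i)]
    exact hi

end Groth.Agent.Grpsch.GrowthSec
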