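import Mathlib.AlgebraicGeometry.ZariskisMainTheorem
import Mathlib.AlgebraicGeometry.Fiber

/-!
# Quasi-finite points: topological criteria

Elementary lemmas on `Scheme.Hom.QuasiFiniteAt` for morphisms locally of finite type.
-/

set_option autoImplicit false
universe u
open CategoryTheory CategoryTheory.Limits AlgebraicGeometry

namespace Groth.Agent.Grpsch.QFin

/-- For `f` locally of finite type: quasi-finite at `x` iff `x` is isolated in its fibre. -/
lemma quasiFiniteAt_iff_exists_opens {X Y : Scheme.{u}} (f : X ⟶ Y) [LocallyOfFiniteType f] (x : X) :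
    f.QuasiFiniteAt x ↔ ∃ V : X.Opens, x ∈ V ∧ ∀ x' ∈ V, f x' = f x → x' = x := by
  rw [Scheme.Hom.quasiFiniteAt_iff_isOpen_singleton_asFiber,
    (f.fiberι _).isEmbedding.isInducing.isOpen_iff]
  constructor
  · rintro ⟨V, hV, h⟩
    refine ⟨⟨V, hV⟩, ?_, ?_⟩
    · have : f.asFiber x ∈ f.fiberι (f x) ⁻¹' V := by rw [h]; rfl
      simpa using this
    · intro x' hx' hx''
      have : x' ∈ Set.range (f.fiberι (f x)) := by
        rw [Scheme.Hom.range_fiberι]; exact hx''
      obtain ⟨a, rfl⟩ := this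
      have : a ∈ f.fiberι (f x) ⁻¹' V := hx'
      rw [h] at this
      obtain rfl : a = f.asFiber x := this
      simp
  · rintro ⟨V, hxV, h⟩
    refine ⟨V, V.isOpen, ?_⟩
    ext a
    constructor
    · intro ha
      have h1 := h _ ha (by
        have : f.fiberι (f x) a ∈ f ⁻¹' {f x} := by
          rw [← Scheme.Hom.range_fiberι]; exact ⟨a, rfl⟩
        exact this)
      apply (f.fiberι (f x)).isEmbedding.injective
      rw [h1]; simp
    · rintro rfl
      change f.fiberι (f x) (f.asFiber x) ∈ V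
      simpa using hxV

/-- A morphism locally of finite type is quasi-finite at the points of its finite fibres. -/
lemma locallyQuasiFinite_fiber_of_finite {X Y : Scheme.{u}} (f : X ⟶ Y) [LocallyOfFiniteType f]
    (y : Y) (h : (⇑f ⁻¹' {y}).Finite) : LocallyQuasiFinite (f.fiberToSpecResidueField y) ∧
      Finite (f.fiber y) := by
  have : LocallyOfFiniteType (f.fiberToSpecResidueField y) :=
    MorphismProperty.pullback_snd _ _ inferInstance
  have hfin : Finite (f.fiber y) := by
    have := h.to_subtype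
    exact Finite.of_equiv _ (f.fiberHomeo y).symm.toEquiv
  exact ⟨.of_finite_preimage_singleton _ fun x => Set.toFinite _, hfin⟩

lemma quasiFiniteAt_of_finite {X Y : Scheme.{u}} (f : X ⟶ Y) [LocallyOfFiniteType f]
    (x : X) (h : (⇑f ⁻¹' {f x}).Finite) : f.QuasiFiniteAt x := by
  rw [Scheme.Hom.quasiFiniteAt_iff_isOpen_singleton_asFiber]
  have h1 := (locallyQuasiFinite_fiber_of_finite f _ h).1
  have : IsLocallyArtinian (f.fiber (f x)) :=
      .of_locallyQuasiFinite (f.fiberToSpecResidueField (f x))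
  exact isOpen_discrete _

/-- Finiteness of fibres is preserved by base change. -/
lemma finite_preimage_of_isPullback {P X Y Z : Scheme.{u}} {fst : P ⟶ X} {snd : P ⟶ Y}
    {f : X ⟶ Z} {g : Y ⟶ Z} (h : IsPullback fst snd f g) [LocallyOfFiniteType f] (y : Y)
    (hy : (⇑f ⁻¹' {g y}).Finite) : (⇑snd ⁻¹' {y}).Finite := by
  obtain ⟨h1, h2⟩ := locallyQuasiFinite_fiber_of_finite f _ hy
  have h3 := isPullback_fiberToSpecResidueField_of_isPullback h y
  have h4 : QuasiCompact (f.fiberToSpecResidueField (g y)) := by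
    refine ⟨fun U _ _ => (Set.toFinite _).isCompact⟩
  have h5 : LocallyQuasiFinite (snd.fiberToSpecResidueField y) := MorphismProperty.of_isPullback h3 h1
  have h6 : QuasiCompact (snd.fiberToSpecResidueField y) := MorphismProperty.of_isPullback h3 h4
  have h7 := (snd.fiberToSpecResidueField y).finite_preimage_singleton default
  have h8 : (snd.fiberToSpecResidueField y) ⁻¹' {default} = Set.univ :=
    Set.eq_univ_of_forall fun a => Subsingleton.elim (α := Spec (Y.residueField y)) _ _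
  rw [h8] at h7
  have h9 := h7.image (snd.fiberι y)
  rwa [Set.image_univ, Scheme.Hom.range_fiberι] at h9

/-- Finiteness of fibres descends along base change. -/
lemma finite_preimage_of_isPullback' {P X Y Z : Scheme.{u}} {fst : P ⟶ X} {snd : P ⟶ Y}
    {f : X ⟶ Z} {g : Y ⟶ Z} (h : IsPullback fst snd f g) (y : Y)
    (hy : (⇑snd ⁻¹' {y}).Finite) : (⇑f ⁻¹' {g y}).Finite := by
  refine (hy.image fst).subset ?_
  intro x hx
  obtain ⟨a, ha, ha'⟩ := Scheme.exists_preimage_of_isPullback h x y hx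
  exact ⟨a, ha', ha⟩

lemma quasiFiniteAt_comp {X Y Z : Scheme.{u}} (f : X ⟶ Y) (g : Y ⟶ Z) [LocallyOfFiniteType f]
    [LocallyOfFiniteType g] (x : X) (hf : f.QuasiFiniteAt x) (hg : g.QuasiFiniteAt (f x)) :
    (f ≫ g).QuasiFiniteAt x := by
  rw [quasiFiniteAt_iff_exists_opens] at hf hg ⊢
  obtain ⟨V, hV, hV'⟩ := hf
  obtain ⟨W, hW, hW'⟩ := hg
  refine ⟨V ⊓ f ⁻¹ᵁ W, ⟨hV, hW⟩, ?_⟩
  rintro x' ⟨h1, h2⟩ h3
  exact hV' x' h1 (hW' _ h2 (by simpa using h3))

lemma quasiFiniteAt_of_comp_of_isOpenMap {X Y Z : Scheme.{u}} (f : X ⟶ Y) (g : Y ⟶ Z)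
    [LocallyOfFiniteType g] [LocallyOfFiniteType (f ≫ g)] (hf : IsOpenMap f) (x : X)
    (h : (f ≫ g).QuasiFiniteAt x) : g.QuasiFiniteAt (f x) := by
  rw [quasiFiniteAt_iff_exists_opens] at h ⊢
  obtain ⟨V, hV, hV'⟩ := h
  refine ⟨⟨f '' V, hf _ V.isOpen⟩, ⟨x, hV, rfl⟩, ?_⟩
  rintro _ ⟨x', h1, rfl⟩ h3
  rw [hV' x' h1 (by simpa using h3)]

end Groth.Agent.Grpsch.QFin
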