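import Groth.Agent.Grpsch.EtLoc
import Groth.Agent.Grpsch.QFin
import Groth.Agent.Grpsch.Points
import Mathlib.AlgebraicGeometry.Morphisms.UniversallyOpen

/-!
# Étale localization of groupoid schemes (Stacks 03FL, 03X5)
-/

set_option autoImplicit false
universe u
open CategoryTheory CategoryTheory.Limits AlgebraicGeometry

namespace Groth.Agent.Grpsch.GrpdEtLoc

open EtLoc QFin

variable {S : Scheme.{u}} (G : Grpd.GroupoidScheme S)

/-- The orbit `t(s⁻¹(u))`. -/
def orb (u : G.U) : Set G.U := G.t '' (G.s ⁻¹' {u})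

lemma mem_orb_self (u : G.U) : u ∈ orb G u := by
  refine ⟨G.e u, ?_, ?_⟩
  · change G.s (G.e u) = u
    rw [← Scheme.Hom.comp_apply, G.e_s]; rfl
  · rw [← Scheme.Hom.comp_apply, G.e_t]; rfl

lemma pU_s (r : G.R) : G.pU (G.s r) = G.pR r := by
  rw [← Scheme.Hom.comp_apply, G.s_over]

lemma pU_t (r : G.R) : G.pU (G.t r) = G.pR r := by
  rw [← Scheme.Hom.comp_apply, G.t_over]

lemma t_mem_orb {u : G.U} {r : G.R} (h : G.s r ∈ orb G u) : G.t r ∈ orb G u := by
  obtain ⟨r₀, h0, h1⟩ := h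
  obtain ⟨q, hq1, hq2⟩ := Scheme.Pullback.exists_preimage_pullback (f := G.s) (g := G.t) r r₀ h1.symm
  refine ⟨G.c q, ?_, ?_⟩
  · change G.s (G.c q) = u
    rw [← Scheme.Hom.comp_apply, Points.c_s, Scheme.Hom.comp_apply, hq2]; exact h0
  · rw [← Scheme.Hom.comp_apply, Points.c_t, Scheme.Hom.comp_apply, hq1]

lemma pU_of_mem_orb {u x : G.U} (h : x ∈ orb G u) : G.pU x = G.pU u := by
  obtain ⟨r₀, h0, rfl⟩ := h
  rw [pU_t, ← pU_s]; exact congrArg _ h0

lemma finite_s_preimage_of_mem_orb [LocallyOfFiniteType G.s] {u x : G.U}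
    (hfin : (G.s ⁻¹' {u}).Finite) (h : x ∈ orb G u) : (G.s ⁻¹' {x}).Finite := by
  obtain ⟨r₀, h0, rfl⟩ := h
  obtain rfl : G.s r₀ = u := h0
  have h1 := finite_preimage_of_isPullback (Points.isPullback_c_snd G) r₀ hfin
  exact finite_preimage_of_isPullback' (Points.isPullback_fst_snd G) r₀ h1

section

variable {G}
variable {S' : Scheme.{u}} (g : S' ⟶ S)

/-- base change of a morphism `R ⟶ U` over `S`. -/
noncomputable abbrev bc (a : G.R ⟶ G.U) (ha : a ≫ G.pU = G.pR) : pullback G.pR g ⟶ pullback G.pU g :=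
  pullback.map G.pR g G.pU g a (𝟙 S') (𝟙 S) ((Category.comp_id _).trans ha.symm)
    ((Category.comp_id _).trans (Category.id_comp _).symm)

@[reassoc]
lemma bc_fst (a : G.R ⟶ G.U) (ha : a ≫ G.pU = G.pR) :
    bc g a ha ≫ pullback.fst G.pU g = pullback.fst G.pR g ≫ a := pullback.lift_fst _ _ _

@[reassoc]
lemma bc_snd (a : G.R ⟶ G.U) (ha : a ≫ G.pU = G.pR) :
    bc g a ha ≫ pullback.snd G.pU g = pullback.snd G.pR g := by
  rw [bc, pullback.map, pullback.lift_snd, Category.comp_id]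

lemma fst_bc (a : G.R ⟶ G.U) (ha : a ≫ G.pU = G.pR) (r : ↥(pullback G.pR g)) :
    pullback.fst G.pU g (bc g a ha r) = a (pullback.fst G.pR g r) := by
  rw [← Scheme.Hom.comp_apply, bc_fst, Scheme.Hom.comp_apply]

lemma snd_bc (a : G.R ⟶ G.U) (ha : a ≫ G.pU = G.pR) (r : ↥(pullback G.pR g)) :
    pullback.snd G.pU g (bc g a ha r) = pullback.snd G.pR g r := by
  rw [← Scheme.Hom.comp_apply, bc_snd]

lemma bc_refineMap {S'' : Scheme.{u}} (h : S'' ⟶ S') (g' : S'' ⟶ S) (e : h ≫ g = g')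
    (a : G.R ⟶ G.U) (ha : a ≫ G.pU = G.pR) (r : ↥(pullback G.pR g')) :
    refineMap G.pU g h g' e (bc g' a ha r) = bc g a ha (refineMap G.pR g h g' e r) := by
  have : bc g' a ha ≫ refineMap G.pU g h g' e = refineMap G.pR g h g' e ≫ bc g a ha := by
    apply pullback.hom_ext
    · rw [Category.assoc, refineMap_fst, bc_fst, Category.assoc, bc_fst, refineMap_fst_assoc]
    · rw [Category.assoc, refineMap_snd, bc_snd_assoc, Category.assoc, bc_snd, refineMap_snd]
  rw [← Scheme.Hom.comp_apply, this, Scheme.Hom.comp_apply]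

end

lemma fst_refineMap_apply {X S S' S'' : Scheme.{u}} (f : X ⟶ S) (g : S' ⟶ S) (h : S'' ⟶ S')
    (g' : S'' ⟶ S) (e : h ≫ g = g') (x : ↥(pullback f g')) :
    pullback.fst f g (refineMap f g h g' e x) = pullback.fst f g' x := by
  rw [← Scheme.Hom.comp_apply, refineMap_fst]

lemma snd_refineMap_apply {X S S' S'' : Scheme.{u}} (f : X ⟶ S) (g : S' ⟶ S) (h : S'' ⟶ S')
    (g' : S'' ⟶ S) (e : h ≫ g = g') (x : ↥(pullback f g')) :
    pullback.snd f g (refineMap f g h g' e x) = h (pullback.snd f g' x) := by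
  rw [← Scheme.Hom.comp_apply, refineMap_snd, Scheme.Hom.comp_apply]

/-- The data obtained from étale localization of `U → S` and `R → S`. -/
structure LocData (u : G.U) {S' : Scheme.{u}} (g : S' ⟶ S) (p' : S')
    (U' : (pullback G.pU g).Opens) (R' : (pullback G.pR g).Opens) : Prop where
  nbhd : Hens2.IsEtaleNbhd g p' (G.pU u)
  clU : IsClosed (U' : Set ↥(pullback G.pU g))
  clR : IsClosed (R' : Set ↥(pullback G.pR g))
  finU : IsFinite (U'.ι ≫ pullback.snd G.pU g)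
  finR : IsFinite (R'.ι ≫ pullback.snd G.pR g)
  memU : ∀ x, pullback.snd G.pU g x = p' → (x ∈ U' ↔ pullback.fst G.pU g x ∈ orb G u)
  memR : ∀ r, pullback.snd G.pR g r = p' → (r ∈ R' ↔ G.s (pullback.fst G.pR g r) ∈ orb G u)

theorem LocData.refine {u : G.U} {S' : Scheme.{u}} {g : S' ⟶ S} {p' : S'}
    {U' : (pullback G.pU g).Opens} {R' : (pullback G.pR g).Opens} (H : LocData G u g p' U' R')
    {S'' : Scheme.{u}} (h : S'' ⟶ S') (p'' : S'') (hh : Hens2.IsEtaleNbhd h p'' p') :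
    LocData G u (h ≫ g) p'' (refineMap G.pU g h _ rfl ⁻¹ᵁ U') (refineMap G.pR g h _ rfl ⁻¹ᵁ R') where
  nbhd := IsEtaleNbhd.comp hh H.nbhd
  clU := H.clU.preimage (refineMap G.pU g h _ rfl).continuous
  clR := H.clR.preimage (refineMap G.pR g h _ rfl).continuous
  finU := by
    have := H.finU
    exact isFinite_refine G.pU g h _ rfl U'
  finR := by
    have := H.finR
    exact isFinite_refine G.pR g h _ rfl R'
  memU x hx := by
    have a1 := H.memU (refineMap G.pU g h _ rfl x) (by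
        rw [← Scheme.Hom.comp_apply, refineMap_snd, Scheme.Hom.comp_apply, hx]; exact hh.base_eq)
    rwa [← Scheme.Hom.comp_apply, refineMap_fst] at a1
  memR x hx := by
    have a1 := H.memR (refineMap G.pR g h _ rfl x) (by
        rw [snd_refineMap_apply, hx]; exact hh.base_eq)
    rwa [fst_refineMap_apply] at a1

theorem exists_locData (u : G.U) [LocallyOfFiniteType G.pU] [IsSeparated G.pU] [IsSeparated G.pR]
    [Flat G.s] [LocallyOfFinitePresentation G.s] [Flat G.t] [LocallyOfFinitePresentation G.t]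
    (hqf : ∃ V : G.U.Opens, u ∈ V ∧ ∀ x ∈ V, G.pU x = G.pU u → x = u)
    (hfin : (⇑G.s ⁻¹' {u}).Finite) :
    ∃ (S' : Scheme.{u}) (g : S' ⟶ S) (p' : S') (U' : (pullback G.pU g).Opens)
      (R' : (pullback G.pR g).Opens), LocData G u g p' U' R' := by
  have hR : LocallyOfFiniteType G.pR := by rw [← G.s_over]; infer_instance
  have hR' : LocallyOfFiniteType (G.t ≫ G.pU) := by rw [G.t_over]; infer_instance
  have hR'' : LocallyOfFiniteType (G.s ≫ G.pU) := by rw [G.s_over]; infer_instance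
  have hqu : G.pU.QuasiFiniteAt u := (quasiFiniteAt_iff_exists_opens _ _).mpr hqf
  have hopen : IsOpenMap G.t := G.t.isOpenMap
  -- `pU` is quasi-finite at the points of the orbit
  have hqU : ∀ x ∈ orb G u, G.pU.QuasiFiniteAt x := by
    rintro _ ⟨r, hr, rfl⟩
    apply quasiFiniteAt_of_comp_of_isOpenMap G.t G.pU hopen r
    have h1 : G.s.QuasiFiniteAt r := quasiFiniteAt_of_finite G.s r (by
      rw [show G.s r = u from hr]; exact hfin)
    have h2 := quasiFiniteAt_comp G.s G.pU r h1 (by rw [show G.s r = u from hr]; exact hqu)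
    rw [G.s_over] at h2
    rw [G.t_over]
    exact h2
  have hqR : ∀ r ∈ G.s ⁻¹' (orb G u), G.pR.QuasiFiniteAt r := by
    intro r hr
    rw [← G.s_over]
    apply quasiFiniteAt_comp G.s G.pU r _ (hqU _ hr)
    exact quasiFiniteAt_of_finite G.s r (finite_s_preimage_of_mem_orb G hfin hr)
  have hTU : (orb G u).Finite := hfin.image _
  have hTR : (G.s ⁻¹' (orb G u)).Finite :=
    hTU.preimage' fun x hx => finite_s_preimage_of_mem_orb G hfin hx
  obtain ⟨S₁, g₁, p₁, hg₁, V₁, hV₁, hf₁, hy₁⟩ := exists_etaleNbhd_isFinite_of_finite G.pU (G.pU u)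
    (orb G u) hTU (fun x hx => pU_of_mem_orb G hx) hqU
  obtain ⟨S₂, g₂, p₂, hg₂, V₂, hV₂, hf₂, hy₂⟩ := exists_etaleNbhd_isFinite_of_finite G.pR (G.pU u)
    (G.s ⁻¹' (orb G u)) hTR (fun r hr => by rw [← pU_s]; exact pU_of_mem_orb G hr) hqR
  obtain ⟨S₃, h₁, h₂, p₃, e, hh₁, hh₂⟩ := exists_common_refinement hg₁ hg₂
  refine ⟨S₃, h₁ ≫ g₁, p₃, refineMap G.pU g₁ h₁ _ rfl ⁻¹ᵁ V₁, refineMap G.pR g₂ h₂ _ e.symm ⁻¹ᵁ V₂,
    IsEtaleNbhd.comp hh₁ hg₁, hV₁.preimage (refineMap G.pU g₁ h₁ _ rfl).continuous,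
    hV₂.preimage (refineMap G.pR g₂ h₂ _ e.symm).continuous, isFinite_refine G.pU g₁ h₁ _ rfl V₁,
    isFinite_refine G.pR g₂ h₂ _ e.symm V₂, ?_, ?_⟩
  · intro x hx
    have a1 := hy₁ (refineMap G.pU g₁ h₁ _ rfl x) (by
        rw [← Scheme.Hom.comp_apply, refineMap_snd, Scheme.Hom.comp_apply, hx]; exact hh₁.base_eq)
    rwa [← Scheme.Hom.comp_apply, refineMap_fst] at a1
  · intro x hx
    have a1 := hy₂ (refineMap G.pR g₂ h₂ _ e.symm x) (by
        rw [← Scheme.Hom.comp_apply, refineMap_snd, Scheme.Hom.comp_apply, hx]; exact hh₂.base_eq)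
    rwa [← Scheme.Hom.comp_apply, refineMap_fst] at a1

/-- Shrinking the base to avoid a closed set. -/
lemma exists_open_nbhd {S' : Scheme.{u}} (p' : S') (Z : Set S') (hZ : IsClosed Z) (hp : p' ∉ Z) :
    ∃ (S'' : Scheme.{u}) (h : S'' ⟶ S') (p'' : S''), Hens2.IsEtaleNbhd h p'' p' ∧ 
      ∀ x, h x ∉ Z := by
  let W : S'.Opens := ⟨Zᶜ, hZ.isOpen_compl⟩
  exact ⟨W, W.ι, ⟨p', hp⟩, isEtaleNbhd_of_isOpenImmersion W.ι ⟨p', hp⟩, fun x => x.2⟩

lemma isClosed_image_of_subset {X S : Scheme.{u}} (f : X ⟶ S) (V : X.Opens)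
    [IsFinite (V.ι ≫ f)] (K : Set X) (hK : IsClosed K) (hKV : K ⊆ V) : IsClosed (f '' K) := by
  have h1 : f '' K = (V.ι ≫ f) '' (V.ι ⁻¹' K) := by
    ext y
    constructor
    · rintro ⟨x, hx, rfl⟩
      exact ⟨⟨x, hKV hx⟩, hx, by simp⟩
    · rintro ⟨x, hx, rfl⟩
      exact ⟨V.ι x, hx, by simp⟩
  rw [h1]
  exact (V.ι ≫ f).isClosedMap _ (hK.preimage V.ι.continuous)

section final

variable {G}
variable {u : G.U} {S' : Scheme.{u}} {g : S' ⟶ S} {p' : S'}
    {U' : (pullback G.pU g).Opens} {R' : (pullback G.pR g).Opens}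

lemma LocData.fibre_eq (H : LocData G u g p' U' R') (u' : ↥(pullback G.pU g)) (_ : u' ∈ U')
    (h1 : pullback.fst G.pU g u' = u) (h2 : pullback.snd G.pU g u' = p') :
    {x : ↥(pullback G.pU g) | x ∈ U' ∧ pullback.snd G.pU g x = p'} =
      ⇑(bc g G.t G.t_over) '' (⇑(bc g G.s G.s_over) ⁻¹' {u'}) := by
  ext x
  constructor
  · rintro ⟨hx, hx'⟩
    obtain ⟨r, hr, hr'⟩ := (H.memU x hx').mp hx
    have hp : G.pR r = g p' := by
      rw [← pU_t, hr', ← hx', ← Scheme.Hom.comp_apply, ← Scheme.Hom.comp_apply, pullback.condition]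
    obtain ⟨r', h3, h4⟩ := Scheme.Pullback.exists_preimage_pullback (f := G.pR) (g := g) r p' hp
    refine ⟨r', ?_, ?_⟩
    · apply eq_of_fst_eq_of_snd_eq _ _ p' H.nbhd.residue_bijective
      · rw [snd_bc, h4]
      · exact h2
      · rw [fst_bc, h3, h1]; exact hr
    · apply eq_of_fst_eq_of_snd_eq _ _ p' H.nbhd.residue_bijective
      · rw [snd_bc, h4]
      · exact hx'
      · rw [fst_bc, h3, hr']
  · rintro ⟨r', hr', rfl⟩
    have hr'' : bc g G.s G.s_over r' = u' := hr'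
    have h4 : pullback.snd G.pR g r' = p' := by
      rw [← snd_bc g G.s G.s_over, hr'', h2]
    have h3 : G.s (pullback.fst G.pR g r') = u := by
      rw [← fst_bc g G.s G.s_over, hr'', h1]
    have h5 : pullback.snd G.pU g (bc g G.t G.t_over r') = p' := by rw [snd_bc, h4]
    refine ⟨(H.memU _ h5).mpr ?_, h5⟩
    rw [fst_bc]
    exact ⟨_, h3, rfl⟩

lemma LocData.fibre_R_eq (H : LocData G u g p' U' R') :
    {r : ↥(pullback G.pR g) | r ∈ R' ∧ pullback.snd G.pR g r = p'} =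
      ⇑(bc g G.s G.s_over) ⁻¹' {x | x ∈ U' ∧ pullback.snd G.pU g x = p'} := by
  ext r
  constructor
  · rintro ⟨h1, h2⟩
    have h3 : pullback.snd G.pU g (bc g G.s G.s_over r) = p' := by rw [snd_bc, h2]
    refine ⟨(H.memU _ h3).mpr ?_, h3⟩
    rw [fst_bc]
    exact (H.memR r h2).mp h1
  · rintro ⟨h1, h2⟩
    have h3 := (H.memU _ h2).mp h1
    rw [snd_bc] at h2
    rw [fst_bc] at h3
    exact ⟨(H.memR r h2).mpr h3, h2⟩

lemma LocData.exists_u' (H : LocData G u g p' U' R') :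
    ∃ u' : ↥(pullback G.pU g), u' ∈ U' ∧ pullback.fst G.pU g u' = u ∧
      pullback.snd G.pU g u' = p' := by
  have hp : G.pU u = g p' := H.nbhd.base_eq.symm
  obtain ⟨u', h3, h4⟩ := Scheme.Pullback.exists_preimage_pullback (f := G.pU) (g := g) u p' hp
  exact ⟨u', (H.memU u' h4).mpr (by rw [h3]; exact mem_orb_self G u), h3, h4⟩

/-- a bad closed subset of `R_{S'}`, contained in `R'` -/
lemma LocData.isClosed_bad (H : LocData G u g p' U' R') (a : G.R ⟶ G.U) (ha : a ≫ G.pU = G.pR) :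
    IsClosed (pullback.snd G.pR g '' ((R' : Set ↥(pullback G.pR g)) ∩
      (bc g a ha ⁻¹' (U' : Set ↥(pullback G.pU g))ᶜ))) := by
  have := H.finR
  exact isClosed_image_of_subset _ R' _ (H.clR.inter
    (U'.isOpen.isClosed_compl.preimage (bc g a ha).continuous)) Set.inter_subset_left

lemma LocData.notMem_bad (H : LocData G u g p' U' R') (a : G.R ⟶ G.U) (ha : a ≫ G.pU = G.pR)
    (h : ∀ r : G.R, G.s r ∈ orb G u → a r ∈ orb G u) :
    p' ∉ (pullback.snd G.pR g '' ((R' : Set ↥(pullback G.pR g)) ∩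
      (bc g a ha ⁻¹' (U' : Set ↥(pullback G.pU g))ᶜ))) := by
  rintro ⟨r, ⟨hr1, hr2⟩, hr3⟩
  apply hr2
  have h2 : pullback.snd G.pU g (bc g a ha r) = p' := by rw [snd_bc, hr3]
  refine (H.memU _ h2).mpr ?_
  rw [fst_bc]
  exact h _ ((H.memR r hr3).mp hr1)

/-- the second bad subset, for universally closed `j` -/
lemma isClosed_bad₂ [UniversallyClosed G.j] [IsFinite (U'.ι ≫ pullback.snd G.pU g)]
    (K : Set ↥(pullback G.pR g)) (hK : IsClosed K)
    (hK₁ : K ⊆ bc g G.s G.s_over ⁻¹' (U' : Set ↥(pullback G.pU g)))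
    (hK₂ : K ⊆ bc g G.t G.t_over ⁻¹' (U' : Set ↥(pullback G.pU g))) :
    IsClosed (pullback.snd G.pR g '' K) := by
  let q : pullback G.pU G.pU ⟶ S := pullback.fst G.pU G.pU ≫ G.pU
  let J : pullback G.pR g ⟶ pullback q g :=
    pullback.lift (pullback.fst G.pR g ≫ G.j) (pullback.snd G.pR g) (by
      rw [Category.assoc, Points.j_fst_assoc, G.t_over, pullback.condition])
  let a : pullback q g ⟶ pullback G.pU g :=
    pullback.lift (pullback.fst q g ≫ pullback.fst G.pU G.pU) (pullback.snd q g) (by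
      rw [Category.assoc, pullback.condition])
  let b : pullback q g ⟶ pullback G.pU g :=
    pullback.lift (pullback.fst q g ≫ pullback.snd G.pU G.pU) (pullback.snd q g) (by
      rw [Category.assoc, ← pullback.condition (f := G.pU), pullback.condition])
  have hJfst : J ≫ pullback.fst q g = pullback.fst G.pR g ≫ G.j := pullback.lift_fst _ _ _
  have hJsnd : J ≫ pullback.snd q g = pullback.snd G.pR g := pullback.lift_snd _ _ _
  have haf : a ≫ pullback.fst G.pU g = pullback.fst q g ≫ pullback.fst G.pU G.pU :=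
    pullback.lift_fst _ _ _
  have has : a ≫ pullback.snd G.pU g = pullback.snd q g := pullback.lift_snd _ _ _
  have hbf : b ≫ pullback.fst G.pU g = pullback.fst q g ≫ pullback.snd G.pU G.pU :=
    pullback.lift_fst _ _ _
  have hbs : b ≫ pullback.snd G.pU g = pullback.snd q g := pullback.lift_snd _ _ _
  have hJa : J ≫ a = bc g G.t G.t_over := by
    apply pullback.hom_ext
    · rw [Category.assoc, haf, reassoc_of% hJfst, Points.j_fst, bc_fst]
    · rw [Category.assoc, has, hJsnd, bc_snd]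
  have hJb : J ≫ b = bc g G.s G.s_over := by
    apply pullback.hom_ext
    · rw [Category.assoc, hbf, reassoc_of% hJfst, Points.j_snd, bc_fst]
    · rw [Category.assoc, hbs, hJsnd, bc_snd]
  -- `J` is a base change of `j`
  have hJ : IsPullback (pullback.snd G.pR g) (pullback.fst G.pR g) g G.pR :=
    (IsPullback.of_hasPullback _ _).flip
  have hJ1 : IsPullback J (pullback.fst G.pR g) (pullback.fst q g) G.j := by
    refine IsPullback.of_right (h₁₂ := pullback.snd q g) (v₁₃ := g) (h₂₂ := q) ?_ hJfst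
      (IsPullback.of_hasPullback _ _).flip
    have : G.j ≫ q = G.pR := by rw [Points.j_fst_assoc, G.t_over]
    rw [hJsnd, this]
    exact hJ
  have hJuc : UniversallyClosed J := MorphismProperty.of_isPullback hJ1.flip ‹_›
  have hsq : IsPullback b a (pullback.snd G.pU g) (pullback.snd G.pU g) := by
    refine IsPullback.of_right (h₁₂ := pullback.fst G.pU g) (v₁₃ := G.pU) (h₂₂ := g) ?_ (by
      rw [hbs, has]) (IsPullback.of_hasPullback _ _)
    have hA : IsPullback a (pullback.fst q g) (pullback.fst G.pU g) (pullback.fst G.pU G.pU) := by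
      refine IsPullback.of_right (h₁₂ := pullback.snd G.pU g) (v₁₃ := g) (h₂₂ := G.pU) ?_ haf
        (IsPullback.of_hasPullback _ _).flip
      rw [has]
      exact (IsPullback.of_hasPullback q g).flip
    have hB : IsPullback (pullback.snd G.pU G.pU) (pullback.fst G.pU G.pU) G.pU G.pU :=
      (IsPullback.of_hasPullback _ _).flip
    rw [hbf, ← pullback.condition]
    exact hA.flip.paste_horiz hB
  have hJK : IsClosed (J '' K) := J.isClosedMap _ hK
  have hJKb : J '' K ⊆ (b ⁻¹ᵁ U' : (pullback q g).Opens) := by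
    rintro _ ⟨r, hr, rfl⟩
    have := hK₁ hr
    rw [← hJb] at this
    exact this
  have hfin : IsFinite ((b ⁻¹ᵁ U').ι ≫ a) := by
    have := (isPullback_morphismRestrict b U').paste_vert hsq
    exact MorphismProperty.of_isPullback this ‹_›
  have haJK : IsClosed (a '' (J '' K)) := isClosed_image_of_subset a _ _ hJK hJKb
  have haJK' : a '' (J '' K) ⊆ U' := by
    rintro _ ⟨_, ⟨r, hr, rfl⟩, rfl⟩
    have := hK₂ hr
    rw [← hJa] at this
    exact this
  have := isClosed_image_of_subset (pullback.snd G.pU g) U' _ haJK haJK'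
  convert this using 1
  rw [Set.image_image, Set.image_image]
  apply Set.image_congr
  intro r _
  rw [← hJsnd, ← has]
  simp

lemma sR_subset_refine {S'' : Scheme.{u}} (h : S'' ⟶ S')
    (a : G.R ⟶ G.U) (ha : a ≫ G.pU = G.pR)
    (hh : ∀ x, h x ∉ (pullback.snd G.pR g '' ((R' : Set ↥(pullback G.pR g)) ∩
      (bc g a ha ⁻¹' (U' : Set ↥(pullback G.pU g))ᶜ)))) :
    ⇑(bc (h ≫ g) a ha) '' ((refineMap G.pR g h _ rfl ⁻¹ᵁ R' : (pullback G.pR (h ≫ g)).Opens) :
      Set ↥(pullback G.pR (h ≫ g))) ⊆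
      ((refineMap G.pU g h _ rfl ⁻¹ᵁ U' : (pullback G.pU (h ≫ g)).Opens) :
      Set ↥(pullback G.pU (h ≫ g))) := by
  rintro _ ⟨r, hr, rfl⟩
  by_contra hcon
  apply hh (pullback.snd G.pR _ r)
  refine ⟨refineMap G.pR g h _ rfl r, ⟨hr, ?_⟩, snd_refineMap_apply ..⟩
  intro h1
  apply hcon
  change refineMap G.pU g h _ rfl (bc (h ≫ g) a ha r) ∈ U'
  rw [bc_refineMap]
  exact h1

end final

/-- Core of Stacks 03FL and 03X5. -/
theorem exists_locData_strong (u : G.U) [LocallyOfFiniteType G.pU] [IsSeparated G.pU]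
    [IsSeparated G.pR]
    [Flat G.s] [LocallyOfFinitePresentation G.s] [Flat G.t] [LocallyOfFinitePresentation G.t]
    (hqf : ∃ V : G.U.Opens, u ∈ V ∧ ∀ x ∈ V, G.pU x = G.pU u → x = u)
    (hfin : (⇑G.s ⁻¹' {u}).Finite) :
    ∃ (S' : Scheme.{u}) (g : S' ⟶ S) (p' : S') (U' : (pullback G.pU g).Opens)
      (R' : (pullback G.pR g).Opens), LocData G u g p' U' R' ∧
      ⇑(bc g G.s G.s_over) '' (R' : Set ↥(pullback G.pR g)) ⊆ U' ∧
      ⇑(bc g G.t G.t_over) '' (R' : Set ↥(pullback G.pR g)) ⊆ U' ∧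
      (UniversallyClosed G.j → (R' : Set ↥(pullback G.pR g)) =
        ⇑(bc g G.s G.s_over) ⁻¹' (U' : Set ↥(pullback G.pU g)) ∩
        ⇑(bc g G.t G.t_over) ⁻¹' (U' : Set ↥(pullback G.pU g))) := by
  obtain ⟨S', g, p', U', R', H⟩ := exists_locData G u hqf hfin
  let Z₁ := (pullback.snd G.pR g '' ((R' : Set ↥(pullback G.pR g)) ∩
      (bc g G.s G.s_over ⁻¹' (U' : Set ↥(pullback G.pU g))ᶜ)))
  let Z₂ := (pullback.snd G.pR g '' ((R' : Set ↥(pullback G.pR g)) ∩
      (bc g G.t G.t_over ⁻¹' (U' : Set ↥(pullback G.pU g))ᶜ)))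
  have hZ₁ : IsClosed Z₁ := H.isClosed_bad _ _
  have hZ₂ : IsClosed Z₂ := H.isClosed_bad _ _
  have hp₁ : p' ∉ Z₁ := H.notMem_bad _ _ fun r hr => hr
  have hp₂ : p' ∉ Z₂ := H.notMem_bad _ _ fun r hr => t_mem_orb G hr
  obtain ⟨Z₃, hZ₃, hp₃, hZ₃'⟩ : ∃ Z₃ : Set S', IsClosed Z₃ ∧ p' ∉ Z₃ ∧ (UniversallyClosed G.j →
      Z₃ = pullback.snd G.pR g '' ((bc g G.s G.s_over ⁻¹' (U' : Set ↥(pullback G.pU g)) ∩
        bc g G.t G.t_over ⁻¹' (U' : Set ↥(pullback G.pU g))) ∩ (R' : Set ↥(pullback G.pR g))ᶜ)) := by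
    by_cases huc : UniversallyClosed G.j
    · refine ⟨_, ?_, ?_, fun _ => rfl⟩
      · have := H.finU
        refine isClosed_bad₂ _ ?_ (fun x hx => hx.1.1) (fun x hx => hx.1.2)
        exact ((H.clU.preimage (bc g G.s G.s_over).continuous).inter
          (H.clU.preimage (bc g G.t G.t_over).continuous)).inter R'.isOpen.isClosed_compl
      · rintro ⟨r, ⟨⟨hr1, hr2⟩, hr3⟩, hr4⟩
        apply hr3
        have := (Set.ext_iff.mp H.fibre_R_eq r).mpr ⟨hr1, by rw [snd_bc, hr4]⟩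
        exact this.1
    · exact ⟨∅, isClosed_empty, Set.notMem_empty _, fun h => absurd h huc⟩
  obtain ⟨S'', h, p'', hh, hZ⟩ := exists_open_nbhd p' (Z₁ ∪ Z₂ ∪ Z₃) ((hZ₁.union hZ₂).union hZ₃)
    (by rintro ((h | h) | h) <;> contradiction)
  have h₁ := sR_subset_refine h G.s G.s_over (fun x hx => hZ x (Or.inl (Or.inl hx)))
  have h₂ := sR_subset_refine h G.t G.t_over (fun x hx => hZ x (Or.inl (Or.inr hx)))
  refine ⟨S'', h ≫ g, p'', _, _, H.refine G h p'' hh, h₁, h₂, ?_⟩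
  intro huc
  apply Set.Subset.antisymm
  · intro r hr
    exact ⟨h₁ ⟨r, hr, rfl⟩, h₂ ⟨r, hr, rfl⟩⟩
  · rintro r ⟨hr1, hr2⟩
    by_contra hcon
    apply hZ (pullback.snd G.pR _ r)
    right
    rw [hZ₃' huc]
    refine ⟨refineMap G.pR g h _ rfl r, ⟨⟨?_, ?_⟩, hcon⟩, snd_refineMap_apply ..⟩
    · have : refineMap G.pU g h _ rfl (bc (h ≫ g) G.s G.s_over r) ∈ U' := hr1
      rwa [bc_refineMap] at this
    · have : refineMap G.pU g h _ rfl (bc (h ≫ g) G.t G.t_over r) ∈ U' := hr2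
      rwa [bc_refineMap] at this

end Groth.Agent.Grpsch.GrpdEtLoc
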