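import Mathlib.Algebra.MvPolynomial.PDeriv
import Mathlib.RingTheory.Kaehler.Basic
import Mathlib.RingTheory.Kaehler.TensorProduct
import Mathlib.RingTheory.LocalRing.Module
import Mathlib.RingTheory.Spectrum.Prime.Noetherian
import Mathlib.LinearAlgebra.Dimension.Free
import Mathlib.Algebra.CharP.Defs
import Mathlib.RingTheory.Etale.Kaehler
import Mathlib.RingTheory.Etale.Basic
import Mathlib.RingTheory.Ideal.KrullsHeightTheorem

set_option autoImplicit false
universe u v

/-!
Finite algebras `B` over a field `K` of characteristic `p` with `Ω[B⁄K]` free of rank `r` over `B`: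
every local factor has dimension at least `p ^ r`, hence `Spec B` has at most
`dim B / p ^ r` points.
-/

open scoped TensorProduct

namespace Groth.Agent.Grpsch.KaehlerRank

section Monomials

variable {K : Type u} [Field K] {p : ℕ} [Fact p.Prime] [CharP K p]
variable {C : Type v} [CommRing C] [Algebra K C] [Nontrivial C]
variable {ι : Type*} [Finite ι]

omit [Nontrivial C] [Finite ι] [Fact p.Prime] [CharP K p] in
/-- Derivations with `D i (x j) = δ i j` act as partial derivatives on polynomials in `x`. -/
theorem derivation_aeval [DecidableEq ι] (x : ι → C) (D : ι → Derivation K C C)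
    (hD : ∀ i j, D i (x j) = if i = j then 1 else 0) (i : ι) (P : MvPolynomial ι K) :
    D i (MvPolynomial.aeval x P) = MvPolynomial.aeval x (MvPolynomial.pderiv i P) := by
  induction P using MvPolynomial.induction_on with
  | C a => simp
  | add P Q hP hQ => simp [hP, hQ]
  | mul_X P j hP =>
    rw [map_mul, Derivation.leibniz, hP, MvPolynomial.aeval_X, hD, Derivation.leibniz,
      MvPolynomial.pderiv_X]
    simp only [smul_eq_mul, map_add, map_mul, MvPolynomial.aeval_X, Pi.single_apply, eq_comm]
    split_ifs <;> simp

omit [Fact (Nat.Prime p)] [Finite ι] in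
/-- If `D i (x j) = δ i j` then the `x j` satisfy no polynomial equation of degree `< p` in every
variable. -/
theorem eq_zero_of_aeval_eq_zero [DecidableEq ι] (x : ι → C) (D : ι → Derivation K C C)
    (hD : ∀ i j, D i (x j) = if i = j then 1 else 0) (n : ℕ) :
    ∀ (P : MvPolynomial ι K), P.totalDegree ≤ n → (∀ m ∈ P.support, ∀ i, m i < p) →
      MvPolynomial.aeval x P = 0 → P = 0 := by
  induction n with
  | zero =>
    intro P hP _ h0
    rw [Nat.le_zero, MvPolynomial.totalDegree_eq_zero_iff_eq_C] at hP
    rw [hP, MvPolynomial.aeval_C, map_eq_zero_iff _ (algebraMap K C).injective] at h0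
    rw [hP, h0, map_zero]
  | succ n ih =>
    intro P hP hdeg h0
    -- all partial derivatives vanish
    have hpd : ∀ i, MvPolynomial.pderiv i P = 0 := by
      intro i
      have hsupp : ∀ m ∈ (MvPolynomial.pderiv i P).support,
          m + Finsupp.single i 1 ∈ P.support := by
        intro m hm
        rw [MvPolynomial.mem_support_iff, MvPolynomial.coeff_pderiv] at hm
        exact MvPolynomial.mem_support_iff.mpr (left_ne_zero_of_mul hm)
      apply ih
      · refine Finset.sup_le fun m hm => ?_
        have h1 := MvPolynomial.le_totalDegree (hsupp m hm)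
        rw [Finsupp.sum_add_index' (fun _ => rfl) (fun _ _ _ => rfl),
          Finsupp.sum_single_index rfl] at h1
        omega
      · intro m hm j
        refine lt_of_le_of_lt ?_ (hdeg _ (hsupp m hm) j)
        simp
      · rw [← derivation_aeval x D hD, h0, map_zero]
    -- hence `P` is constant
    have hconst : P = MvPolynomial.C (P.coeff 0) := by
      ext m
      rw [MvPolynomial.coeff_C]
      split_ifs with hm
      · rw [hm]
      · by_contra hne
        have hms : m ∈ P.support := MvPolynomial.mem_support_iff.mpr hne
        obtain ⟨i, hi⟩ : ∃ i, m i ≠ 0 := by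
          by_contra hall
          push Not at hall
          exact hm (Finsupp.ext fun i => (hall i).symm)
        have h1 := congrArg (MvPolynomial.coeff (m - Finsupp.single i 1)) (hpd i)
        rw [MvPolynomial.coeff_pderiv] at h1
        have hle : Finsupp.single i 1 ≤ m := by
          rw [Finsupp.single_le_iff]
          omega
        rw [tsub_add_cancel_of_le hle, MvPolynomial.coeff_zero, mul_eq_zero] at h1
        refine h1.elim hne fun h2 => ?_
        have h3 : ((m i : ℕ) : K) = 0 := by
          rw [← h2, Finsupp.tsub_apply, Finsupp.single_eq_same]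
          have : m i = (m i - 1) + 1 := by omega
          rw [this]
          push_cast
          simp
        rw [CharP.cast_eq_zero_iff K p] at h3
        exact absurd (Nat.le_of_dvd (Nat.pos_of_ne_zero hi) h3) (not_le.mpr (hdeg m hms i))
    rw [hconst, MvPolynomial.aeval_C, map_eq_zero_iff _ (algebraMap K C).injective] at h0
    rw [hconst, h0, map_zero]

omit [Fact (Nat.Prime p)] in
/-- If `D i (x j) = δ i j` for `i, j` in a finite set with `r` elements then the algebra has
dimension at least `p ^ r`. -/
theorem pow_le_finrank [Module.Finite K C] (x : ι → C) (D : ι → Derivation K C C)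
    [DecidableEq ι] (hD : ∀ i j, D i (x j) = if i = j then 1 else 0) :
    p ^ Nat.card ι ≤ Module.finrank K C := by
  classical
  have := Fintype.ofFinite ι
  let mon : (ι → Fin p) → MvPolynomial ι K := fun a =>
    MvPolynomial.monomial (Finsupp.equivFunOnFinite.symm fun i => (a i : ℕ)) 1
  have hmoninj : Function.Injective fun a : ι → Fin p =>
      Finsupp.equivFunOnFinite.symm fun i => (a i : ℕ) := by
    intro a b hab
    have := Finsupp.equivFunOnFinite.symm.injective hab
    funext i
    exact Fin.ext (congrFun this i)
  have hmon : LinearIndependent K mon := by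
    have := (MvPolynomial.basisMonomials ι K).linearIndependent.comp _ hmoninj
    exact this
  have hli : LinearIndependent K ((MvPolynomial.aeval x : MvPolynomial ι K →ₐ[K] C).toLinearMap ∘
      mon) := by
    refine hmon.map ?_
    rw [Submodule.disjoint_def]
    intro P hP hker
    refine eq_zero_of_aeval_eq_zero (p := p) x D hD P.totalDegree P le_rfl ?_ hker
    clear hker
    induction hP using Submodule.span_induction with
    | mem P hP =>
      obtain ⟨a, rfl⟩ := hP
      intro m hm i
      have := MvPolynomial.support_monomial_subset hm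
      rw [Finset.mem_singleton] at this
      rw [this]
      exact (a i).2
    | zero => simp
    | add P Q _ _ hP hQ =>
      intro m hm i
      rcases Finset.mem_union.mp (MvPolynomial.support_add hm) with h | h
      · exact hP m h i
      · exact hQ m h i
    | smul c P _ hP =>
      intro m hm i
      exact hP m (MvPolynomial.support_smul hm) i
  have := hli.fintype_card_le_finrank
  rw [Fintype.card_fun, Fintype.card_fin] at this
  rwa [Nat.card_eq_fintype_card]

end Monomials

section Local

variable {K : Type u} [Field K] {p : ℕ} [Fact p.Prime] [CharP K p]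

omit [Fact (Nat.Prime p)] in
/-- A local `K`-algebra `C` of finite dimension with `Ω[C⁄K]` free of rank `r` has dimension at
least `p ^ r`. -/
theorem pow_finrank_kaehler_le_of_isLocalRing (C : Type u) [CommRing C] [Algebra K C]
    [Module.Finite K C] [IsLocalRing C] [Module.Free C (Ω[C⁄K])] :
    p ^ Module.finrank C (Ω[C⁄K]) ≤ Module.finrank K C := by
  classical
  have : IsNoetherianRing C := IsNoetherianRing.of_finite K C
  have hfin : Module.Finite C (Ω[C⁄K]) := inferInstance
  have : Module.FinitePresentation C (Ω[C⁄K]) :=
    Module.finitePresentation_of_finite C _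
  obtain ⟨κ, a, b, hb⟩ := Module.exists_basis_of_span_of_flat (R := C) (M := Ω[C⁄K])
    (fun x : C => KaehlerDifferential.D K C x) (KaehlerDifferential.span_range_derivation K C)
  have hκ : Finite κ := Module.Finite.finite_basis b
  have := pow_le_finrank (K := K) (p := p) (C := C) a
    (fun i => (b.coord i).compDer (KaehlerDifferential.D K C)) (by
      intro i j
      have : (b.coord i).compDer (KaehlerDifferential.D K C) (a j) = b.coord i (b j) := by
        rw [hb j]; rfl
      rw [this, Module.Basis.coord_apply, Module.Basis.repr_self, Finsupp.single_apply]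
      simp only [eq_comm])
  rwa [Module.finrank_eq_nat_card_basis b]

end Local

section Cotangent

variable {K : Type u} [Field K] {C : Type u} [CommRing C] [Algebra K C] (ε : C →ₐ[K] K)

/-- The map `b ↦ [b - ε b]` with values in `I / I ^ 2`, `I` the kernel of `ε`. -/
noncomputable def cotLin : C →ₗ[K] (RingHom.ker ε).Cotangent where
  toFun b := (RingHom.ker ε).toCotangent ⟨b - algebraMap K C (ε b), by simp [RingHom.mem_ker]⟩
  map_add' a b := by
    rw [← map_add]
    congr 1
    ext
    simp
    ring
  map_smul' k b := by
    rw [RingHom.id_apply, ← LinearMap.map_smul_of_tower]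
    congr 1
    ext
    simp [Algebra.smul_def]
    ring

/-- The derivation `b ↦ [b - ε b]` with values in `I / I ^ 2`, `I` the kernel of `ε`. -/
noncomputable def cotDer : Derivation K C (RingHom.ker ε).Cotangent :=
  Derivation.mk' (cotLin ε) (by
    intro a b
    simp only [cotLin, LinearMap.coe_mk, AddHom.coe_mk]
    rw [← map_smul, ← map_smul, ← map_add, Ideal.toCotangent_eq]
    have h1 : a - algebraMap K C (ε a) ∈ RingHom.ker ε := by simp [RingHom.mem_ker]
    have h2 : b - algebraMap K C (ε b) ∈ RingHom.ker ε := by simp [RingHom.mem_ker]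
    have h3 := Ideal.mul_mem_mul h1 h2
    rw [← pow_two] at h3
    have h4 := neg_mem h3
    convert h4 using 1
    simp
    ring)

theorem cotDer_apply (b : C) (hb : b ∈ RingHom.ker ε) :
    cotDer ε b = (RingHom.ker ε).toCotangent ⟨b, hb⟩ := by
  change (RingHom.ker ε).toCotangent ⟨b - algebraMap K C (ε b), _⟩ = _
  congr 1
  ext
  have : ε b = 0 := hb
  simp [this]

variable [IsLocalRing C]

theorem ker_eq_maximalIdeal : RingHom.ker ε = IsLocalRing.maximalIdeal C := by
  have : (RingHom.ker ε).IsMaximal := RingHom.ker_isMaximal_of_surjective ε (fun k =>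
    ⟨algebraMap K C k, by simp⟩)
  exact IsLocalRing.eq_maximalIdeal this

/-- `m_C` is generated modulo `m_C ^ 2` by any `x i` such that the `d x i` generate `Ω`. -/
theorem maximalIdeal_le {ι : Type*} (x : ι → C) 
    (hx : Submodule.span C (Set.range fun i => KaehlerDifferential.D K C (x i)) = ⊤) :
    IsLocalRing.maximalIdeal C ≤ Ideal.span (Set.range fun i => x i - algebraMap K C (ε (x i))) ⊔
      IsLocalRing.maximalIdeal C ^ 2 := by
  intro c hc
  rw [← ker_eq_maximalIdeal ε] at hc ⊢
  have h1 : (KaehlerDifferential.D K C c) ∈ Submodule.span C (Set.range fun i =>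
      KaehlerDifferential.D K C (x i)) := hx ▸ Submodule.mem_top
  rw [Finsupp.mem_span_range_iff_exists_finsupp] at h1
  obtain ⟨a, ha⟩ := h1
  have h2 := congrArg (cotDer ε).liftKaehlerDifferential ha
  rw [Derivation.liftKaehlerDifferential_comp_D, cotDer_apply ε c hc, map_finsuppSum] at h2
  simp only [map_smul, Derivation.liftKaehlerDifferential_comp_D] at h2
  have hxi : ∀ i, x i - algebraMap K C (ε (x i)) ∈ RingHom.ker ε := fun i => by
    simp [RingHom.mem_ker]
  let w : RingHom.ker ε := a.sum fun i r => r • ⟨x i - algebraMap K C (ε (x i)), hxi i⟩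
  have h3 : (RingHom.ker ε).toCotangent w = (RingHom.ker ε).toCotangent ⟨c, hc⟩ := by
    rw [← h2, map_finsuppSum]
    simp only [map_smul]
    rfl
  rw [Ideal.toCotangent_eq] at h3
  have hw : (w : C) ∈ Ideal.span (Set.range fun i => x i - algebraMap K C (ε (x i))) := by
    have : (w : C) = a.sum fun i r => r * (x i - algebraMap K C (ε (x i))) := by
      simp [w, Finsupp.sum]
    rw [this]
    exact Ideal.sum_mem _ fun i _ => Ideal.mul_mem_left _ _ (Ideal.subset_span ⟨i, rfl⟩)
  have h4 := Submodule.add_mem_sup hw (neg_mem h3)
  convert h4 using 1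
  simp

include ε in
/-- Let `φ : R → C` be a surjection from a Noetherian local ring to a local `K`-algebra with
residue field `K`, with kernel contained in `m_R ^ 2`. Then `dim R` is at most the rank
of `Ω[C⁄K]`, if this is free of finite rank. -/
theorem ringKrullDim_le_finrank_kaehler [Module.Finite C (Ω[C⁄K])] [Module.Free C (Ω[C⁄K])]
    [IsNoetherianRing C] {R : Type u} [CommRing R] [IsLocalRing R] [IsNoetherianRing R]
    (φ : R →+* C) (hφ : Function.Surjective φ)
    (hker : RingHom.ker φ ≤ IsLocalRing.maximalIdeal R ^ 2) :
    ringKrullDim R ≤ (Module.finrank C (Ω[C⁄K]) : ℕ) := by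
  have : Module.FinitePresentation C (Ω[C⁄K]) :=
    Module.finitePresentation_of_finite C _
  obtain ⟨κ, a, b, hb⟩ := Module.exists_basis_of_span_of_flat (R := C) (M := Ω[C⁄K])
    (fun x : C => KaehlerDifferential.D K C x) (KaehlerDifferential.span_range_derivation K C)
  have hκ : Finite κ := Module.Finite.finite_basis b
  have hspan : Submodule.span C (Set.range fun i => KaehlerDifferential.D K C (a i)) = ⊤ := by
    rw [← b.span_eq]
    congr 2
    funext i
    rw [hb i]
  have h1 := maximalIdeal_le ε a hspan
  have hloc : IsLocalHom φ := hφ.isLocalHom φ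
  choose y hy using fun i => hφ (a i - algebraMap K C (ε (a i)))
  have hm : IsLocalRing.maximalIdeal R ≤ Ideal.span (Set.range y) ⊔
      IsLocalRing.maximalIdeal R ^ 2 := by
    intro r hr
    have hr' : φ r ∈ IsLocalRing.maximalIdeal C := by
      rwa [IsLocalRing.mem_maximalIdeal, mem_nonunits_iff, isUnit_map_iff,
        ← mem_nonunits_iff, ← IsLocalRing.mem_maximalIdeal]
    have h2 := h1 hr'
    have h3 : Ideal.span (Set.range fun i => a i - algebraMap K C (ε (a i))) ⊔
        IsLocalRing.maximalIdeal C ^ 2 = (Ideal.span (Set.range y) ⊔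
          IsLocalRing.maximalIdeal R ^ 2).map φ := by
      rw [Ideal.map_sup, Ideal.map_span, Ideal.map_pow, IsLocalRing.map_maximalIdeal_of_surjective φ hφ]
      congr 2
      ext z
      simp [hy]
    rw [h3, Ideal.mem_map_iff_of_surjective φ hφ] at h2
    obtain ⟨s, hs, hsr⟩ := h2
    have h4 : r - s ∈ RingHom.ker φ := by
      rw [RingHom.mem_ker, map_sub, hsr, sub_self]
    have h5 : r - s ∈ Ideal.span (Set.range y) ⊔ IsLocalRing.maximalIdeal R ^ 2 :=
      Ideal.mem_sup_right (hker h4)
    have := add_mem h5 hs
    simpa using this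
  have hym : Ideal.span (Set.range y) ≤ IsLocalRing.maximalIdeal R := by
    rw [Ideal.span_le]
    rintro _ ⟨i, rfl⟩
    rw [SetLike.mem_coe, IsLocalRing.mem_maximalIdeal, mem_nonunits_iff, ← isUnit_map_iff φ,
      hy, ← mem_nonunits_iff, ← IsLocalRing.mem_maximalIdeal, ← ker_eq_maximalIdeal ε]
    simp [RingHom.mem_ker]
  have heq : Ideal.span (Set.range y) = IsLocalRing.maximalIdeal R := by
    refine le_antisymm hym ?_
    refine Submodule.le_of_le_smul_of_le_jacobson_bot (I := IsLocalRing.maximalIdeal R)
      (IsNoetherian.noetherian _) (IsLocalRing.maximalIdeal_le_jacobson _) ?_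
    rw [smul_eq_mul, ← pow_two]
    exact hm
  refine (ringKrullDim_le_spanFinrank_maximalIdeal (R := R)).trans ?_
  rw [← heq]
  have h6 := Submodule.spanFinrank_span_le_ncard_of_finite (R := R) (Set.finite_range y)
  have h7 : (Set.range y).ncard ≤ Module.finrank C (Ω[C⁄K]) := by
    rw [Module.finrank_eq_nat_card_basis b, ← Set.image_univ, ← Set.ncard_univ]
    exact Set.ncard_image_le Set.finite_univ
  exact_mod_cast h6.trans h7

end Cotangent

section Global

variable (K : Type u) [Field K] (p : ℕ) [Fact p.Prime] [CharP K p]

omit [Fact (Nat.Prime p)] in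
/-- A finite `K`-algebra `B` with `Ω[B⁄K]` free of rank `r`: the number of points of `Spec B` times
`p ^ r` is at most `dim B`. -/
theorem card_primeSpectrum_mul_pow_le (B : Type u) [CommRing B] [Algebra K B]
    [Module.Finite K B] [Module.Free B (Ω[B⁄K])] :
    Nat.card (PrimeSpectrum B) * p ^ Module.finrank B (Ω[B⁄K]) ≤ Module.finrank K B := by
  classical
  have : IsArtinianRing B := IsArtinianRing.of_finite K B
  rcases subsingleton_or_nontrivial B with hB | hB
  · rw [Nat.card_of_isEmpty, zero_mul]
    exact Nat.zero_le _
  have : Fintype (PrimeSpectrum B) := Fintype.ofFinite _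
  rw [IsArtinianRing.finrank_eq_sum_primeSpectrum B K, Nat.card_eq_fintype_card, ← smul_eq_mul,
    ← Finset.card_univ]
  refine Finset.card_nsmul_le_sum _ _ _ fun P _ => ?_
  let C := Localization.AtPrime P.asIdeal
  have : Algebra.FormallyEtale B C :=
    Algebra.FormallyEtale.of_isLocalization P.asIdeal.primeCompl
  have : Module.Finite K C :=
    Module.Finite.of_surjective (Algebra.algHom K B C).toLinearMap
      (IsArtinianRing.localization_surjective P.asIdeal.primeCompl C)
  let e : C ⊗[B] Ω[B⁄K] ≃ₗ[C] Ω[C⁄K] :=
    KaehlerDifferential.tensorKaehlerEquivOfFormallyEtale K B C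
  have : Module.Free C (Ω[C⁄K]) := Module.Free.of_equiv e
  have h1 : Module.finrank C (Ω[C⁄K]) = Module.finrank B (Ω[B⁄K]) := by
    rw [← e.finrank_eq, Module.finrank_baseChange]
  rw [← h1]
  exact pow_finrank_kaehler_le_of_isLocalRing C

end Global

end Groth.Agent.Grpsch.KaehlerRank
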