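import Groth.Agent.Grpsch.KaehlerRank

set_option autoImplicit false
universe u v

/-!
Bounding the Krull dimension of a local ring by the rank of the differentials of an algebra
mapping onto its first order neighbourhood.
-/

open scoped TensorProduct

namespace Groth.Agent.Grpsch.KaehlerRank2

open Groth.Agent.Grpsch.KaehlerRank

variable {K : Type u} [Field K] {C : Type u} [CommRing C] [Algebra K C] (ε : C →ₐ[K] K)
  [IsLocalRing C]

/-- `m_C` is generated modulo `m_C ^ 2` by as many elements as generate `Ω`. -/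
theorem exists_maximalIdeal_le {ι : Type*} (w : ι → Ω[C⁄K])
    (hw : Submodule.span C (Set.range w) = ⊤) :
    ∃ y : ι → C, (∀ i, y i ∈ RingHom.ker ε) ∧
      IsLocalRing.maximalIdeal C ≤ Ideal.span (Set.range y) ⊔ IsLocalRing.maximalIdeal C ^ 2 := by
  choose y hy using fun i => (RingHom.ker ε).toCotangent_surjective
    ((cotDer ε).liftKaehlerDifferential (w i))
  refine ⟨fun i => (y i : C), fun i => (y i).2, ?_⟩
  intro c hc
  rw [← ker_eq_maximalIdeal ε] at hc ⊢
  have h1 : (KaehlerDifferential.D K C c) ∈ Submodule.span C (Set.range w) :=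
    hw ▸ Submodule.mem_top
  rw [Finsupp.mem_span_range_iff_exists_finsupp] at h1
  obtain ⟨a, ha⟩ := h1
  have h2 := congrArg (cotDer ε).liftKaehlerDifferential ha
  rw [Derivation.liftKaehlerDifferential_comp_D, cotDer_apply ε c hc, map_finsuppSum] at h2
  simp only [map_smul] at h2
  let z : RingHom.ker ε := a.sum fun i r => r • y i
  have h3 : (RingHom.ker ε).toCotangent z = (RingHom.ker ε).toCotangent ⟨c, hc⟩ := by
    rw [← h2, map_finsuppSum]
    simp only [map_smul, hy]
  rw [Ideal.toCotangent_eq] at h3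
  have hw : (z : C) ∈ Ideal.span (Set.range fun i => (y i : C)) := by
    have : (z : C) = a.sum fun i r => r * (y i : C) := by
      simp [z, Finsupp.sum]
    rw [this]
    exact Ideal.sum_mem _ fun i _ => Ideal.mul_mem_left _ _ (Ideal.subset_span ⟨i, rfl⟩)
  have h4 := Submodule.add_mem_sup hw (neg_mem h3)
  convert h4 using 1
  simp

include ε in
theorem ringKrullDim_le_card {ι : Type*} [Finite ι] (w : ι → Ω[C⁄K])
    (hw : Submodule.span C (Set.range w) = ⊤)
    {R : Type u} [CommRing R] [IsLocalRing R] [IsNoetherianRing R]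
    (φ : R →+* C) (hφ : Function.Surjective φ)
    (hker : RingHom.ker φ ≤ IsLocalRing.maximalIdeal R ^ 2) :
    ringKrullDim R ≤ (Nat.card ι : ℕ) := by
  obtain ⟨x, hx, h1⟩ := exists_maximalIdeal_le ε w hw
  have hloc : IsLocalHom φ := hφ.isLocalHom φ
  choose y hy using fun i => hφ (x i)
  have hm : IsLocalRing.maximalIdeal R ≤ Ideal.span (Set.range y) ⊔
      IsLocalRing.maximalIdeal R ^ 2 := by
    intro r hr
    have hr' : φ r ∈ IsLocalRing.maximalIdeal C := by
      rwa [IsLocalRing.mem_maximalIdeal, mem_nonunits_iff, isUnit_map_iff,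
        ← mem_nonunits_iff, ← IsLocalRing.mem_maximalIdeal]
    have h2 := h1 hr'
    have h3 : Ideal.span (Set.range x) ⊔
        IsLocalRing.maximalIdeal C ^ 2 = (Ideal.span (Set.range y) ⊔
          IsLocalRing.maximalIdeal R ^ 2).map φ := by
      rw [Ideal.map_sup, Ideal.map_span, Ideal.map_pow,
        IsLocalRing.map_maximalIdeal_of_surjective φ hφ]
      congr 2
      ext z
      simp [hy]
    rw [h3, Ideal.mem_map_iff_of_surjective φ hφ] at h2
    obtain ⟨s, hs, hsr⟩ := h2
    have h4 : r - s ∈ RingHom.ker φ := by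
      rw [RingHom.mem_ker, map_sub, hsr, sub_self]
    have h5 : r - s ∈ Ideal.span (Set.range y) ⊔ IsLocalRing.maximalIdeal R ^ 2 :=
      Ideal.mem_sup_right (hker h4)
    have := add_mem h5 hs
    simpa using this
  have hym : Ideal.span (Set.range y) ≤ IsLocalRing.maximalIdeal R := by
    rw [Ideal.span_le]
    rintro _ ⟨i, rfl⟩
    rw [SetLike.mem_coe, IsLocalRing.mem_maximalIdeal, mem_nonunits_iff, ← isUnit_map_iff φ,
      hy, ← mem_nonunits_iff, ← IsLocalRing.mem_maximalIdeal, ← ker_eq_maximalIdeal ε]
    exact hx i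
  have heq : Ideal.span (Set.range y) = IsLocalRing.maximalIdeal R := by
    refine le_antisymm hym ?_
    refine Submodule.le_of_le_smul_of_le_jacobson_bot (I := IsLocalRing.maximalIdeal R)
      (IsNoetherian.noetherian _) (IsLocalRing.maximalIdeal_le_jacobson _) ?_
    rw [smul_eq_mul, ← pow_two]
    exact hm
  refine (ringKrullDim_le_spanFinrank_maximalIdeal (R := R)).trans ?_
  rw [← heq]
  have h6 := Submodule.spanFinrank_span_le_ncard_of_finite (R := R) (Set.finite_range y)
  have h7 : (Set.range y).ncard ≤ Nat.card ι := by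
    rw [← Set.image_univ, ← Set.ncard_univ]
    exact Set.ncard_image_le Set.finite_univ
  exact_mod_cast h6.trans h7

include ε in
/-- Let `τ : B → C` and `φ : R → C` be surjections to a local `K`-algebra with rational point,
`B` a `K`-algebra with `Ω[B⁄K]` free of finite rank and `R` a Noetherian local ring with
`ker φ ≤ m_R ^ 2`. Then `dim R` is at most the rank of `Ω[B⁄K]`. -/
theorem ringKrullDim_le_finrank {B : Type u} [CommRing B] [Algebra K B] [Nontrivial B]
    [Module.Free B (Ω[B⁄K])] [Module.Finite B (Ω[B⁄K])] (τ : B →ₐ[K] C)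
    (hτ : Function.Surjective τ) {R : Type u} [CommRing R] [IsLocalRing R] [IsNoetherianRing R]
    (φ : R →+* C) (hφ : Function.Surjective φ)
    (hker : RingHom.ker φ ≤ IsLocalRing.maximalIdeal R ^ 2) :
    ringKrullDim R ≤ (Module.finrank B (Ω[B⁄K]) : ℕ) := by
  let _ := τ.toRingHom.toAlgebra
  have : IsScalarTower K B C := IsScalarTower.of_algebraMap_eq fun x => (τ.commutes x).symm
  let b := Module.finBasis B (Ω[B⁄K])
  have hw : Submodule.span C (Set.range fun i => KaehlerDifferential.map K K B C (b i)) = ⊤ := by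
    have h1 := KaehlerDifferential.map_surjective_of_surjective K K (A := B) (B := C) hτ
    rw [eq_top_iff]
    rintro z -
    obtain ⟨x, rfl⟩ := h1 z
    rw [← b.sum_repr x, map_sum]
    refine Submodule.sum_mem _ fun i _ => ?_
    rw [map_smul, ← algebraMap_smul C (b.repr x i)]
    exact Submodule.smul_mem _ _ (Submodule.subset_span ⟨i, rfl⟩)
  have := ringKrullDim_le_card ε _ hw φ hφ hker
  simpa using this

end Groth.Agent.Grpsch.KaehlerRank2
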