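import Mathlib.CategoryTheory.Monoidal.Cartesian.GrpLimits
import Mathlib.CategoryTheory.Monoidal.Cartesian.Over
import Mathlib.AlgebraicGeometry.Group.Abelian
import Mathlib.AlgebraicGeometry.Group.Affine

set_option autoImplicit false
universe v u

/-!
Kernels of homomorphisms of group objects.
-/

open CategoryTheory Limits MonoidalCategory CartesianMonoidalCategory MonObj GrpObj

namespace Groth.Agent.Grpsch.KerMul

section cat

variable {C : Type u} [Category.{v} C] [CartesianMonoidalCategory C]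

theorem isMonHom_iff {A B : C} [MonObj A] [MonObj B] (f : A ⟶ B) :
    IsMonHom f ↔ (∀ {T : C} (a b : T ⟶ A), (a * b) ≫ f = (a ≫ f) * (b ≫ f)) ∧ η[A] ≫ f = η[B] := by
  constructor
  · intro h
    exact ⟨fun a b => MonObj.mul_comp a b f, IsMonHom.one_hom f⟩
  · rintro ⟨h1, h2⟩
    refine ⟨h2, ?_⟩
    have := h1 (fst A A) (snd A A)
    rw [← MonObj.mul_eq_mul] at this
    rw [this, Hom.mul_def]
    congr 1
    ext <;> simp

instance isMonHom_id_pow [BraidedCategory C] {A : C} [MonObj A] [IsCommMonObj A] (n : ℕ) :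
    IsMonHom ((𝟙 A) ^ n) := by
  rw [isMonHom_iff]
  refine ⟨fun a b => ?_, ?_⟩
  · rw [comp_pow, comp_pow, comp_pow, Category.comp_id, Category.comp_id, Category.comp_id,
      mul_pow]
  · rw [comp_pow, Category.comp_id, MonObj.one_eq_one, _root_.one_pow]

/-- The kernel of a homomorphism of group objects exists as a group object. -/
theorem exists_kernel [HasPullbacks C] {A B : C} [GrpObj A] [GrpObj B] (f : A ⟶ B) [IsMonHom f] :
    ∃ (F : C) (_ : GrpObj F) (i : F ⟶ A), IsMonHom i ∧ IsPullback i (toUnit F) f η[B] := by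
  let P : Grp C := pullback (Grp.ofHom f) (Grp.ofHom η[B])
  have hP : IsPullback (pullback.fst (Grp.ofHom f) (Grp.ofHom η[B]))
    (pullback.snd (Grp.ofHom f) (Grp.ofHom η[B])) (Grp.ofHom f) (Grp.ofHom η[B]) :=
      IsPullback.of_hasPullback _ _
  have hP' := hP.map (Grp.forget C)
  refine ⟨P.X, P.grp, (pullback.fst (Grp.ofHom f) (Grp.ofHom η[B])).hom.hom, ?_, ?_⟩
  · infer_instance
  · have h1 : (Grp.forget C).map (pullback.snd (Grp.ofHom f) (Grp.ofHom η[B])) = toUnit P.X :=
      toUnit_unique _ _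
    rw [h1] at hP'
    exact hP'

end cat

end Groth.Agent.Grpsch.KerMul
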