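import Groth.Agent.Grpsch.AbBC
import Groth.Agent.Flat2D.GenFlatRed4
import Groth.Agent.Sga5.AmpleFib

/-!
# A finite endomorphism of a group variety is flat
-/

set_option autoImplicit false

open CategoryTheory Limits MonoidalCategory CartesianMonoidalCategory MonObj AlgebraicGeometry

namespace Groth.Agent.Grpsch.MulFlat

open AbRing AbTangent AbStalk AbEtale AbBC

universe u

lemma flat_stalkMap_of_restrict {X Y : Scheme.{u}} (f : X ⟶ Y) (U : Y.Opens) [Flat (f ∣_ U)]
    (x : X) (hx : f x ∈ U) : (f.stalkMap x).hom.Flat := by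
  have h1 : (((f ∣_ U).stalkMap ⟨x, hx⟩)).hom.Flat := Flat.stalkMap (f ∣_ U) ⟨x, hx⟩
  exact (RingHom.Flat.respectsIso.arrow_mk_iso_iff (morphismRestrictStalkMap f U ⟨x, hx⟩)).mp h1

/-- A morphism from a Jacobson scheme is flat if it is so at all closed points. -/
theorem flat_of_stalkMap {X Y : Scheme.{u}} (f : X ⟶ Y) [JacobsonSpace X]
    (h : ∀ x : X, IsClosed {x} → (f.stalkMap x).hom.Flat) : Flat f := by
  refine ⟨fun {U} hU {V} hV e ↦ ?_⟩
  algebraize [(f.appLE U V e).hom]
  change Module.Flat Γ(Y, U) Γ(X, V)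
  have key (P : Ideal Γ(X, V)) [hP : P.IsMaximal] :
      Module.Flat Γ(Y, U) (Localization.AtPrime P) := by
    let m' : PrimeSpectrum Γ(X, V) := ⟨P, hP.isPrime⟩
    have hmcl : IsClosed {m'} := (PrimeSpectrum.isClosed_singleton_iff_isMaximal _).mpr hP
    let x : X := hV.fromSpec m'
    have hxV : x ∈ V := by
      have : x ∈ Set.range hV.fromSpec := ⟨m', rfl⟩
      rwa [hV.range_fromSpec] at this
    have hxcl : IsClosed {x} := by
      have h1 := (Scheme.Hom.isOpenEmbedding hV.fromSpec).preimage_closedPoints
      have h2 : m' ∈ closedPoints (Spec Γ(X, V)) := hmcl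
      rw [← h1] at h2
      exact h2
    have h4 : hV.primeIdealOf ⟨x, hxV⟩ = m' := by
      apply (Scheme.Hom.isOpenEmbedding hV.fromSpec).injective
      exact hV.fromSpec_primeIdealOf ⟨x, hxV⟩
    let p := (hU.primeIdealOf ⟨f x, e hxV⟩).asIdeal
    let q := (hV.primeIdealOf ⟨x, hxV⟩).asIdeal
    have hq : q = P := congrArg PrimeSpectrum.asIdeal h4
    have : q.LiesOver p :=
      ⟨congr($(IsAffineOpen.comap_primeIdealOf_appLE U hU V hV e hxV).1).symm⟩
    let := Localization.AtPrime.algebraOfLiesOver p q
    have h1 : Module.Flat (Localization.AtPrime p) (Localization.AtPrime q) := by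
      rw [← RingHom.flat_algebraMap_iff]
      exact (RingHom.Flat.respectsIso.arrow_mk_iso_iff
        (IsAffineOpen.arrowStalkMapIso f U hU V hV e hxV)).mp (h x hxcl)
    have h2 : Module.Flat Γ(Y, U) (Localization.AtPrime p) := IsLocalization.flat _ p.primeCompl
    have h3 : Module.Flat Γ(Y, U) (Localization.AtPrime q) :=
      .trans Γ(Y, U) (Localization.AtPrime p) (Localization.AtPrime q)
    have aux : ∀ (q : Ideal Γ(X, V)) [q.IsPrime], q = P →
        Module.Flat Γ(Y, U) (Localization.AtPrime q) →
        Module.Flat Γ(Y, U) (Localization.AtPrime P) := by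
      rintro q _ rfl h
      exact h
    exact aux q hq h3
  exact Module.flat_of_isLocalized_maximal Γ(X, V) Γ(X, V) (fun P ↦ Localization.AtPrime P)
    (fun P _ ↦ Algebra.linearMap Γ(X, V) (Localization.AtPrime P)) fun P _ ↦ key P

/-- Flatness codescends along faithfully flat ring maps. -/
theorem flat_codescends : RingHom.CodescendsAlong.{u} RingHom.Flat RingHom.FaithfullyFlat := by
  refine RingHom.CodescendsAlong.mk _ RingHom.Flat.respectsIso fun R S T _ _ _ _ _ h h' ↦ ?_
  rw [RingHom.flat_algebraMap_iff] at h' ⊢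
  rw [RingHom.faithfullyFlat_algebraMap_iff] at h
  exact Module.Flat.of_flat_tensorProduct R T S

theorem flat_descends : MorphismProperty.DescendsAlong @Flat
    (@Surjective ⊓ @Flat ⊓ @QuasiCompact : MorphismProperty Scheme.{u}) :=
  HasRingHomProperty.descendsAlong_flat flat_codescends

variable {K : Type u} [Field K]

/-- Over an algebraically closed field, a finite surjective homomorphism of reduced group schemes is flat. -/
theorem flat_of_isAlgClosed [IsAlgClosed K] {A B : Over (Spec (.of K))} [GrpObj A] [GrpObj B]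
    (f : A ⟶ B) [IsMonHom f] [LocallyOfFiniteType A.hom] [IsReduced B.left]
    [LocallyOfFiniteType f.left] [QuasiCompact f.left] [Surjective f.left] : Flat f.left := by
  have : JacobsonSpace A.left := LocallyOfFiniteType.jacobsonSpace A.hom
  refine flat_of_stalkMap _ (stalkMap_of_origin RingHom.Flat.respectsIso f ?_)
  obtain ⟨U, hU, hfl, -⟩ := Groth.Agent.Flat2D.GenFlatRed.exists_dense_flat_fp f.left
  have hne : Nonempty B.left := ⟨pt η[B]⟩
  obtain ⟨y, hy⟩ : (U : Set B.left).Nonempty := hU.nonempty
  obtain ⟨x₀, rfl⟩ := f.left.surjective y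
  obtain ⟨x, hxU, hx⟩ := nonempty_inter_closedPoints (X := A.left)
    (Z := ((f.left ⁻¹ᵁ U : A.left.Opens) : Set A.left)) ⟨x₀, hy⟩
    (f.left ⁻¹ᵁ U).isOpen.isLocallyClosed
  have h1 : (f.left.stalkMap x).hom.Flat := flat_stalkMap_of_restrict f.left U x hxU
  have hx' : IsClosed {x} := hx
  let z : 𝟙_ (Over (Spec (.of K))) ⟶ A :=
    Over.homMk (pointOfClosedPoint A.hom x hx') (pointOfClosedPoint_comp A.hom x hx')
  have hz : (transl z).left (pt η[A]) = x := by
    have h1 := congr(($(eta_transl z)).left (IsLocalRing.closedPoint K))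
    exact h1.trans (pointOfClosedPoint_apply A.hom x hx' _)
  rw [← hz] at h1
  exact (stalkMap_iff_of_iso RingHom.Flat.respectsIso (transl z).left (transl (z ≫ f)).left
    congr(($(transl_comp f z)).left) (pt η[A])).mp h1

section

attribute [local instance] Functor.grpObjObj

/-- If `[n]` is finite on an abelian variety, then it is flat. -/
theorem flat_zpow (A : Over (Spec (.of K))) [GrpObj A] [IsProper A.hom]
    [GeometricallyIntegral A.hom] (d : ℤ) (hfin : IsFinite (𝟙 A ^ d).left) :
    Flat (𝟙 A ^ d).left := by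
  have hpb := isPullback_pullback_map (Spec.map (CommRingCat.ofHom
    (algebraMap K (AlgebraicClosure K)))) (𝟙 A ^ d)
  have hfin' : IsFinite ((Over.pullback (Spec.map (CommRingCat.ofHom
    (algebraMap K (AlgebraicClosure K))))).map (𝟙 A ^ d)).left :=
    MorphismProperty.of_isPullback hpb.flip hfin
  have := flat_descends.{u}
  apply of_pullback_map (P := @Flat) (L := AlgebraicClosure K)
  rw [map_zpow_one] at hfin' ⊢
  have : IsProper ((Over.pullback (Spec.map (CommRingCat.ofHom
      (algebraMap K (AlgebraicClosure K))))).obj A).hom := by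
    dsimp; infer_instance
  have : GeometricallyIntegral ((Over.pullback (Spec.map (CommRingCat.ofHom
      (algebraMap K (AlgebraicClosure K))))).obj A).hom := by
    dsimp; infer_instance
  have : IsCommMonObj ((Over.pullback (Spec.map (CommRingCat.ofHom
      (algebraMap K (AlgebraicClosure K))))).obj A) :=
    isCommMonObj_of_isProper_of_geometricallyIntegral _
  have := isMonHom_zpow (A := (Over.pullback (Spec.map (CommRingCat.ofHom
      (algebraMap K (AlgebraicClosure K))))).obj A) d
  have hint : IsIntegral ((Over.pullback (Spec.map (CommRingCat.ofHom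
      (algebraMap K (AlgebraicClosure K))))).obj A).left :=
    GeometricallyIntegral.isIntegral_of_subsingleton ((Over.pullback (Spec.map (CommRingCat.ofHom
      (algebraMap K (AlgebraicClosure K))))).obj A).hom
  have : Surjective (𝟙 ((Over.pullback (Spec.map (CommRingCat.ofHom
      (algebraMap K (AlgebraicClosure K))))).obj A) ^ d).left :=
    Groth.Agent.Sga5.AmpleFib.surjective_of_isFinite (AlgebraicClosure K)
      ((Over.pullback (Spec.map (CommRingCat.ofHom
      (algebraMap K (AlgebraicClosure K))))).obj A).hom _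
  exact flat_of_isAlgClosed _

end

end Groth.Agent.Grpsch.MulFlat
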