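import Groth.Agent.Localalg.GrpSchShear
import Mathlib.AlgebraicGeometry.PullbackCarrier
import Mathlib.AlgebraicGeometry.Group.Abelian

set_option autoImplicit false
universe u v

/-!
Group schemes over a field: subsets stable under translation by a neighbourhood of the identity
are closed.
-/

open CategoryTheory Limits MonoidalCategory CartesianMonoidalCategory MonObj GrpObj
  AlgebraicGeometry

namespace Groth.Agent.Grpsch.OpenSubgroup

variable {K : Type u} [Field K] (G : Over (Spec (CommRingCat.of K))) [GrpObj G]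

/-- `T ⊗ G ≅ T ⊗ G`, `(t, g) ↦ (t, x(t) g)` for a `T`-valued point `x` of `G`. -/
noncomputable def pointShear {C : Type*} [Category C] [CartesianMonoidalCategory C]
    {T G : C} [GrpObj G] (x : T ⟶ G) : T ⊗ G ≅ T ⊗ G where
  hom := lift (fst T G) ((fst T G ≫ x) * snd T G)
  inv := lift (fst T G) ((fst T G ≫ x)⁻¹ * snd T G)
  hom_inv_id := by
    ext
    · simp
    · simp [comp_mul, comp_inv]
  inv_hom_id := by
    ext
    · simp
    · simp [comp_mul]

/-- The map `T ⊗ G ⟶ G`, `(t, g) ↦ x(t) g` is open. -/
theorem universallyOpen_act {T : Over (Spec (CommRingCat.of K))} (x : T ⟶ G) :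
    UniversallyOpen ((fst T G ≫ x) * snd T G).left := by
  have h : (pointShear x).hom ≫ snd T G = (fst T G ≫ x) * snd T G := by simp [pointShear]
  rw [← h, Over.comp_left]
  have h1 : IsIso (pointShear x).hom.left :=
    inferInstanceAs (IsIso ((Over.forget _).map (pointShear x).hom))
  have h2 : UniversallyOpen (pointShear x).hom.left := inferInstance
  have h3 : UniversallyOpen (snd T G).left :=
    Localalg.GrpSchShear.universallyOpen_snd_left K T G
  exact MorphismProperty.comp_mem _ _ _ h2 h3

set_option backward.isDefEq.respectTransparency false in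
/-- Let `U` be a symmetric open neighbourhood of the identity and `V` a subset with `V U ⊆ V`
(at the level of points of `G × G`). Then `V` is closed. -/
theorem isClosed_of_mul_mem (U V : Set G.left) (hU : IsOpen U)
    (he : η[G].left (IsLocalRing.closedPoint K) ∈ U)
    (hinv : ∀ x ∈ U, ι[G].left x ∈ U)
    (hmul : ∀ z : (G ⊗ G).left, (fst G G).left z ∈ V → (snd G G).left z ∈ U →
      μ[G].left z ∈ V) : IsClosed V := by
  rw [← closure_subset_iff_isClosed]
  intro x hx
  let T : Over (Spec (CommRingCat.of K)) := Over.mk (G.left.fromSpecResidueField x ≫ G.hom)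
  let xT : T ⟶ G := Over.homMk (G.left.fromSpecResidueField x)
  let m : T ⊗ G ⟶ G := (fst T G ≫ xT) * snd T G
  have hm : UniversallyOpen m.left := universallyOpen_act G xT
  have hxm : x ∈ m.left '' ((snd T G).left ⁻¹' U) := by
    have h1 : lift (𝟙 T) (toUnit T ≫ η[G]) ≫ m = xT := by
      simp only [m]
      rw [comp_mul, lift_fst_assoc, lift_snd, Category.id_comp, one_eq_one, MonObj.comp_one,
        _root_.mul_one]
    let p : T.left := IsLocalRing.closedPoint (G.left.residueField x)
    refine ⟨(lift (𝟙 T) (toUnit T ≫ η[G])).left p, ?_, ?_⟩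
    · rw [Set.mem_preimage, ← Scheme.Hom.comp_apply, ← Over.comp_left, lift_snd, Over.comp_left,
        Scheme.Hom.comp_apply]
      convert he
      exact Subsingleton.elim (α := PrimeSpectrum K) _ _
    · rw [← Scheme.Hom.comp_apply, ← Over.comp_left, h1]
      exact G.left.fromSpecResidueField_apply x _
  have hop : IsOpen (m.left '' ((snd T G).left ⁻¹' U)) :=
    m.left.isOpenMap _ (hU.preimage (snd T G).left.continuous)
  obtain ⟨_, ⟨w, hwU, rfl⟩, hwV⟩ := mem_closure_iff.mp hx _ hop hxm
  -- the point `z = (x, snd w)` of `G × G`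
  let z : (G ⊗ G).left := (lift (fst T G ≫ xT) (snd T G)).left w
  have hz1 : (fst G G).left z = x := by
    simp only [z]
    rw [← Scheme.Hom.comp_apply, ← Over.comp_left, lift_fst, Over.comp_left,
      Scheme.Hom.comp_apply]
    exact G.left.fromSpecResidueField_apply x _
  have hz2 : (snd G G).left z ∈ U := by
    simp only [z]
    rw [← Scheme.Hom.comp_apply, ← Over.comp_left, lift_snd]
    exact hwU
  have hz3 : μ[G].left z ∈ V := by
    simp only [z]
    rw [← Scheme.Hom.comp_apply, ← Over.comp_left]
    exact hwV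
  have h2 : lift μ[G] (snd G G ≫ ι[G]) ≫ μ[G] = fst G G := by
    rw [← Hom.mul_def, MonObj.mul_eq_mul, ← Hom.inv_def, mul_inv_cancel_right]
  let z' : (G ⊗ G).left := (lift μ[G] (snd G G ≫ ι[G])).left z
  have hz1' : (fst G G).left z' ∈ V := by
    simp only [z']
    rw [← Scheme.Hom.comp_apply, ← Over.comp_left, lift_fst]
    exact hz3
  have hz2' : (snd G G).left z' ∈ U := by
    simp only [z']
    rw [← Scheme.Hom.comp_apply, ← Over.comp_left, lift_snd, Over.comp_left,
      Scheme.Hom.comp_apply]
    exact hinv _ hz2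
  have hz3' : μ[G].left z' = x := by
    simp only [z']
    rw [← Scheme.Hom.comp_apply, ← Over.comp_left, h2, hz1]
  rw [← hz3']
  exact hmul z' hz1' hz2'

/-- Products of quasi-compact subsets are quasi-compact. -/
theorem isCompact_prod (X Y : Over (Spec (CommRingCat.of K))) (U : X.left.Opens)
    (V : Y.left.Opens) (hU : IsCompact (U : Set X.left)) (hV : IsCompact (V : Set Y.left)) :
    IsCompact ((fst X Y).left ⁻¹' U ∩ (snd X Y).left ⁻¹' V) := by
  have : CompactSpace U := isCompact_iff_compactSpace.mp hU
  have : CompactSpace V := isCompact_iff_compactSpace.mp hV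
  have : QuasiCompact (V.ι ≫ Y.hom) := by
    rw [quasiCompact_iff_compactSpace]
    infer_instance
  have hc : CompactSpace ↑(pullback (U.ι ≫ X.hom) (V.ι ≫ Y.hom)) := inferInstance
  have := Scheme.Pullback.range_map (U.ι ≫ X.hom) (V.ι ≫ Y.hom) X.hom Y.hom U.ι V.ι (𝟙 _)
    (by simp) (by simp)
  rw [Scheme.Opens.range_ι, Scheme.Opens.range_ι] at this
  rw [Over.fst_left, Over.snd_left, ← this]
  exact isCompact_range (Scheme.Hom.continuous _)

end Groth.Agent.Grpsch.OpenSubgroup
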