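import Mathlib.AlgebraicGeometry.Pullbacks
import Mathlib.CategoryTheory.Monoidal.Cartesian.Over
import Mathlib.CategoryTheory.Monoidal.Cartesian.Grp

/-!
# The shear square of a group scheme
-/

set_option autoImplicit false
universe u
open CategoryTheory CategoryTheory.Limits MonoidalCategory CartesianMonoidalCategory MonObj GrpObj
open AlgebraicGeometry

namespace Groth.Agent.Grpsch.ShearGrp

variable {S : Scheme.{u}} (G : Over S) [GrpObj G]

/-- `(a, b) ↦ a⁻¹ b` on points. -/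
noncomputable def dmul {T : Scheme.{u}} (a b : T ⟶ G.left) (h : a ≫ G.hom = b ≫ G.hom) :
    T ⟶ G.left :=
  ((Over.homMk a : Over.mk (a ≫ G.hom) ⟶ G)⁻¹ *
    (Over.homMk b h.symm : Over.mk (a ≫ G.hom) ⟶ G)).left

/-- `(a, b) ↦ a b` on points. -/
noncomputable def mul {T : Scheme.{u}} (a b : T ⟶ G.left) (h : a ≫ G.hom = b ≫ G.hom) :
    T ⟶ G.left :=
  ((Over.homMk a : Over.mk (a ≫ G.hom) ⟶ G) *
    (Over.homMk b h.symm : Over.mk (a ≫ G.hom) ⟶ G)).left

variable {T T' : Scheme.{u}}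

lemma dmul_hom (a b : T ⟶ G.left) (h : a ≫ G.hom = b ≫ G.hom) :
    dmul G a b h ≫ G.hom = a ≫ G.hom := Over.w _

lemma mul_hom (a b : T ⟶ G.left) (h : a ≫ G.hom = b ≫ G.hom) :
    mul G a b h ≫ G.hom = a ≫ G.hom := Over.w _

lemma comp_dmul (v : T' ⟶ T) (a b : T ⟶ G.left) (h : a ≫ G.hom = b ≫ G.hom) :
    v ≫ dmul G a b h = dmul G (v ≫ a) (v ≫ b) (by rw [Category.assoc, Category.assoc, h]) := by
  let V : Over.mk ((v ≫ a) ≫ G.hom) ⟶ Over.mk (a ≫ G.hom) := Over.homMk v (by simp)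
  have h1 : V ≫ ((Over.homMk a : Over.mk (a ≫ G.hom) ⟶ G)⁻¹ *
    (Over.homMk b h.symm : Over.mk (a ≫ G.hom) ⟶ G)) = (V ≫ Over.homMk a)⁻¹ *
      (V ≫ Over.homMk b h.symm) := by
    rw [MonObj.comp_mul, GrpObj.comp_inv]
  exact congrArg (fun k => k.left) h1

lemma dmul_self (a : T ⟶ G.left) (b : T ⟶ G.left) (hab : a = b) (h : a ≫ G.hom = b ≫ G.hom) :
    dmul G a b h = (a ≫ G.hom) ≫ (η[G] : 𝟙_ (Over S) ⟶ G).left := by
  subst hab
  unfold dmul
  rw [inv_mul_cancel, Hom.one_def]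
  rfl

lemma eq_of_dmul (a b : T ⟶ G.left) (h : a ≫ G.hom = b ≫ G.hom) (x : T ⟶ S)
    (hx : dmul G a b h = x ≫ (η[G] : 𝟙_ (Over S) ⟶ G).left) : a = b ∧ a ≫ G.hom = x := by
  have h0 : (η[G] : 𝟙_ (Over S) ⟶ G).left ≫ G.hom = 𝟙 S := Over.w _
  have h1 : a ≫ G.hom = x := by
    have h2 := congrArg (fun k => k ≫ G.hom) hx
    simp only [dmul_hom, Category.assoc] at h2
    rw [h2]
    exact (congrArg (fun k => x ≫ k) h0).trans (Category.comp_id x)
  refine ⟨?_, h1⟩
  subst h1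
  have h3 : (Over.homMk a : Over.mk (a ≫ G.hom) ⟶ G)⁻¹ *
      (Over.homMk b h.symm : Over.mk (a ≫ G.hom) ⟶ G) = 1 := by
    apply Over.OverMorphism.ext
    rw [Hom.one_def]
    exact hx
  have h4 := inv_mul_eq_one.mp h3
  exact congrArg (fun k => k.left) h4

lemma dmul_mul (a b : T ⟶ G.left) (h : a ≫ G.hom = b ≫ G.hom)
    (h' : a ≫ G.hom = mul G a b h ≫ G.hom) : dmul G a (mul G a b h) h' = b := by
  unfold dmul
  have h1 : (Over.homMk (mul G a b h) h'.symm : Over.mk (a ≫ G.hom) ⟶ G) =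
      (Over.homMk a : Over.mk (a ≫ G.hom) ⟶ G) *
        (Over.homMk b h.symm : Over.mk (a ≫ G.hom) ⟶ G) := by
    apply Over.OverMorphism.ext
    rfl
  rw [h1, inv_mul_cancel_left]
  rfl

lemma eq_mul_of_dmul (a b c : T ⟶ G.left) (h : a ≫ G.hom = b ≫ G.hom)
    (h' : a ≫ G.hom = c ≫ G.hom) (hc : dmul G a b h = c) : b = mul G a c h' := by
  unfold mul
  have h1 : (Over.homMk c h'.symm : Over.mk (a ≫ G.hom) ⟶ G) =
      (Over.homMk a : Over.mk (a ≫ G.hom) ⟶ G)⁻¹ *
        (Over.homMk b h.symm : Over.mk (a ≫ G.hom) ⟶ G) := by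
    apply Over.OverMorphism.ext
    exact hc.symm
  rw [h1, mul_inv_cancel_left]
  rfl

/-- `G ×_S G → G`, `(a, b) ↦ a⁻¹ b`. -/
noncomputable def sub : pullback G.hom G.hom ⟶ G.left :=
  dmul G (pullback.fst _ _) (pullback.snd _ _) pullback.condition

lemma comp_sub (v : T ⟶ pullback G.hom G.hom) :
    v ≫ sub G = dmul G (v ≫ pullback.fst _ _) (v ≫ pullback.snd _ _)
      (by rw [Category.assoc, Category.assoc, pullback.condition]) := comp_dmul G _ _ _ _

/-- The diagonal of a group scheme is a base change of the unit section. -/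
theorem isPullback_diagonal :
    IsPullback (pullback.diagonal G.hom) G.hom (sub G) (η[G] : 𝟙_ (Over S) ⟶ G).left := by
  refine ⟨⟨?_⟩, ⟨PullbackCone.IsLimit.mk _ (fun r => r.fst ≫ pullback.fst G.hom G.hom) ?_ ?_ ?_⟩⟩
  · rw [comp_sub]
    refine (dmul_self G _ _ (by simp) _).trans ?_
    rw [pullback.diagonal_fst, Category.id_comp]
  · intro r
    have h1 := (comp_sub G r.fst).symm.trans r.condition
    obtain ⟨h2, -⟩ := eq_of_dmul G _ _ _ _ h1
    apply pullback.hom_ext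
    · simp
    · simpa using h2
  · intro r
    have h1 := (comp_sub G r.fst).symm.trans r.condition
    exact (eq_of_dmul G _ _ _ _ h1).2
  · intro r m h1 h2
    rw [← h1]
    simp

/-- The shear isomorphism, as a cartesian square. -/
theorem isPullback_sub_fst : IsPullback (sub G) (pullback.fst G.hom G.hom) G.hom G.hom := by
  refine ⟨⟨dmul_hom G _ _ _⟩, ⟨PullbackCone.IsLimit.mk _ (fun r =>
    pullback.lift r.snd (mul G r.snd r.fst r.condition.symm) (mul_hom G _ _ _).symm) ?_ ?_ ?_⟩⟩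
  · intro r
    rw [comp_sub]
    have : ∀ (a a' b b' : r.pt ⟶ G.left) (ha : a = a') (hb : b = b')
        (h : a ≫ G.hom = b ≫ G.hom), dmul G a b h = dmul G a' b' (by rw [← ha, ← hb, h]) := by
      intro a a' b b' ha hb h
      subst ha hb; rfl
    rw [this _ _ _ _ (pullback.lift_fst _ _ _) (pullback.lift_snd _ _ _)]
    exact dmul_mul G _ _ _ _
  · intro r
    exact pullback.lift_fst _ _ _
  · intro r m h1 h2
    apply pullback.hom_ext
    · rw [pullback.lift_fst, h2]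
    · rw [pullback.lift_snd]
      rw [comp_sub] at h1
      have h3 := eq_mul_of_dmul G _ _ _ _ (by
        rw [h2]; exact r.condition.symm) h1
      rw [h3]
      have : ∀ (a a' b : r.pt ⟶ G.left) (ha : a = a')
        (h : a ≫ G.hom = b ≫ G.hom), mul G a b h = mul G a' b (by rw [← ha, h]) := by
        intro a a' b ha h
        subst ha; rfl
      exact this _ _ _ h2 _

end Groth.Agent.Grpsch.ShearGrp
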