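import Groth.Agent.Grpsch.Cotangent
import Mathlib.AlgebraicGeometry.Morphisms.ClosedImmersion
import Mathlib.AlgebraicGeometry.Stalk

set_option autoImplicit false
universe u

/-!
The first order neighbourhood of the identity of a group scheme over a field.
-/

open CategoryTheory Limits MonoidalCategory CartesianMonoidalCategory MonObj GrpObj
  AlgebraicGeometry

namespace Groth.Agent.Grpsch.TangentPoint

open Groth.Agent.Grpsch.Cotangent

variable {K : Type u} [Field K]

/-- The identity point is closed. -/
theorem isClosed_unit (A : Over (Spec (CommRingCat.of K))) [GrpObj A] :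
    IsClosed ({η[A].left (IsLocalRing.closedPoint K)} : Set A.left) := by
  have h1 := η[A].left.isClosedEmbedding.isClosed_range
  have hne : Nonempty ↥(𝟙_ (Over (Spec (CommRingCat.of K)))).left :=
    ⟨IsLocalRing.closedPoint K⟩
  have hsub : Subsingleton (PrimeSpectrum K) := inferInstance
  rwa [Set.range_eq_singleton (y := η[A].left (IsLocalRing.closedPoint K))] at h1
  intro x
  exact congrArg _ (hsub.elim _ _)

/-- The first order neighbourhood `t : Spec Q → A`, `Q = O_{A, e} / m ^ 2`, of the identity. -/
theorem exists_tangentPoint (A : Over (Spec (CommRingCat.of K))) [GrpObj A] :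
    ∃ (Q : Type u) (_ : CommRing Q) (_ : IsLocalRing Q) (_ : Algebra K Q) (ε : Q →ₐ[K] K)
      (φ : A.left.presheaf.stalk (η[A].left (IsLocalRing.closedPoint K)) →+* Q)
      (t : Sp K Q ⟶ A), (∀ x y, ε x = 0 → ε y = 0 → x * y = 0) ∧ Function.Surjective φ ∧
      RingHom.ker φ = IsLocalRing.maximalIdeal
        (A.left.presheaf.stalk (η[A].left (IsLocalRing.closedPoint K))) ^ 2 ∧
      SpMap ε ≫ t = 1 ∧ IsClosedImmersion t.left := by
  let e : A.left := η[A].left (IsLocalRing.closedPoint K)
  let R := A.left.presheaf.stalk e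
  let m : Ideal R := IsLocalRing.maximalIdeal R
  -- the algebra structure
  let αR : CommRingCat.of K ⟶ R := Spec.preimage (A.left.fromSpecStalk e ≫ A.hom)
  have hαR : Spec.map αR = A.left.fromSpecStalk e ≫ A.hom := Spec.map_preimage _
  let _ : Algebra K R := αR.hom.toAlgebra
  let Q : Type u := R ⧸ (m ^ 2)
  have hm2 : m ^ 2 ≤ m := Ideal.pow_le_self two_ne_zero
  have hQ : Nontrivial Q := Ideal.Quotient.nontrivial_iff.mpr
    (fun h => (IsLocalRing.maximalIdeal.isMaximal R).ne_top (eq_top_iff.mpr (h ▸ hm2)))
  have hloc : IsLocalRing Q := .of_surjective' (Ideal.Quotient.mk (m ^ 2))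
    Ideal.Quotient.mk_surjective
  -- the augmentation
  let σ : R →+* K := (Scheme.stalkClosedPointTo (R := CommRingCat.of K) η[A].left).hom
  have hσloc : IsLocalHom σ :=
    Scheme.isLocalHom_stalkClosedPointTo (R := CommRingCat.of K) η[A].left
  have hσm : ∀ x ∈ m, σ x = 0 := by
    intro x hx
    by_contra h
    have : IsUnit (σ x) := isUnit_iff_ne_zero.mpr h
    have := (isUnit_map_iff σ x).mp this
    exact (IsLocalRing.mem_maximalIdeal x).mp hx this
  have hσ0 : ∀ x, σ x = 0 → x ∈ m := by
    intro x hx
    rw [IsLocalRing.mem_maximalIdeal, mem_nonunits_iff]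
    intro h
    have := h.map σ
    rw [hx] at this
    exact not_isUnit_zero this
  let ε₀ : Q →+* K := Ideal.Quotient.lift (m ^ 2) σ fun x hx => hσm x (hm2 hx)
  have hση : Spec.map (Scheme.stalkClosedPointTo (R := CommRingCat.of K) η[A].left) ≫
      A.left.fromSpecStalk e = η[A].left :=
    Scheme.Spec_stalkClosedPointTo_fromSpecStalk (R := CommRingCat.of K) η[A].left
  have hσα' : αR ≫ Scheme.stalkClosedPointTo (R := CommRingCat.of K) η[A].left = 𝟙 _ := by
    apply Spec.map_injective
    rw [Spec.map_comp, hαR, ← Category.assoc, hση, Spec.map_id]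
    exact Over.w η[A]
  have hσα : ∀ k : K, σ (αR.hom k) = k := by
    intro k
    exact congr(($hσα').hom k)
  let ε : Q →ₐ[K] K := { ε₀ with commutes' := fun k => hσα k }
  let t : Sp K Q ⟶ A := Over.homMk
    (Spec.map (CommRingCat.ofHom (Ideal.Quotient.mk (m ^ 2))) ≫ A.left.fromSpecStalk e) (by
      rw [Category.assoc, ← hαR, ← Spec.map_comp]
      rfl)
  refine ⟨Q, inferInstance, hloc, inferInstance, ε, Ideal.Quotient.mk (m ^ 2), t, ?_,
    Ideal.Quotient.mk_surjective, Ideal.mk_ker, ?_, ?_⟩
  · intro x y hx hy
    obtain ⟨x, rfl⟩ := Ideal.Quotient.mk_surjective x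
    obtain ⟨y, rfl⟩ := Ideal.Quotient.mk_surjective y
    rw [← map_mul, Ideal.Quotient.eq_zero_iff_mem, pow_two]
    exact Ideal.mul_mem_mul (hσ0 x hx) (hσ0 y hy)
  · ext1
    have h1 : (1 : Sp K K ⟶ A).left = η[A].left := by
      have h2 : (toUnit (Sp K K)).left = 𝟙 (Spec (CommRingCat.of K)) := by
        rw [Over.toUnit_left]
        exact Spec.map_id _
      rw [Hom.one_def, Over.comp_left, h2]
      exact Category.id_comp _
    rw [h1, Over.comp_left]
    change Spec.map _ ≫ Spec.map (CommRingCat.ofHom (Ideal.Quotient.mk (m ^ 2))) ≫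
      A.left.fromSpecStalk e = _
    rw [← Category.assoc, ← Spec.map_comp]
    exact hση
  · have hpre : IsPreimmersion t.left := by
      have : IsClosedImmersion (Spec.map (CommRingCat.ofHom (Ideal.Quotient.mk (m ^ 2)))) :=
        IsClosedImmersion.spec_of_surjective _ Ideal.Quotient.mk_surjective
      have h1 : IsPreimmersion (Spec.map (CommRingCat.ofHom (Ideal.Quotient.mk (m ^ 2)))) :=
        inferInstance
      have h2 : IsPreimmersion (A.left.fromSpecStalk e) := inferInstance
      exact @IsPreimmersion.comp _ _ _ _ _ h1 h2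
    refine IsClosedImmersion.of_isPreimmersion _ ?_
    have hsub : Subsingleton (PrimeSpectrum Q) := by
      refine ⟨fun p q => ?_⟩
      have key : ∀ p : PrimeSpectrum Q, p = IsLocalRing.closedPoint Q := by
        intro p
        ext1
        refine le_antisymm (IsLocalRing.le_maximalIdeal p.2.ne_top) ?_
        intro x hx
        have h0 : x ^ 2 = 0 := by
          obtain ⟨x, rfl⟩ := Ideal.Quotient.mk_surjective x
          have hxm : x ∈ m := by
            by_contra h
            rw [IsLocalRing.mem_maximalIdeal, mem_nonunits_iff, not_not] at h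
            exact hx (h.map _)
          rw [← map_pow, Ideal.Quotient.eq_zero_iff_mem]
          exact Ideal.pow_mem_pow hxm 2
        exact p.2.mem_of_pow_mem 2 (h0 ▸ p.asIdeal.zero_mem)
      rw [key p, key q]
    have hrange : Set.range t.left = {e} := by
      have hsub' : Subsingleton (Sp K Q).left := hsub
      have hne : Nonempty (Sp K Q).left := ⟨IsLocalRing.closedPoint Q⟩
      rw [Set.range_eq_singleton_iff]
      intro z
      have hz : z = IsLocalRing.closedPoint Q := hsub.elim _ _
      rw [hz]
      change (Spec.map (CommRingCat.ofHom (Ideal.Quotient.mk (m ^ 2))) ≫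
        A.left.fromSpecStalk e) (IsLocalRing.closedPoint Q) = e
      have hl : IsLocalHom (CommRingCat.ofHom (Ideal.Quotient.mk (m ^ 2))).hom :=
        Ideal.Quotient.mk_surjective.isLocalHom _
      rw [Scheme.Hom.comp_apply]
      have h5 := @Spec_closedPoint R (CommRingCat.of Q) inferInstance hloc
        (CommRingCat.ofHom (Ideal.Quotient.mk (m ^ 2))) hl
      exact (congrArg (A.left.fromSpecStalk e) h5).trans Scheme.fromSpecStalk_closedPoint
    rw [hrange]
    exact isClosed_unit A

end Groth.Agent.Grpsch.TangentPoint
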