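import Groth.Agent.Grpsch.FibRank
import Groth.Agent.Grpsch.Points
import Groth.Prelude.Def_Mor2

/-!
# Finite groupoids: the invariant thickening (Stacks 0ABA, 0ABB)
-/

set_option autoImplicit false

open CategoryTheory CategoryTheory.Limits AlgebraicGeometry Topology

namespace Groth.Agent.Grpsch.Thicken

open Groth.Agent.Grpsch.Points Groth.Agent.Grpsch.FibRank

universe u

variable {S : Scheme.{u}} (G : Grpd.GroupoidScheme S)

/-! ### Points -/

lemma exists_comp (r r₁ : G.R) (h : G.s r = G.t r₁) :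
    ∃ r₂ : G.R, G.s r₂ = G.s r₁ ∧ G.t r₂ = G.t r := by
  obtain ⟨z, hz1, hz2⟩ := Scheme.Pullback.exists_preimage_pullback r r₁ h
  refine ⟨G.c z, ?_, ?_⟩
  · rw [← Scheme.Hom.comp_apply, c_s, Scheme.Hom.comp_apply, hz2]
  · rw [← Scheme.Hom.comp_apply, c_t, Scheme.Hom.comp_apply, hz1]

lemma s_i (r : G.R) : G.s (G.i r) = G.t r := by rw [← Scheme.Hom.comp_apply, G.i_s]
lemma t_i (r : G.R) : G.t (G.i r) = G.s r := by rw [← Scheme.Hom.comp_apply, G.i_t]
lemma s_e (u : G.U) : G.s (G.e u) = u := by rw [← Scheme.Hom.comp_apply, G.e_s]; rfl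
lemma t_e (u : G.U) : G.t (G.e u) = u := by rw [← Scheme.Hom.comp_apply, G.e_t]; rfl

/-- The saturation `t(s⁻¹(E))`. -/
def sat (E : Set G.U) : Set G.U := G.t '' (G.s ⁻¹' E)

lemma subset_sat (E : Set G.U) : E ⊆ sat G E := fun u hu =>
  ⟨G.e u, by rw [Set.mem_preimage, s_e]; exact hu, t_e G u⟩

lemma sat_mem_aux (E : Set G.U) (r : G.R) (h : G.s r ∈ sat G E) : G.t r ∈ sat G E := by
  obtain ⟨r₁, h₁, h₂⟩ := h
  obtain ⟨r₂, h₃, h₄⟩ := exists_comp G r r₁ h₂.symm
  exact ⟨r₂, by rw [Set.mem_preimage, h₃]; exact h₁, h₄⟩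

lemma s_mem_sat_iff (E : Set G.U) (r : G.R) : G.s r ∈ sat G E ↔ G.t r ∈ sat G E :=
  ⟨sat_mem_aux G E r, fun h => by
    have := sat_mem_aux G E (G.i r) (by rwa [s_i])
    rwa [t_i] at this⟩

lemma isClosed_sat [IsFinite G.t] {E : Set G.U} (hE : IsClosed E) : IsClosed (sat G E) :=
  G.t.isClosedMap _ (hE.preimage G.s.continuous)

/-! ### The rank function -/

lemma rk_s_eq [IsFinite G.s] (r : G.R) : rk G.s (G.s r) = rk G.s (G.t r) := by
  rw [← rk_of_isPullback (isPullback_c_snd G) r, ← rk_of_isPullback (isPullback_fst_snd G) r]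

/-- the locus of local constancy of the rank. -/
def locConst : Set G.U := {u | ∀ᶠ u' in 𝓝 u, rk G.s u' = rk G.s u}

lemma isOpen_locConst : IsOpen (locConst G) := by
  rw [isOpen_iff_mem_nhds]
  intro u hu
  have hu' := hu.self_of_nhds
  obtain ⟨V, hV, hVo, huV⟩ := mem_nhds_iff.mp hu
  filter_upwards [hVo.mem_nhds huV] with v hv
  filter_upwards [hVo.mem_nhds hv] with w hw
  rw [hV hw, hV hv]

/-- the open `W`. -/
def W [IsFinite G.t] : G.U.Opens := ⟨(sat G (locConst G)ᶜ)ᶜ,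
  (isClosed_sat G (isOpen_locConst G).isClosed_compl).isOpen_compl⟩

lemma mem_W_iff [IsFinite G.t] (u : G.U) : u ∈ W G ↔ u ∉ sat G (locConst G)ᶜ := Iff.rfl

lemma preimage_W [IsFinite G.t] : G.s ⁻¹ᵁ W G = G.t ⁻¹ᵁ W G := by
  ext r
  change G.s r ∉ sat G _ ↔ G.t r ∉ sat G _
  rw [s_mem_sat_iff]

lemma W_subset_locConst [IsFinite G.t] (u : G.U) (hu : u ∈ W G) : u ∈ locConst G := by
  by_contra h
  exact hu (subset_sat G _ h)

lemma exists_closure_W [IsFinite G.s] [IsFinite G.t] (u : G.U) :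
    ∃ r : G.R, G.t r = u ∧ G.s r ∈ closure (W G : Set G.U) := by
  by_contra hcon
  push Not at hcon
  have hu : u ∉ sat G (closure (W G : Set G.U)) := by
    rintro ⟨r, h1, h2⟩
    exact hcon r h2 h1
  set D := sat G (closure (W G : Set G.U)) with hD
  have hDc : IsClosed D := isClosed_sat G isClosed_closure
  -- the minimum of the rank on the complement of `D`
  have hne : ∃ n : ℕ, ∃ v : G.U, v ∉ D ∧ rk G.s v = n := ⟨_, u, hu, rfl⟩
  classical
  let m := Nat.find hne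
  obtain ⟨v, hvD, hvm⟩ := Nat.find_spec hne
  have hmin : ∀ w : G.U, w ∉ D → m ≤ rk G.s w := fun w hw => Nat.find_min' hne ⟨w, hw, rfl⟩
  let Vm : Set G.U := Dᶜ ∩ {w | rk G.s w < m + 1}
  have hVmo : IsOpen Vm := hDc.isOpen_compl.inter (isOpen_rk_lt G.s (m + 1))
  have hVm : ∀ w ∈ Vm, rk G.s w = m := fun w hw =>
    le_antisymm (Nat.lt_succ_iff.mp hw.2) (hmin w hw.1)
  have hvVm : v ∈ Vm := ⟨hvD, by change rk G.s v < m + 1; rw [hvm]; exact Nat.lt_succ_self _⟩
  have hinv : ∀ r : G.R, G.t r ∈ Vm → G.s r ∈ Vm := by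
    rintro r ⟨h1, h2⟩
    refine ⟨?_, ?_⟩
    · change G.s r ∉ D
      rw [hD, s_mem_sat_iff]
      exact h1
    · change rk G.s (G.s r) < m + 1
      rw [rk_s_eq]
      exact h2
  have hVmW : v ∈ W G := by
    rintro ⟨r, h1, h2⟩
    apply h1
    have h3 : G.s r ∈ Vm := hinv r (by rw [h2]; exact hvVm)
    change ∀ᶠ u' in 𝓝 (G.s r), rk G.s u' = rk G.s (G.s r)
    filter_upwards [hVmo.mem_nhds h3] with w hw
    rw [hVm w hw, hVm _ h3]
  exact hvD (subset_sat G _ (subset_closure hVmW))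

/-- Points whose orbits consist of generic points lie in `W` if `s` is finitely presented. -/
lemma mem_W_of_generic [IsFinite G.s] [IsFinite G.t] [LocallyOfFinitePresentation G.s] (u : G.U)
    (h : ∀ r : G.R, G.s r = u → ∀ x : G.U, x ⤳ G.t r → x = G.t r) : u ∈ W G := by
  rintro ⟨r, h1, h2⟩
  apply h1
  apply eventually_rk_eq G.s
  have h3 := h (G.i r) (by rw [s_i, h2])
  rw [t_i] at h3
  exact h3

/-! ### The thickening -/

lemma isLocallyConstant_rk [IsFinite G.s] [IsFinite G.t] :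
    IsLocallyConstant (rk (G.s ∣_ W G)) := by
  rw [IsLocallyConstant.iff_eventually_eq]
  intro w
  have h1 : ∀ w : (W G : Scheme), rk (G.s ∣_ W G) w = rk G.s ((W G).ι w) := fun w =>
    rk_of_isPullback (isPullback_morphismRestrict G.s (W G)).flip w
  have h2 : ∀ᶠ u' in 𝓝 ((W G).ι w), rk G.s u' = rk G.s ((W G).ι w) :=
    W_subset_locConst G _ w.2
  have h3 := ((W G).ι.continuous.tendsto w).eventually h2
  filter_upwards [h3] with w' hw'
  rw [h1, h1, hw']

/-- the thickening `W' ⊆ W`. -/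
noncomputable def W' [IsFinite G.s] [IsFinite G.t] : (W G : Scheme.{u}).IdealSheafData :=
  flatSheaf (G.s ∣_ W G) (isLocallyConstant_rk G)

/-- the inclusion `W' → U`. -/
noncomputable abbrev κ [IsFinite G.s] [IsFinite G.t] : (W' G).subscheme ⟶ G.U :=
  (W' G).subschemeι ≫ (W G).ι

lemma snd_restrict_iff (P : MorphismProperty Scheme.{u}) [P.RespectsIso] {X Y T : Scheme.{u}}
    (f : X ⟶ Y) (W : Y.Opens) (a : T ⟶ W) :
    P (pullback.snd (f ∣_ W) a) ↔ P (pullback.snd f (a ≫ W.ι)) := by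
  have h := (IsPullback.of_hasPullback (f ∣_ W) a).paste_horiz
    (isPullback_morphismRestrict f W).flip
  rw [← h.isoPullback_hom_snd, P.cancel_left_of_respectsIso]

lemma snd_t_iff (P : MorphismProperty Scheme.{u}) [P.RespectsIso] {T : Scheme.{u}}
    (a : T ⟶ G.U) :
    P (pullback.snd G.t a) ↔ P (pullback.snd G.s a) := by
  have h := (IsPullback.of_hasPullback G.t a).paste_horiz (isPullback_i_t_s G)
  have h' : IsPullback (pullback.fst G.t a ≫ G.i) (pullback.snd G.t a) G.s a := by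
    simpa using h
  rw [← h'.isoPullback_hom_snd, P.cancel_left_of_respectsIso]

lemma snd_s_iff (P : MorphismProperty Scheme.{u}) [P.RespectsIso] {T : Scheme.{u}}
    (α : T ⟶ G.R) :
    P (pullback.snd G.s (α ≫ G.s)) ↔ P (pullback.snd G.s (α ≫ G.t)) := by
  have h1 := (IsPullback.of_hasPullback (pullback.snd G.s G.t) α).paste_horiz (isPullback_c_snd G)
  have h2 := (IsPullback.of_hasPullback (pullback.snd G.s G.t) α).paste_horiz
    (isPullback_fst_snd G)
  rw [← P.cancel_left_of_respectsIso h1.isoPullback.hom, h1.isoPullback_hom_snd,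
    ← P.cancel_left_of_respectsIso h2.isoPullback.hom, h2.isoPullback_hom_snd]

lemma exists_lift_iff [IsFinite G.s] [IsFinite G.t] {T : Scheme.{u}} (β : T ⟶ G.U) :
    (∃ g' : T ⟶ (W' G).subscheme, g' ≫ κ G = β) ↔
      (∀ x : T, β x ∈ W G) ∧ Flat (pullback.snd G.s β) := by
  constructor
  · rintro ⟨g', rfl⟩
    refine ⟨fun x => ?_, ?_⟩
    · rw [← Category.assoc, Scheme.Hom.comp_apply]
      exact ((g' ≫ (W' G).subschemeι) x).2
    · rw [← Category.assoc, ← snd_restrict_iff @Flat]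
      exact (flat_snd_iff_exists (G.s ∣_ W G) (isLocallyConstant_rk G) _).mpr ⟨g', rfl⟩
  · rintro ⟨h1, h2⟩
    let a : T ⟶ W G := IsOpenImmersion.lift (W G).ι β (by
      rintro _ ⟨x, rfl⟩
      simpa using h1 x)
    have ha : a ≫ (W G).ι = β := IsOpenImmersion.lift_fac _ _ _
    rw [← ha, ← snd_restrict_iff @Flat] at h2
    obtain ⟨g', hg'⟩ := (flat_snd_iff_exists (G.s ∣_ W G) (isLocallyConstant_rk G) a).mp h2
    refine ⟨g', ?_⟩
    rw [κ, ← Category.assoc]
    change (g' ≫ (flatSheaf (G.s ∣_ W G) (isLocallyConstant_rk G)).subschemeι) ≫ _ = _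
    rw [hg', ha]

lemma exists_lift_s_iff_t [IsFinite G.s] [IsFinite G.t] {T : Scheme.{u}} (α : T ⟶ G.R) :
    (∃ g' : T ⟶ (W' G).subscheme, g' ≫ κ G = α ≫ G.s) ↔
      (∃ g' : T ⟶ (W' G).subscheme, g' ≫ κ G = α ≫ G.t) := by
  rw [exists_lift_iff, exists_lift_iff, snd_s_iff G @Flat]
  have h : ∀ x : T, (α ≫ G.s) x ∈ W G ↔ (α ≫ G.t) x ∈ W G := by
    intro x
    rw [Scheme.Hom.comp_apply, Scheme.Hom.comp_apply]
    have := preimage_W G
    exact (SetLike.ext_iff.mp this) (α x)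
  simp only [h]

instance [IsFinite G.s] [IsFinite G.t] : Mono (κ G) := inferInstance

/-- the invariance isomorphism. -/
theorem exists_iso [IsFinite G.s] [IsFinite G.t] :
    ∃ φ : pullback G.s (κ G) ≅ pullback G.t (κ G),
      φ.hom ≫ pullback.fst G.t (κ G) = pullback.fst G.s (κ G) := by
  obtain ⟨a, ha⟩ := (exists_lift_s_iff_t G (pullback.fst G.s (κ G))).mp
    ⟨pullback.snd G.s (κ G), pullback.condition.symm⟩
  obtain ⟨b, hb⟩ := (exists_lift_s_iff_t G (pullback.fst G.t (κ G))).mpr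
    ⟨pullback.snd G.t (κ G), pullback.condition.symm⟩
  refine ⟨⟨pullback.lift (pullback.fst G.s (κ G)) a ha.symm,
    pullback.lift (pullback.fst G.t (κ G)) b hb.symm, ?_, ?_⟩, pullback.lift_fst _ _ _⟩
  · rw [← cancel_mono (pullback.fst G.s (κ G))]
    simp [pullback.lift_fst]
  · rw [← cancel_mono (pullback.fst G.t (κ G))]
    simp [pullback.lift_fst]

lemma isFinLocFree_s [IsFinite G.s] [IsFinite G.t] :
    Mor2.IsFinLocFree (pullback.snd G.s (κ G)) := by
  refine ⟨inferInstance, ?_, ?_⟩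
  · rw [← snd_restrict_iff @Flat]
    exact flat_snd_subschemeι (G.s ∣_ W G) (isLocallyConstant_rk G)
  · rw [← snd_restrict_iff @LocallyOfFinitePresentation]
    exact locallyOfFinitePresentation_snd_subschemeι (G.s ∣_ W G) (isLocallyConstant_rk G)

lemma isFinLocFree_t [IsFinite G.s] [IsFinite G.t] :
    Mor2.IsFinLocFree (pullback.snd G.t (κ G)) := by
  obtain ⟨h1, h2, h3⟩ := isFinLocFree_s G
  exact ⟨inferInstance, (snd_t_iff G @Flat _).mpr h2,
    (snd_t_iff G @LocallyOfFinitePresentation _).mpr h3⟩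

end Groth.Agent.Grpsch.Thicken
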