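import Mathlib.AlgebraicGeometry.Morphisms.UniversallyOpen
import Mathlib.AlgebraicGeometry.Morphisms.Flat
import Mathlib.AlgebraicGeometry.Stalk

/-!
# Points with a unique maximal generization

`UniAt x`: the point `x` of a topological space has at most one maximal generization. For a scheme
this says that the local ring at `x` has exactly one minimal prime, equivalently exactly one
irreducible component passes through `x`. The property descends along flat morphisms.
-/

set_option autoImplicit false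
universe u

open CategoryTheory CategoryTheory.Limits AlgebraicGeometry

namespace Groth.Agent.Grpsch.UniAt

/-- The point `x` has at most one maximal generization. -/
def UniAt {X : Type*} [TopologicalSpace X] (x : X) : Prop :=
  ∀ η₁ η₂ : X, η₁ ⤳ x → η₂ ⤳ x → (∀ y, y ⤳ η₁ → y = η₁) → (∀ y, y ⤳ η₂ → y = η₂) → η₁ = η₂

lemma closure_generic {X : Type*} [TopologicalSpace X] [T0Space X] {Z : Set X}
    (hZ : Z ∈ irreducibleComponents X) {η : X} (hη : IsGenericPoint η Z) (y : X) (hy : y ⤳ η) :
    y = η := by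
  have h1 : Z ⊆ closure {y} := by
    rw [← hη.def]
    exact (specializes_iff_closure_subset.mp hy)
  have h2 : closure {y} ⊆ Z := hZ.2 isIrreducible_singleton.closure h1
  have h3 : y ∈ closure {η} := by rw [hη.def]; exact h2 (subset_closure rfl)
  exact hy.antisymm (specializes_iff_mem_closure.mpr h3) |>.eq

lemma exists_maximal_generization {X : Type*} [TopologicalSpace X] [T0Space X] [QuasiSober X]
    (x : X) : ∃ η : X, η ⤳ x ∧ ∀ y, y ⤳ η → y = η := by
  have hZ := irreducibleComponent_mem_irreducibleComponents x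
  obtain ⟨η, hη⟩ := QuasiSober.sober (isIrreducible_irreducibleComponent (x := x))
    isClosed_irreducibleComponent
  refine ⟨η, ?_, closure_generic hZ hη⟩
  rw [specializes_iff_mem_closure, hη.def]
  exact mem_irreducibleComponent

/-- A generalizing map descends `UniAt`. -/
theorem UniAt.of_generalizingMap {X' X : Type*} [TopologicalSpace X'] [TopologicalSpace X]
    [T0Space X'] [QuasiSober X'] {f : X' → X} (hf : Continuous f) (hf' : GeneralizingMap f)
    {x' : X'} (h : UniAt x') : UniAt (f x') := by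
  intro η₁ η₂ h1 h2 hm1 hm2
  obtain ⟨y₁, hy₁, hfy₁⟩ := hf' h1
  obtain ⟨y₂, hy₂, hfy₂⟩ := hf' h2
  obtain ⟨z₁, hz₁, hzm₁⟩ := exists_maximal_generization y₁
  obtain ⟨z₂, hz₂, hzm₂⟩ := exists_maximal_generization y₂
  have e1 : f z₁ = η₁ := hm1 _ (by rw [← hfy₁]; exact hz₁.map hf)
  have e2 : f z₂ = η₂ := hm2 _ (by rw [← hfy₂]; exact hz₂.map hf)
  rw [← e1, ← e2, h z₁ z₂ (hz₁.trans hy₁) (hz₂.trans hy₂) hzm₁ hzm₂]

theorem UniAt.of_flat {X' X : Scheme.{u}} (f : X' ⟶ X) [Flat f] {x' : X'} (h : UniAt x') :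
    UniAt (f x') :=
  h.of_generalizingMap f.continuous (Flat.generalizingMap f)

/-- Exactly one irreducible component passes through `x`. -/
theorem UniAt.existsUnique_irreducibleComponent {X : Type*} [TopologicalSpace X] [T0Space X]
    [QuasiSober X] {x : X} (h : UniAt x) : ∃! Z : Set X, Z ∈ irreducibleComponents X ∧ x ∈ Z := by
  refine ⟨irreducibleComponent x, ⟨irreducibleComponent_mem_irreducibleComponents x,
    mem_irreducibleComponent⟩, ?_⟩
  rintro Z ⟨hZ, hxZ⟩
  obtain ⟨η₁, hη₁⟩ := QuasiSober.sober hZ.1 (isClosed_of_mem_irreducibleComponents Z hZ)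
  obtain ⟨η₂, hη₂⟩ := QuasiSober.sober (isIrreducible_irreducibleComponent (x := x))
    isClosed_irreducibleComponent
  have := h η₁ η₂ (by rw [specializes_iff_mem_closure, hη₁.def]; exact hxZ)
    (by rw [specializes_iff_mem_closure, hη₂.def]; exact mem_irreducibleComponent)
    (closure_generic hZ hη₁) (closure_generic (irreducibleComponent_mem_irreducibleComponents x) hη₂)
  rw [← hη₁.def, ← hη₂.def, this]

/-- The local ring at `x` has at most one minimal prime. -/
theorem UniAt.minimalPrimes_subsingleton {X : Scheme.{u}} {x : X} (h : UniAt x) :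
    (minimalPrimes (X.presheaf.stalk x)).Subsingleton := by
  have key : ∀ p (hp : p ∈ minimalPrimes (X.presheaf.stalk x)) (y : X),
      y ⤳ X.fromSpecStalk x (⟨p, hp.1.1⟩ : PrimeSpectrum _) →
      y = X.fromSpecStalk x (⟨p, hp.1.1⟩ : PrimeSpectrum _) := by
    intro p hp y hy
    have hx : X.fromSpecStalk x (⟨p, hp.1.1⟩ : PrimeSpectrum _) ⤳ x := by
      have : X.fromSpecStalk x (⟨p, hp.1.1⟩ : PrimeSpectrum _) ∈
        Set.range (X.fromSpecStalk x) := ⟨_, rfl⟩
      rw [Scheme.range_fromSpecStalk] at this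
      exact this
    obtain ⟨Q, rfl⟩ : y ∈ Set.range (X.fromSpecStalk x) := by
      rw [Scheme.range_fromSpecStalk]
      exact hy.trans hx
    have h1 : Q ⤳ (⟨p, hp.1.1⟩ : PrimeSpectrum _) :=
      ((X.fromSpecStalk x).isEmbedding.isInducing.specializes_iff).mp hy
    have h2 : Q.asIdeal ≤ p := (PrimeSpectrum.le_iff_specializes Q (⟨p, hp.1.1⟩ : PrimeSpectrum _)).mpr h1
    have h3 : p ≤ Q.asIdeal := hp.2 ⟨Q.2, bot_le⟩ h2
    have h4 : Q = (⟨p, hp.1.1⟩ : PrimeSpectrum _) := PrimeSpectrum.ext (le_antisymm h2 h3)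
    rw [h4]
  intro p hp q hq
  have hx : ∀ Q, X.fromSpecStalk x Q ⤳ x := by
    intro Q
    have : X.fromSpecStalk x Q ∈ Set.range (X.fromSpecStalk x) := ⟨_, rfl⟩
    rw [Scheme.range_fromSpecStalk] at this
    exact this
  have h1 := h _ _ (hx _) (hx _) (key p hp) (key q hq)
  have h2 := (X.fromSpecStalk x).isEmbedding.injective h1
  exact congrArg PrimeSpectrum.asIdeal h2

end Groth.Agent.Grpsch.UniAt
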